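import Cfsg.Prelude.Def_LocalEven

/-!
Sections: basic closure properties of `Cfsg.Involves`.
-/

set_option autoImplicit false
set_option linter.style.haveILetI false

namespace Cfsg.Agent.LocalEven61

variable {G : Type*} [Group G] {H : Type*} [Group H]

theorem involves_of_hom {A : Type*} [Group A] (f : A →* H) (hf : Function.Surjective f)
    (j : A →* G) (hj : Function.Injective j) : Cfsg.Involves H G := by
  let e : A ≃* j.range := MonoidHom.ofInjective hj
  let k : j.range →* H := f.comp e.symm.toMonoidHom
  have hk : (k.ker.map j.range.subtype).subgroupOf j.range = k.ker :=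
    Subgroup.comap_map_eq_self_of_injective Subtype.val_injective _
  haveI hn : ((k.ker.map j.range.subtype).subgroupOf j.range).Normal := by rw [hk]; infer_instance
  exact ⟨j.range, k.ker.map j.range.subtype, hn, ⟨(QuotientGroup.quotientMulEquivOfEq hk).trans
    (QuotientGroup.quotientKerEquivOfSurjective k (hf.comp e.symm.surjective))⟩⟩

theorem involves_of_surjective (K : Subgroup G) (f : ↥K →* H) (hf : Function.Surjective f) :
    Cfsg.Involves H G :=
  involves_of_hom f hf K.subtype K.subtype_injective

theorem exists_surjective_of_involves (h : Cfsg.Involves H G) :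
    ∃ (K : Subgroup G) (f : ↥K →* H), Function.Surjective f := by
  obtain ⟨K, R, hR, ⟨e⟩⟩ := h
  exact ⟨K, e.toMonoidHom.comp (QuotientGroup.mk' _),
    e.surjective.comp (QuotientGroup.mk'_surjective _)⟩

theorem involves_trans {M : Type*} [Group M] (h₁ : Cfsg.Involves H M) (h₂ : Cfsg.Involves M G) :
    Cfsg.Involves H G := by
  obtain ⟨K₁, f₁, hf₁⟩ := exists_surjective_of_involves h₁
  obtain ⟨K₂, f₂, hf₂⟩ := exists_surjective_of_involves h₂
  let g : ↥(K₁.comap f₂) →* ↥K₁ := f₂.subgroupComap K₁
  have hg : Function.Surjective g := fun a => by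
    obtain ⟨k, hk⟩ := hf₂ (a : M)
    exact ⟨⟨k, show f₂ k ∈ K₁ from hk ▸ a.2⟩, Subtype.ext hk⟩
  exact involves_of_hom (f₁.comp g) (hf₁.comp hg) (K₂.subtype.comp (K₁.comap f₂).subtype)
    (K₂.subtype_injective.comp (K₁.comap f₂).subtype_injective)

theorem involves_of_subgroup (K : Subgroup G) (h : Cfsg.Involves H ↥K) : Cfsg.Involves H G :=
  involves_trans h (involves_of_surjective K (MonoidHom.id _) fun a => ⟨a, rfl⟩)

theorem involves_quotient (N : Subgroup G) [N.Normal] : Cfsg.Involves (G ⧸ N) G :=
  involves_of_hom (QuotientGroup.mk' N) (QuotientGroup.mk'_surjective N) (MonoidHom.id G)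
    fun _ _ h => h

theorem involves_of_quotient (N : Subgroup G) [N.Normal] (h : Cfsg.Involves H (G ⧸ N)) :
    Cfsg.Involves H G :=
  involves_trans h (involves_quotient N)

theorem involves_congr {H' : Type*} [Group H'] (e : H ≃* H') (h : Cfsg.Involves H G) :
    Cfsg.Involves H' G := by
  obtain ⟨K, f, hf⟩ := exists_surjective_of_involves h
  exact involves_of_surjective K (e.toMonoidHom.comp f) (e.surjective.comp hf)

end Cfsg.Agent.LocalEven61
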