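import Cfsg.Agent.LocalEven61.Qd
import Cfsg.Agent.LocalEven61.Involves
import Cfsg.Agent.PLocalB.QdStable
import Cfsg.Agent.PLocalB.StableDefs
import Mathlib.Data.ZMod.Basic

/-!
Absence of `Qd(p)` sections and `p`-stability in the normalizer form.
-/

set_option autoImplicit false
set_option linter.style.haveILetI false

open scoped commutatorElement

namespace Cfsg.Agent.LocalEven61

variable {p : ℕ} [Fact p.Prime]

theorem isNormalizerPStable_of_not_involves {H : Type*} [Group H] [Finite H] (hp : p ≠ 2)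
    (h : ¬ Cfsg.Involves ↥(Cfsg.qd p) H) : Cfsg.IsNormalizerPStable p H := by
  intro P hP g hg hq
  by_contra hmem
  have hPN : P ≤ Subgroup.normalizer (P : Set H) := Subgroup.le_normalizer
  haveI : (P.subgroupOf (Subgroup.normalizer (P : Set H))).Normal := Subgroup.normal_in_normalizer
  haveI : ((Subgroup.centralizer (P : Set H)).subgroupOf
      (Subgroup.normalizer (P : Set H))).Normal := by
    rw [← PLocalB.centralizer_subgroupOf P _ hPN]; infer_instance
  let e := QuotientGroup.quotientMulEquivOfEq (PLocalB.centralizer_subgroupOf P _ hPN)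
  apply h
  refine involves_of_subgroup (Subgroup.normalizer (P : Set H))
    (PLocalB.exists_qd_section_of_not_stable hp (P.subgroupOf _)
      (hP.of_equiv (Subgroup.subgroupOfEquivOfLe hPN).symm) ⟨g, hg⟩ ?_ fun hm => hmem ?_)
  · apply Subgroup.map_injective (Subgroup.subtype_injective _)
    rw [Subgroup.map_commutator, Subgroup.map_commutator, Subgroup.map_bot,
      Subgroup.map_subgroupOf_eq_of_le hPN, MonoidHom.map_zpowers]
    exact hq
  · rw [← Thompson.map_pCore_equiv e]
    exact ⟨_, hm, rfl⟩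

theorem qdTrans_eq_zero_of_centralizes {F : Type*} [Field F] {g : ↥(Cfsg.qdOver F)}
    (h : g ∈ Subgroup.centralizer ((qdLin (F := F)).ker : Set ↥(Cfsg.qdOver F))) : qdLin g = 1 := by
  refine Subtype.ext (Matrix.ext_of_mulVec_single fun i => ?_)
  rw [Matrix.SpecialLinearGroup.coe_one, Matrix.one_mulVec]
  have h1 := Subgroup.mem_centralizer_iff.1 h (qdAff (Pi.single i 1) 1) (qdLin_qdAff _ _)
  have h2 := qd_conj_ker g (Pi.single i 1)
  rw [← h1, mul_inv_cancel_right] at h2
  have h3 := congrArg qdTrans h2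
  rwa [qdTrans_qdAff, qdTrans_qdAff, eq_comm] at h3

theorem qd_quadratic :
    ⁅⁅(qdLin (F := ZMod p)).ker, Subgroup.zpowers (qdAff (0 : Fin 2 → ZMod p) (PLocalB.upper 1))⁆,
      Subgroup.zpowers (qdAff (0 : Fin 2 → ZMod p) (PLocalB.upper 1))⁆ = ⊥ := by
  rw [Subgroup.commutator_eq_bot_iff_le_centralizer]
  rw [Subgroup.commutator_le]
  intro v hv x hx
  have hv1 : qdLin v = 1 := hv
  obtain ⟨k, rfl⟩ := Subgroup.mem_zpowers_iff.1 hx
  refine Subgroup.mem_centralizer_iff.2 fun y hy => ?_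
  obtain ⟨j, rfl⟩ := Subgroup.mem_zpowers_iff.1 hy
  set g := qdAff (0 : Fin 2 → ZMod p) (PLocalB.upper 1) with hg
  have hpow : ∀ k : ℤ, ∃ a, qdLin (g ^ k) = PLocalB.upper a := by
    intro k
    have : qdLin (g ^ k) ∈ upperGroup (ZMod p) := by
      rw [map_zpow, hg, qdLin_qdAff]
      exact zpow_mem (⟨Multiplicative.ofAdd 1, rfl⟩ : PLocalB.upper (1 : ZMod p) ∈ upperGroup (ZMod p)) k
    obtain ⟨a, ha⟩ := this
    exact ⟨a.toAdd, ha.symm⟩
  obtain ⟨a, ha⟩ := hpow k
  obtain ⟨b, hb⟩ := hpow j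
  have hvi : qdLin v⁻¹ = 1 := by rw [map_inv, hv1, inv_one]
  have e1 : ⁅v, g ^ k⁆ = qdAff (qdTrans v + (PLocalB.upper a : Matrix.SpecialLinearGroup (Fin 2) (ZMod p)).1.mulVec (qdTrans v⁻¹)) 1 := by
    rw [commutatorElement_def, mul_assoc v, mul_assoc v]
    conv_lhs => rw [eq_qdAff_of_mem_ker hvi, qd_conj_ker, ha]
    conv_lhs => arg 1; rw [eq_qdAff_of_mem_ker hv1]
    rw [qdAff_mul, one_mul, Matrix.SpecialLinearGroup.coe_one, Matrix.one_mulVec]
  have hneg : qdTrans v⁻¹ = -qdTrans v := by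
    have := qdTrans_mul_of_ker hv1 v⁻¹
    rw [mul_inv_cancel, ← qdAff_zero_one, qdTrans_qdAff] at this
    exact eq_neg_of_add_eq_zero_right this.symm
  refine mul_inv_eq_iff_eq_mul.1 ?_
  rw [e1, qd_conj_ker, hb]
  congr 1
  funext i
  rw [sl2_smul_apply, Pi.add_apply, Pi.add_apply, sl2_smul_apply, sl2_smul_apply, hneg]
  fin_cases i <;> simp [Matrix.vecHead, Matrix.vecTail] <;> ring

theorem not_isNormalizerPStable_of_iso {X : Type*} [Group X] (e : X ≃* ↥(Cfsg.qdOver (ZMod p))) :
    ¬ Cfsg.IsNormalizerPStable p X := by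
  intro hst
  haveI : Finite X := Finite.of_injective e e.injective
  haveI : CharP (ZMod p) p := ZMod.charP p
  set V := (qdLin (F := ZMod p)).ker with hV
  set g0 := qdAff (0 : Fin 2 → ZMod p) (PLocalB.upper 1) with hg0
  haveI : (V.map e.symm.toMonoidHom).Normal :=
    Subgroup.Normal.map inferInstance _ e.symm.surjective
  have hN : Subgroup.normalizer ((V.map e.symm.toMonoidHom : Subgroup X) : Set X) = ⊤ :=
    Subgroup.normalizer_eq_top _
  set P := V.map e.symm.toMonoidHom with hP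
  have hg : e.symm g0 ∈ Subgroup.normalizer (P : Set X) := hN ▸ Subgroup.mem_top _
  have h := hst P ((isPGroup_ker_qdLin (F := ZMod p)).map _) (e.symm g0) hg (by
    rw [show Subgroup.zpowers (e.symm g0) = (Subgroup.zpowers g0).map e.symm.toMonoidHom from
      (MonoidHom.map_zpowers e.symm.toMonoidHom g0).symm, hP, ← Subgroup.map_commutator, ← Subgroup.map_commutator,
      qd_quadratic, Subgroup.map_bot])
  let φ : ↥(Subgroup.normalizer (P : Set X)) →* Matrix.SpecialLinearGroup (Fin 2) (ZMod p) :=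
    (qdLin.comp e.toMonoidHom).comp (Subgroup.normalizer (P : Set X)).subtype
  haveI : ((Subgroup.centralizer (P : Set X)).subgroupOf (Subgroup.normalizer (P : Set X))).Normal := by
    rw [← PLocalB.centralizer_subgroupOf P _ Subgroup.le_normalizer]
    haveI : (P.subgroupOf (Subgroup.normalizer (P : Set X))).Normal := Subgroup.normal_in_normalizer
    infer_instance
  have hker : (Subgroup.centralizer (P : Set X)).subgroupOf (Subgroup.normalizer (P : Set X)) ≤ φ.ker := by
    intro c hc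
    refine qdTrans_eq_zero_of_centralizes (g := e (c : X)) (Subgroup.mem_centralizer_iff.2 fun v hv => ?_)
    have := congrArg e (Subgroup.mem_centralizer_iff.1 hc (e.symm v) ⟨v, hv, rfl⟩)
    simpa using this
  let ψ := QuotientGroup.lift _ φ hker
  have hψ : Function.Surjective ψ := by
    intro A
    refine ⟨QuotientGroup.mk ⟨e.symm (qdAff 0 A), hN ▸ Subgroup.mem_top _⟩, ?_⟩
    show qdLin (e (e.symm (qdAff 0 A))) = A
    rw [e.apply_symm_apply, qdLin_qdAff]
  have h2 : (Cfsg.pCore p _).map ψ ≤ (⊥ : Subgroup (Matrix.SpecialLinearGroup (Fin 2) (ZMod p))) := by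
    rw [← pCore_SL2_eq_bot (F := ZMod p) (p := p)]
    exact Thompson.le_pCore (Subgroup.Normal.map inferInstance _ hψ) (Thompson.isPGroup_pCore.map ψ)
  have h3 : qdLin (e (e.symm g0)) = 1 := h2 ⟨_, h, rfl⟩
  rw [e.apply_symm_apply, hg0, qdLin_qdAff] at h3
  exact one_ne_zero (PLocalB.upper_injective (h3.trans PLocalB.upper_zero.symm))

end Cfsg.Agent.LocalEven61
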