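import Cfsg.Agent.LocalEven61.Involves
import Cfsg.Agent.PLocalB.CenterThompson
import Cfsg.Prelude.Def_ConjugacyFunctors
import Mathlib.GroupTheory.PGroup

/-!
`Z(J(·))`, abelian version, as an isomorphism invariant functor.
-/

set_option autoImplicit false

namespace Cfsg.Agent.LocalEven61

universe u v

/-- The centre of the abelian-version Thompson subgroup. -/
def zjA (Q : Type u) [Group Q] : Subgroup Q :=
  Cfsg.thompsonSubgroupA Q ⊓ Subgroup.centralizer (Cfsg.thompsonSubgroupA Q : Set Q)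

variable {Q : Type u} {R : Type v} [Group Q] [Group R]

theorem map_mem_maxAbelian (φ : Q ≃* R) {A : Subgroup Q} (hA : A ∈ Cfsg.maxAbelianSubgroups Q) :
    A.map φ.toMonoidHom ∈ Cfsg.maxAbelianSubgroups R := by
  refine ⟨by haveI := hA.1; infer_instance, fun B hB => ?_⟩
  haveI := hB
  have h := hA.2 (B.map φ.symm.toMonoidHom) inferInstance
  rw [Subgroup.card_map_of_injective (f := φ.symm.toMonoidHom) φ.symm.injective] at h
  rwa [Subgroup.card_map_of_injective (f := φ.toMonoidHom) φ.injective]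

theorem map_thompsonSubgroupA (φ : Q ≃* R) :
    (Cfsg.thompsonSubgroupA Q).map φ.toMonoidHom = Cfsg.thompsonSubgroupA R := by
  refine le_antisymm (Subgroup.map_le_iff_le_comap.2 (sSup_le fun A hA =>
    Subgroup.map_le_iff_le_comap.1 (le_sSup (map_mem_maxAbelian φ hA)))) (sSup_le fun A hA => ?_)
  have h := Subgroup.map_mono (f := φ.toMonoidHom)
    (show A.map φ.symm.toMonoidHom ≤ Cfsg.thompsonSubgroupA Q from
      le_sSup (map_mem_maxAbelian φ.symm hA))
  rwa [Subgroup.map_map, show φ.toMonoidHom.comp φ.symm.toMonoidHom = MonoidHom.id R by ext; simp,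
    Subgroup.map_id] at h

theorem map_zjA (φ : Q ≃* R) : (zjA Q).map φ.toMonoidHom = zjA R := by
  rw [zjA, zjA, Subgroup.map_inf _ _ _ φ.injective, map_thompsonSubgroupA]
  congr 1
  ext x
  rw [Subgroup.mem_map_equiv, Subgroup.mem_centralizer_iff, Subgroup.mem_centralizer_iff,
    ← map_thompsonSubgroupA φ]
  constructor
  · rintro h _ ⟨y, hy, rfl⟩
    simpa using congrArg φ (h y hy)
  · intro h y hy
    apply φ.injective
    simpa using h (φ y) ⟨y, hy, rfl⟩

instance zjA_characteristic : (zjA Q).Characteristic :=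
  Subgroup.characteristic_iff_map_eq.2 fun φ => map_zjA φ

theorem center_le_zjA [Finite Q] : Subgroup.center Q ≤ zjA Q := by
  have h : ∀ A ∈ Cfsg.maxAbelianSubgroups Q, Subgroup.center Q ≤ A := fun A hA z hz => by
    have h1 := PLocalB.isMulCommutative_sup_zpowers hA.1 (x := z)
      fun a _ => Subgroup.mem_center_iff.1 hz a
    rw [Subgroup.eq_of_le_of_card_ge (le_sup_left : A ≤ A ⊔ Subgroup.zpowers z) (hA.2 _ h1)]
    exact Subgroup.mem_sup_right (Subgroup.mem_zpowers z)
  obtain ⟨A, ⟨-, hA, hAmax⟩⟩ := (PLocalB.abelianFamily Q).exists_isMax ⊤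
  have hA' : A ∈ Cfsg.maxAbelianSubgroups Q := ⟨hA, fun B hB => hAmax B le_top hB⟩
  exact le_inf ((h A hA').trans (le_sSup hA')) (Subgroup.center_le_centralizer _)

theorem zjA_ne_bot [Finite Q] {p : ℕ} [Fact p.Prime] (hQ : IsPGroup p Q) [Nontrivial Q] :
    zjA Q ≠ ⊥ := by
  intro h
  haveI := hQ.center_nontrivial
  exact (Subgroup.nontrivial_iff_ne_bot _).1 ‹_› (le_bot_iff.1 (h ▸ center_le_zjA))

theorem isCharPFunctor_zjA {p : ℕ} [Fact p.Prime] :
    Cfsg.IsCharPFunctor.{u} p (fun Q _ => zjA Q) :=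
  ⟨fun _ _ _ hQ _ => zjA_ne_bot hQ, fun _ _ _ _ _ _ φ => map_zjA φ⟩

variable {G : Type u} [Group G]

theorem map_subtype_zjA (P : Subgroup G) :
    (zjA ↥P).map P.subtype = Cfsg.centerThompsonAOf P := by
  rw [zjA, Cfsg.centerThompsonAOf, Subgroup.map_inf _ _ _ P.subtype_injective,
    Cfsg.thompsonSubgroupAOf]
  ext x
  simp only [Subgroup.mem_inf, Subgroup.mem_map, Subgroup.mem_centralizer_iff, Subgroup.coe_map,
    Set.forall_mem_image, SetLike.mem_coe, Subgroup.coe_subtype]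
  constructor
  · rintro ⟨h1, y, hy, rfl⟩
    exact ⟨h1, fun z hz => congrArg Subtype.val (hy z hz)⟩
  · rintro ⟨h1, h2⟩
    obtain ⟨y, hy, rfl⟩ := h1
    exact ⟨⟨y, hy, rfl⟩, y, fun z hz => Subtype.ext (h2 hz), rfl⟩

theorem inducedFunctor_zjA (P : Subgroup G) :
    Cfsg.inducedFunctor (fun Q _ => zjA Q) P = Cfsg.centerThompsonAOf P :=
  map_subtype_zjA P

end Cfsg.Agent.LocalEven61
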