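import Cfsg.Agent.ConjFunctor.TransferReduction

/-!
A functor whose value is normal in all constrained sections controls strong fusion in all sections.
-/

set_option autoImplicit false
set_option linter.style.haveILetI false

namespace Cfsg.Agent.LocalEven61

open Cfsg.Agent.ConjFunctor

universe u

variable {p : ℕ} [Fact p.Prime] {Wf : ∀ (Q : Type u) [Group Q], Subgroup Q}

/-- Pointwise control of strong fusion by `Wf`, for every Sylow subgroup. -/
def StrongCtl (p : ℕ) (Wf : ∀ (Q : Type u) [Group Q], Subgroup Q) (H : Type u) [Group H] : Prop :=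
  ∀ (S : Sylow p H) (A : Set H) (g : H), A ⊆ (S : Subgroup H) → img g A ⊆ (S : Subgroup H) →
    ∃ x ∈ nrm (Cfsg.inducedFunctor Wf (S : Subgroup H)), ∀ a ∈ A, x * a * x⁻¹ = g * a * g⁻¹

variable (hW : Cfsg.IsCharPFunctor.{u} p Wf) {H : Type u} [Group H] [Finite H]
include hW

/-- A subgroup containing `S` passes its fusion on to `N(W S)`. -/
theorem fusion_of_subgroup (S : Sylow p H) {M : Subgroup H} (hSM : (S : Subgroup H) ≤ M)
    (hM : StrongCtl p Wf ↥M) {A : Set H} (hA : A ⊆ (S : Subgroup H)) {g : H} (hg : g ∈ M)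
    (hgA : img g A ⊆ (S : Subgroup H)) :
    ∃ x ∈ nrm (Cfsg.inducedFunctor Wf (S : Subgroup H)), ∀ a ∈ A, x * a * x⁻¹ = g * a * g⁻¹ := by
  obtain ⟨P, hP⟩ := (sylow_isSylowIn S hSM).exists_sylow
  have hPmem : ∀ {y : ↥M}, (y : H) ∈ (S : Subgroup H) → y ∈ (P : Subgroup ↥M) := by
    intro y hy
    rw [← hP] at hy
    obtain ⟨z, hz, he⟩ := hy
    rwa [← Subtype.ext he]
  obtain ⟨x, hx, he⟩ := hM P {y : ↥M | (y : H) ∈ A} ⟨g, hg⟩ (fun y hy => hPmem (hA hy))
    (by rintro _ ⟨y, hy, rfl⟩; exact hPmem (hgA ⟨_, hy, rfl⟩))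
  refine ⟨x, ?_, fun a ha => congrArg Subtype.val (he ⟨a, hSM (hA ha)⟩ ha)⟩
  have h1 : (x : H) ∈ nrm ((Cfsg.inducedFunctor Wf (P : Subgroup ↥M)).map M.subtype) :=
    Subgroup.le_normalizer_map M.subtype ⟨x, hx, rfl⟩
  rwa [← inducedFunctor_map hW M.subtype _ P.2 M.subtype_injective.injOn, hP] at h1

/-- Fusion lifts over a normal `p'`-subgroup. -/
theorem strongCtl_of_coprime_quotient (K : Subgroup H) [K.Normal]
    (hK : (Nat.card ↥K).Coprime p) (h : StrongCtl p Wf (H ⧸ K)) : StrongCtl p Wf H := by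
  intro S A g hA hgA
  set f := QuotientGroup.mk' K with hf
  have hinj := injOn_mk_of_coprime S.2 K hK
  let S' := S.mapSurjective (QuotientGroup.mk'_surjective K)
  obtain ⟨y, hy, he⟩ := h S' (f '' A) (f g) (Set.image_mono hA)
    (by
      rintro _ ⟨_, ⟨a, ha, rfl⟩, rfl⟩
      exact ⟨g * a * g⁻¹, hgA ⟨a, ha, rfl⟩, by rw [map_mul, map_mul, map_inv]⟩)
  set U := Cfsg.inducedFunctor Wf (S : Subgroup H) with hU
  have hS'eq : (S' : Subgroup (H ⧸ K)) = (S : Subgroup H).map f := rfl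
  rw [hS'eq, inducedFunctor_map hW f _ S.2 hinj,
    ← map_nrm_of_coprime (S.2.to_le (inducedFunctor_le Wf _)) K hK] at hy
  obtain ⟨n, hn, rfl⟩ := hy
  have hSN : (S : Subgroup H) ≤ nrm U :=
    le_nrm_functor (isConjugacyFunctor_inducedFunctor hW) S.2
  -- move `n A n⁻¹` into `S` by an element of `K`
  set M := ((S : Subgroup H) ⊔ K) ⊓ nrm U with hM
  have hnA : img n A ⊆ (M : Set H) := by
    rintro _ ⟨a, ha, rfl⟩
    refine ⟨?_, (nrm U).mul_mem ((nrm U).mul_mem hn (hSN (hA ha))) ((nrm U).inv_mem hn)⟩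
    have h1 : f (n * a * n⁻¹) = f (g * a * g⁻¹) := by
      rw [map_mul, map_mul, map_inv, map_mul, map_mul, map_inv]
      exact he (f a) ⟨a, ha, rfl⟩
    have h2 : (g * a * g⁻¹)⁻¹ * (n * a * n⁻¹) ∈ K := QuotientGroup.eq.1 h1.symm
    have := Subgroup.mul_mem_sup (hgA ⟨a, ha, rfl⟩ : g * a * g⁻¹ ∈ (S : Subgroup H)) h2
    rwa [mul_inv_cancel_left] at this
  have hp : IsPGroup p ↥(Subgroup.closure (img n A)) := by
    rw [closure_img]
    exact isPGroup_cnj (S.2.to_le ((Subgroup.closure_le _).2 hA))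
  obtain ⟨m, hm, hmS⟩ := (sylow_isSylowIn S (le_inf le_sup_left hSN : (S : Subgroup H) ≤ M)).exists_cnj_le
    hp ((Subgroup.closure_le _).2 hnA)
  obtain ⟨s, hs, k, hk, rfl⟩ := Subgroup.mem_sup_of_normal_right.1 hm.1
  have hkN : k ∈ nrm U := by
    simpa using (nrm U).mul_mem ((nrm U).inv_mem (hSN hs)) hm.2
  refine ⟨k * n, (nrm U).mul_mem hkN hn, fun a ha => ?_⟩
  refine hinj ?_ (hgA ⟨a, ha, rfl⟩) ?_
  · have h1 : (s * k) * (n * a * n⁻¹) * (s * k)⁻¹ ∈ (S : Subgroup H) :=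
      hmS (conj_mem_cnj.2 (Subgroup.subset_closure ⟨a, ha, rfl⟩))
    have h2 := (S : Subgroup H).mul_mem ((S : Subgroup H).mul_mem ((S : Subgroup H).inv_mem hs) h1) hs
    have e : s⁻¹ * (s * k * (n * a * n⁻¹) * (s * k)⁻¹) * s = k * n * a * (k * n)⁻¹ := by group
    rwa [e] at h2
  · have h1 := he (f a) ⟨a, ha, rfl⟩
    have hk1 : f k = 1 := (QuotientGroup.eq_one_iff k).2 hk
    rw [map_mul, map_mul, map_inv, map_mul, hk1, one_mul, h1, map_mul, map_mul, map_inv]

/-- The reduction step. -/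
theorem strongCtl_step (hsub : ∀ M : Subgroup H, M ≠ ⊤ → StrongCtl p Wf ↥M)
    (hquot : ∀ (N : Subgroup H) [N.Normal], N ≠ ⊥ → StrongCtl p Wf (H ⧸ N)) :
    StrongCtl p Wf H ∨ Constr p H := by
  have hWf : IsConjugacyFunctor p (Cfsg.inducedFunctor (G := H) Wf) :=
    isConjugacyFunctor_inducedFunctor hW
  by_cases hK : pPrimeCore p H = ⊥
  swap
  · exact Or.inl (strongCtl_of_coprime_quotient hW _ Thompson.card_pPrimeCore_coprime (hquot _ hK))
  by_cases hQ : pCore p H = ⊥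
  · left
    intro S A g hA hgA
    have hfam : FamilyControlsStrongFusionIn p {Cfsg.inducedFunctor (G := H) Wf} (⊤ : Subgroup H) := by
      refine familyControlsStrongFusionIn_of_fully S (by rintro _ rfl; exact hWf) fun T hT hT0 hf => ?_
      have hne : nrm T ≠ ⊤ := fun htop => hT0 (by
        haveI : T.Normal := Subgroup.normalizer_eq_top_iff.1 htop
        exact le_bot_iff.1 (hQ ▸ Thompson.le_pCore ‹_› (S.2.to_le hT)))
      refine familyControlsStrongFusionIn_iff.2 ⟨_, hf.isSylowIn S.2, fun B y hy hB hyB => ?_⟩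
      obtain ⟨P, hP⟩ := (hf.isSylowIn S.2).exists_sylow
      have hPmem : ∀ {z : ↥(nrm T)}, (z : H) ∈ (S : Subgroup H) ⊓ nrm T →
          z ∈ (P : Subgroup ↥(nrm T)) := by
        intro z hz
        rw [← hP] at hz
        obtain ⟨w, hw, he⟩ := hz
        rwa [← Subtype.ext he]
      obtain ⟨x, hx, he⟩ := hsub _ hne P {z : ↥(nrm T) | (z : H) ∈ B} ⟨y, hy⟩ (fun z hz => hPmem (hB hz))
        (by rintro _ ⟨z, hz, rfl⟩; exact hPmem (hyB ⟨_, hz, rfl⟩))
      have h1 : (x : H) ∈ nrm ((Cfsg.inducedFunctor Wf (P : Subgroup ↥(nrm T))).map (nrm T).subtype) :=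
        Subgroup.le_normalizer_map _ ⟨x, hx, rfl⟩
      rw [← inducedFunctor_map hW (nrm T).subtype _ P.2 (nrm T).subtype_injective.injOn, hP] at h1
      have he' : ∀ a ∈ B, (x : H) * a * (x : H)⁻¹ = y * a * y⁻¹ := fun a ha =>
        congrArg Subtype.val (he ⟨a, (hB ha).2⟩ ha)
      refine Fus.congr (Fus.single ⟨_, rfl, rfl⟩ ⟨x.2, h1⟩ hB ?_) he'
      rwa [img_congr he']
    obtain ⟨x, hx, he⟩ := (FamilyControlsStrongFusionIn.controls (by rintro _ rfl; exact hWf) hfam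
      (isSylowIn_top S)).exists_single (Subgroup.mem_top g) hA hgA
    exact ⟨x, hx.2, he⟩
  obtain ⟨S₀⟩ : Nonempty (Sylow p H) := inferInstance
  set Q := pCore p H with hQdef
  set C := Subgroup.centralizer (Q : Set H) with hC
  haveI : C.Normal := Subgroup.normal_centralizer
  by_cases hcon : ∃ S : Sylow p H, (S : Subgroup H) ⊓ C ≤ Q
  · obtain ⟨S, hS⟩ := hcon
    exact Or.inr (constr_of_inf_centralizer_le hK S hS)
  push Not at hcon
  left
  intro S A g hA hgA
  set P := (S : Subgroup H) ⊓ C with hPdef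
  have hPsyl : IsSylowIn p P C :=
    isSylowIn_inf_of_normal (isSylowIn_top S) le_top (by rw [nrm_eq_top])
  have hNP : nrm P ≠ ⊤ := by
    intro htop
    haveI : P.Normal := Subgroup.normalizer_eq_top_iff.1 htop
    exact hcon S (Thompson.le_pCore ‹_› hPsyl.isPGroup)
  have hSN : (S : Subgroup H) ≤ nrm P := by
    refine Subgroup.le_normalizer_iff.2 fun s hs x hx => ⟨?_, ?_⟩
    · exact (S : Subgroup H).mul_mem ((S : Subgroup H).mul_mem hs hx.1) ((S : Subgroup H).inv_mem hs)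
    · exact (inferInstance : C.Normal).conj_mem x hx.2 s
  by_cases hSC : (S : Subgroup H) ⊔ C = ⊤
  swap
  · -- two proper subgroups containing `S`
    set M := (S : Subgroup H) ⊔ C with hM
    obtain ⟨c, hc, n, hn, rfl⟩ := exists_mul_of_frattini hPsyl (g := g)
      (by rw [nrm_eq_top]; exact Subgroup.mem_top _)
    have hnA : img n A ⊆ ((M ⊓ nrm P : Subgroup H) : Set H) := by
      rintro _ ⟨a, ha, rfl⟩
      refine ⟨?_, (nrm P).mul_mem ((nrm P).mul_mem hn (hSN (hA ha))) ((nrm P).inv_mem hn)⟩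
      have h1 : c * (n * a * n⁻¹) * c⁻¹ ∈ M := by
        have := (le_sup_left : (S : Subgroup H) ≤ M) (hgA ⟨a, ha, rfl⟩)
        simpa [mul_assoc] using this
      have hcM : c ∈ M := (le_sup_right : C ≤ M) hc
      simpa [mul_assoc] using M.mul_mem (M.mul_mem (M.inv_mem hcM) h1) hcM
    have hp : IsPGroup p ↥(Subgroup.closure (img n A)) := by
      rw [closure_img]
      exact isPGroup_cnj (S.2.to_le ((Subgroup.closure_le _).2 hA))
    obtain ⟨m, hm, hmS⟩ := (sylow_isSylowIn S (le_inf le_sup_left hSN :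
      (S : Subgroup H) ≤ M ⊓ nrm P)).exists_cnj_le hp ((Subgroup.closure_le _).2 hnA)
    have hmid : img (m * n) A ⊆ (S : Subgroup H) := by
      rw [← img_img]
      rintro _ ⟨b, hb, rfl⟩
      exact hmS (conj_mem_cnj.2 (Subgroup.subset_closure hb))
    obtain ⟨x₁, hx₁, he₁⟩ := fusion_of_subgroup hW S hSN (hsub _ hNP) hA
      ((nrm P).mul_mem hm.2 hn) hmid
    obtain ⟨x₂, hx₂, he₂⟩ := fusion_of_subgroup hW S (le_sup_left : (S : Subgroup H) ≤ M)
      (hsub _ hSC) (g := c * m⁻¹) hmid (M.mul_mem ((le_sup_right : C ≤ M) hc) (M.inv_mem hm.1))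
      (by rwa [img_img, ← mul_assoc, inv_mul_cancel_right])
    refine ⟨x₂ * x₁, Subgroup.mul_mem _ hx₂ hx₁, fun a ha => ?_⟩
    calc x₂ * x₁ * a * (x₂ * x₁)⁻¹ = x₂ * (x₁ * a * x₁⁻¹) * x₂⁻¹ := by group
      _ = c * m⁻¹ * (m * n * a * (m * n)⁻¹) * (c * m⁻¹)⁻¹ := by
        rw [he₁ a ha, he₂ _ ⟨a, ha, rfl⟩]
      _ = c * n * a * (c * n)⁻¹ := by group
  -- `H = S C(Q)`: use the quotient by `Q`
  set f := QuotientGroup.mk' Q with hf
  let S' := S.mapSurjective (QuotientGroup.mk'_surjective Q)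
  set U' := Cfsg.inducedFunctor Wf (S' : Subgroup (H ⧸ Q)) with hU'
  set M := (nrm U').comap f with hMdef
  have hSM : (S : Subgroup H) ≤ M := fun s hs =>
    le_nrm_functor (isConjugacyFunctor_inducedFunctor hW) S'.2 ⟨s, hs, rfl⟩
  have hMne : M ≠ ⊤ := by
    intro htop
    have h1 : nrm U' = ⊤ := by
      rw [← Subgroup.map_comap_eq_self_of_surjective (QuotientGroup.mk'_surjective Q) (nrm U'),
        ← hMdef, htop, Subgroup.map_top_of_surjective f (QuotientGroup.mk'_surjective Q)]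
    haveI : U'.Normal := Subgroup.normalizer_eq_top_iff.1 h1
    have h2 : U'.comap f ≤ Q := Thompson.le_pCore inferInstance
      (IsPGroup.comap_of_ker_isPGroup (S'.2.to_le (inducedFunctor_le Wf _)) f
        (by rw [hf, QuotientGroup.ker_mk']; exact Thompson.isPGroup_pCore))
    have h3 : (S' : Subgroup (H ⧸ Q)) ≠ ⊥ := by
      intro hbot
      refine hcon S (inf_le_left.trans ?_)
      have : (S : Subgroup H).map f = ⊥ := hbot
      rwa [Subgroup.map_eq_bot_iff, hf, QuotientGroup.ker_mk'] at this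
    refine functor_ne_bot (isConjugacyFunctor_inducedFunctor hW) S'.2 h3 ?_
    rw [← hU', eq_bot_iff]
    intro u hu
    obtain ⟨v, rfl⟩ := QuotientGroup.mk'_surjective Q u
    exact (QuotientGroup.eq_one_iff v).2 (h2 hu)
  have hHC : ∀ h : H, ∃ i : ℕ, h ^ (p ^ i) ∈ C := by
    intro h
    have h1 : (QuotientGroup.mk' C) h ∈ ((S : Subgroup H)).map (QuotientGroup.mk' C) := by
      have h2 : (QuotientGroup.mk' C) h ∈ ((S : Subgroup H) ⊔ C).map (QuotientGroup.mk' C) :=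
        Subgroup.mem_map_of_mem _ (hSC ▸ Subgroup.mem_top h)
      rwa [Subgroup.map_sup, (Subgroup.map_eq_bot_iff C).2 (QuotientGroup.ker_mk' C).ge, sup_bot_eq] at h2
    obtain ⟨i, hi⟩ := (S.2.map (QuotientGroup.mk' C)) ⟨_, h1⟩
    refine ⟨i, (QuotientGroup.eq_one_iff _).1 ?_⟩
    have := congrArg Subtype.val hi
    simpa using this
  -- every step inside `N(U)`, `U ⊇ Q`, is realized in `M`
  suffices key : ∃ x ∈ M, ∀ a ∈ A, x * a * x⁻¹ = g * a * g⁻¹ by
    obtain ⟨x, hx, he⟩ := key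
    obtain ⟨y, hy, he'⟩ := fusion_of_subgroup hW S hSM (hsub _ hMne) hA hx (by rwa [img_congr he])
    exact ⟨y, hy, fun a ha => (he' a ha).trans (he a ha)⟩
  have hfix : ∀ x : H, img x (Q : Set H) = (Q : Set H) := by
    intro x; rw [← coe_cnj, cnj_normal]
  have hQS : Q ≤ (S : Subgroup H) := Thompson.pCore_le_sylow S
  have hr : Reach {T | T ∈ fullyFamily p (S : Subgroup H) ∧ Q ≤ T} A g := by
    have hUA : A ∪ (Q : Set H) ⊆ (S : Subgroup H) := Set.union_subset hA hQS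
    have hUA' : img g (A ∪ (Q : Set H)) ⊆ (S : Subgroup H) := by
      show _ '' _ ⊆ _
      rw [Set.image_union]
      exact Set.union_subset hgA (by rw [show _ '' _ = _ from hfix g]; exact hQS)
    exact ((reach_fully S _ g hUA hUA').filter (fun B => (Q : Set H) ⊆ B)
      (fun B x hB => (hfix x).symm.subset.trans (img_mono hB))
      (Ψ := {T | T ∈ fullyFamily p (S : Subgroup H) ∧ Q ≤ T})
      (fun B T hT hBT hB => ⟨hT, hB.trans hBT⟩) Set.subset_union_right).mono Set.subset_union_left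
  clear hA hgA
  induction hr with
  | one A => exact ⟨1, M.one_mem, fun a _ => rfl⟩
  | @cons A T x g hT hA hx _ ih =>
    obtain ⟨z, hz, hze⟩ := ih
    suffices hstep : ∃ w ∈ M, ∀ a ∈ A, w * a * w⁻¹ = x * a * x⁻¹ by
      obtain ⟨w, hw, hwe⟩ := hstep
      refine ⟨z * w, M.mul_mem hz hw, fun a ha => ?_⟩
      calc z * w * a * (z * w)⁻¹ = z * (w * a * w⁻¹) * z⁻¹ := by group
        _ = z * (x * a * x⁻¹) * z⁻¹ := by rw [hwe a ha]
        _ = g * (x * a * x⁻¹) * g⁻¹ := hze _ ⟨a, ha, rfl⟩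
        _ = g * x * a * (g * x)⁻¹ := by group
    obtain ⟨⟨hTS, hTf⟩, hQT⟩ := hT
    obtain ⟨y, hy, hye⟩ := hquot Q hQ S' (f '' (T : Set H)) (f x) (Set.image_mono hTS)
      (by
        rintro _ ⟨_, ⟨a, ha, rfl⟩, rfl⟩
        exact ⟨x * a * x⁻¹, hTS (conj_mem_of_nrm hx ha), by rw [map_mul, map_mul, map_inv]⟩)
    obtain ⟨n, rfl⟩ := QuotientGroup.mk'_surjective Q y
    have hnM : n ∈ M := hy
    -- `h = n⁻¹ x` centralizes `T / Q`
    set D := nrm T ⊓ (Subgroup.centralizer ((T.map f : Subgroup (H ⧸ Q)) : Set (H ⧸ Q))).comap f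
      with hD
    have hcong : ∀ a ∈ T, f (n * a * n⁻¹) = f (x * a * x⁻¹) := fun a ha => by
      rw [map_mul, map_mul, map_inv, map_mul, map_mul, map_inv]
      exact hye (f a) ⟨a, ha, rfl⟩
    have hnT : n ∈ nrm T := mem_nrm_of_forall fun a ha => by
      have h1 : (x * a * x⁻¹)⁻¹ * (n * a * n⁻¹) ∈ Q := QuotientGroup.eq.1 (hcong a ha).symm
      have := T.mul_mem (conj_mem_of_nrm hx ha) (hQT h1)
      rwa [mul_inv_cancel_left] at this
    have hhD : n⁻¹ * x ∈ D := by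
      refine ⟨(nrm T).mul_mem ((nrm T).inv_mem hnT) hx, Subgroup.mem_centralizer_iff.2 ?_⟩
      rintro _ ⟨a, ha, rfl⟩
      have h1 := hcong a ha
      rw [map_mul, map_mul, map_mul, map_mul, map_inv, map_inv] at h1
      rw [map_mul, map_inv]
      calc f a * ((f n)⁻¹ * f x) = (f n)⁻¹ * (f n * f a * (f n)⁻¹) * f x := by group
        _ = (f n)⁻¹ * (f x * f a * (f x)⁻¹) * f x := by rw [h1]
        _ = (f n)⁻¹ * f x * f a := by group
    have hDn : nrm T ≤ nrm D := by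
      intro y hy
      refine mem_nrm_of_forall fun d hd => ⟨?_, Subgroup.mem_centralizer_iff.2 ?_⟩
      · exact (nrm T).mul_mem ((nrm T).mul_mem hy hd.1) ((nrm T).inv_mem hy)
      · rintro _ ⟨a, ha, rfl⟩
        have h1 := Subgroup.mem_centralizer_iff.1 hd.2 (f (y⁻¹ * a * y))
          ⟨_, by simpa using conj_mem_of_nrm ((nrm T).inv_mem hy) ha, rfl⟩
        simp only [map_mul, map_inv] at h1 ⊢
        calc f a * (f y * f d * (f y)⁻¹) = f y * ((f y)⁻¹ * f a * f y * f d) * (f y)⁻¹ := by group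
          _ = f y * (f d * ((f y)⁻¹ * f a * f y)) * (f y)⁻¹ := by rw [h1]
          _ = f y * f d * (f y)⁻¹ * f a := by group
    have hPD : IsSylowIn p (((S : Subgroup H) ⊓ nrm T) ⊓ D) D :=
      isSylowIn_inf_of_normal ((show Fully p (S : Subgroup H) T from hTf).isSylowIn S.2) inf_le_left hDn
    -- `D / C(T)` is a `p`-group
    have hpow : ∀ d ∈ D, ∃ j : ℕ, d ^ (p ^ j) ∈ Subgroup.centralizer (T : Set H) := by
      intro d hd
      obtain ⟨i, hi⟩ := hHC d
      obtain ⟨l, hl⟩ := IsPGroup.iff_card.1 (Thompson.isPGroup_pCore : IsPGroup p ↥(pCore p H))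
      refine ⟨i + l, Subgroup.mem_centralizer_iff.2 fun a ha => ?_⟩
      set z := d ^ (p ^ i) with hz'
      have hzD : z ∈ D := D.pow_mem hd _
      have hq : a⁻¹ * (z * a * z⁻¹) ∈ Q := by
        refine QuotientGroup.eq.1 ?_
        have h1 := Subgroup.mem_centralizer_iff.1 hzD.2 (f a) ⟨a, ha, rfl⟩
        show f a = f (z * a * z⁻¹)
        rw [map_mul, map_mul, map_inv, ← h1, mul_inv_cancel_right]
      have hfixq : ∀ q ∈ Q, z * q * z⁻¹ = q := fun q hq' => by
        rw [← Subgroup.mem_centralizer_iff.1 hi q hq', mul_inv_cancel_right]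
      have hiter : ∀ k : ℕ, z ^ k * a * (z ^ k)⁻¹ = a * (a⁻¹ * (z * a * z⁻¹)) ^ k := by
        intro k
        induction k with
        | zero => simp
        | succ k ihk =>
          calc z ^ (k + 1) * a * (z ^ (k + 1))⁻¹ = z * (z ^ k * a * (z ^ k)⁻¹) * z⁻¹ := by
                rw [pow_succ']; group
            _ = (z * a * z⁻¹) * (z * (a⁻¹ * (z * a * z⁻¹)) ^ k * z⁻¹) := by rw [ihk]; group
            _ = a * (a⁻¹ * (z * a * z⁻¹)) ^ (k + 1) := by
                rw [hfixq _ (Q.pow_mem hq k), pow_succ', ← mul_assoc a, mul_inv_cancel_left]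
      have h1 := hiter (Nat.card ↥Q)
      have h2 : (a⁻¹ * (z * a * z⁻¹)) ^ Nat.card ↥Q = 1 :=
        congrArg Subtype.val (pow_card_eq_one' (G := ↥Q) (x := ⟨_, hq⟩))
      rw [h2, mul_one] at h1
      rw [pow_add, pow_mul, ← hz', ← hl]
      exact (mul_inv_eq_iff_eq_mul.1 h1).symm
    obtain ⟨PD, hPDeq⟩ := hPD.exists_sylow
    set CD := (Subgroup.centralizer (T : Set H)).subgroupOf D with hCD
    haveI : CD.Normal := by
      refine ⟨fun c hc d => Subgroup.mem_centralizer_iff.2 fun a ha => ?_⟩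
      have h1 := Subgroup.mem_centralizer_iff.1 hc _
        (by simpa using conj_mem_of_nrm ((nrm T).inv_mem d.2.1) ha : (d : H)⁻¹ * a * d ∈ T)
      simp only [Subgroup.coe_subtype] at h1
      show a * ((d : H) * c * (d : H)⁻¹) = (d : H) * c * (d : H)⁻¹ * a
      calc a * ((d : H) * c * (d : H)⁻¹) = d * (((d : H)⁻¹ * a * d) * c) * (d : H)⁻¹ := by group
        _ = d * (c * ((d : H)⁻¹ * a * d)) * (d : H)⁻¹ := by rw [h1]
        _ = _ := by group
    have hquotp : IsPGroup p (↥D ⧸ CD) := by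
      intro q
      obtain ⟨d, rfl⟩ := QuotientGroup.mk'_surjective CD q
      obtain ⟨j, hj⟩ := hpow d d.2
      refine ⟨j, ?_⟩
      rw [← map_pow]
      exact (QuotientGroup.eq_one_iff _).2 (show ((d ^ p ^ j : ↥D) : H) ∈ _ by simpa using hj)
    have htop : ((PD.mapSurjective (QuotientGroup.mk'_surjective CD) : Sylow p (↥D ⧸ CD)) :
        Subgroup (↥D ⧸ CD)) = ⊤ :=
      ((PD.mapSurjective (QuotientGroup.mk'_surjective CD)).is_maximal' (hquotp.to_subgroup ⊤) le_top).symm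
    rw [Sylow.coe_mapSurjective] at htop
    obtain ⟨d, hd, hde⟩ : (QuotientGroup.mk' CD ⟨_, hhD⟩) ∈ (PD : Subgroup ↥D).map (QuotientGroup.mk' CD) :=
      htop ▸ Subgroup.mem_top _
    have hdS : (d : H) ∈ (S : Subgroup H) := by
      have : (d : H) ∈ ((S : Subgroup H) ⊓ nrm T) ⊓ D := hPDeq ▸ ⟨d, hd, rfl⟩
      exact this.1.1
    have hc : (d : H)⁻¹ * (n⁻¹ * x) ∈ Subgroup.centralizer (T : Set H) :=
      (QuotientGroup.eq (s := CD) (a := d) (b := ⟨n⁻¹ * x, hhD⟩)).1 hde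
    refine ⟨n * d, M.mul_mem hnM (hSM hdS), fun a ha => ?_⟩
    have h1 := Subgroup.mem_centralizer_iff.1 hc a (hA ha)
    calc n * (d : H) * a * (n * d)⁻¹
        = n * d * (a * ((d : H)⁻¹ * (n⁻¹ * x))) * ((d : H)⁻¹ * (n⁻¹ * x))⁻¹ * (n * d)⁻¹ := by group
      _ = x * a * x⁻¹ := by rw [h1]; group

/-- A functor normal in all constrained sections controls strong fusion in all sections. -/
theorem strongCtl_of_constrained {G : Type u} [Group G] [Finite G]
    (hloc : ∀ (K : Type u) [Group K] [Finite K], IsSec G K → Constr p K →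
      ∀ T : Sylow p K, (Cfsg.inducedFunctor Wf (T : Subgroup K)).Normal)
    (K : Type u) [Group K] [Finite K] (hK : IsSec G K) : StrongCtl p Wf K := by
  suffices key : ∀ (n : ℕ) (K : Type u) [Group K] [Finite K], Nat.card K ≤ n → IsSec G K →
      StrongCtl p Wf K from key _ K le_rfl hK
  intro n
  induction n using Nat.strong_induction_on with
  | _ n ih =>
    intro K _ _ hn hK
    have hsub : ∀ M : Subgroup K, M ≠ ⊤ → StrongCtl p Wf ↥M := fun M hM =>
      ih (Nat.card ↥M) (((Subgroup.card_le_card_group M).lt_of_ne fun he =>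
        hM (Subgroup.eq_top_of_card_eq M he)).trans_le hn) ↥M le_rfl (hK.trans (isSec_subgroup M))
    have hquot : ∀ (N : Subgroup K) [N.Normal], N ≠ ⊥ → StrongCtl p Wf (K ⧸ N) := by
      intro N _ hN
      refine ih (Nat.card (K ⧸ N)) ?_ _ le_rfl (hK.trans (isSec_quotient N))
      have h1 := Subgroup.card_eq_card_quotient_mul_card_subgroup N
      have h2 : 1 < Nat.card ↥N := (Subgroup.one_lt_card_iff_ne_bot N).2 hN
      have h3 : 0 < Nat.card (K ⧸ N) := Nat.card_pos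
      calc Nat.card (K ⧸ N) < Nat.card (K ⧸ N) * Nat.card ↥N := lt_mul_of_one_lt_right h3 h2
        _ ≤ n := h1 ▸ hn
    refine (strongCtl_step hW hsub hquot).elim id fun hc S A g _ _ => ⟨g, ?_, fun _ _ => rfl⟩
    haveI := hloc K hK hc S
    rw [nrm_eq_top]; trivial

omit [Fact p.Prime] hW [Finite H] in
/-- The statement form. -/
theorem controlsStrongFusion_of_strongCtl (h : StrongCtl p Wf H) (S : Sylow p H) :
    Cfsg.ControlsStrongFusion p (Cfsg.inducedFunctor Wf (S : Subgroup H)) :=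
  ⟨S, inducedFunctor_le Wf _, fun A hA => ⟨hA, fun g hg => by
    obtain ⟨x, hx, he⟩ := h S A g hA hg
    exact ⟨x, hx, fun a ha => (he a ha).symm⟩⟩⟩

end Cfsg.Agent.LocalEven61
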