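import Mathlib.GroupTheory.Sylow
import Mathlib.GroupTheory.Nilpotent

/-!
Small conjugation toolkit: normalizers of conjugates, Sylow subgroups of subgroups.
-/

set_option autoImplicit false

namespace Cfsg.Agent.LocalEven61

variable {G : Type*} [Group G] {p : ℕ}

theorem normalizer_map_conj (A : Subgroup G) (g : G) :
    Subgroup.normalizer ((A.map (MulAut.conj g).toMonoidHom : Subgroup G) : Set G) =
      (Subgroup.normalizer (A : Set G)).map (MulAut.conj g).toMonoidHom :=
  (Subgroup.map_equiv_normalizer_eq A (MulAut.conj g)).symm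

theorem mem_map_conj {H : Subgroup G} {g x : G} :
    x ∈ H.map (MulAut.conj g).toMonoidHom ↔ g⁻¹ * x * g ∈ H := by
  rw [Subgroup.mem_map_equiv, MulAut.conj_symm_apply]

theorem map_conj_map_conj (H : Subgroup G) (g h : G) :
    (H.map (MulAut.conj g).toMonoidHom).map (MulAut.conj h).toMonoidHom =
      H.map (MulAut.conj (h * g)).toMonoidHom := by
  ext x
  simp only [mem_map_conj, mul_inv_rev, mul_assoc]

theorem map_conj_one (H : Subgroup G) : H.map (MulAut.conj (1 : G)).toMonoidHom = H := by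
  ext x; simp [mem_map_conj]

theorem sylow_smul_coe (g : G) (P : Sylow p G) :
    ((g • P : Sylow p G) : Subgroup G) = (P : Subgroup G).map (MulAut.conj g).toMonoidHom := by
  ext x
  rw [mem_map_conj, Sylow.smul_def, Sylow.pointwise_smul_def,
    Subgroup.mem_pointwise_smul_iff_inv_smul_mem]
  simp

theorem map_conj_le_self_of_mem {H : Subgroup G} {A : Subgroup G} {g : G} (hg : g ∈ H)
    (hA : A ≤ H) : A.map (MulAut.conj g).toMonoidHom ≤ H := by
  intro x hx
  rw [mem_map_conj] at hx
  simpa [mul_assoc] using H.mul_mem (H.mul_mem hg (hA hx)) (H.inv_mem hg)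

/-- A Sylow subgroup of `M`, viewed in `G`, is a maximal `p`-subgroup of `M`. -/
theorem sylow_map_eq_of_le {M : Subgroup G} (P : Sylow p ↥M) {Q : Subgroup G} (hQ : IsPGroup p ↥Q)
    (hQM : Q ≤ M) (hPQ : (P : Subgroup ↥M).map M.subtype ≤ Q) :
    Q = (P : Subgroup ↥M).map M.subtype := by
  refine le_antisymm ?_ hPQ
  have h1 : Q.subgroupOf M = (P : Subgroup ↥M) :=
    P.is_maximal' (hQ.comap_of_injective M.subtype M.subtype_injective)
      (Subgroup.map_le_iff_le_comap.1 hPQ)
  rw [← h1, Subgroup.subgroupOf_map_subtype, inf_eq_left.2 hQM]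

/-- Every `p`-subgroup of `M` is conjugate in `M` into a given Sylow subgroup of `M`. -/
theorem exists_conj_le_sylow_map [Finite G] [Fact p.Prime] {M : Subgroup G} (P : Sylow p ↥M)
    {A : Subgroup G} (hA : IsPGroup p ↥A) (hAM : A ≤ M) :
    ∃ m ∈ M, A.map (MulAut.conj m).toMonoidHom ≤ (P : Subgroup ↥M).map M.subtype := by
  obtain ⟨Q, hQ⟩ := (hA.comap_of_injective M.subtype M.subtype_injective).exists_le_sylow
  obtain ⟨m, rfl⟩ := MulAction.exists_smul_eq (↥M) Q P
  refine ⟨m, m.2, fun x hx => ?_⟩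
  rw [mem_map_conj] at hx
  have hxM : x ∈ M := by
    simpa [mul_assoc] using M.mul_mem (M.mul_mem m.2 (hAM hx)) (M.inv_mem m.2)
  refine ⟨⟨x, hxM⟩, ?_, rfl⟩
  rw [SetLike.mem_coe, sylow_smul_coe, mem_map_conj]
  exact hQ (show ((m⁻¹ * ⟨x, hxM⟩ * m : ↥M) : G) ∈ A by simpa using hx)

/-- If all `p`-subgroups of `M` strictly containing ... : normalizer growth form of being Sylow. -/
theorem sylow_of_normalizer_le [Finite G] [Fact p.Prime] {M : Subgroup G} (P₀ : Sylow p ↥M)
    (hN : Subgroup.normalizer (((P₀ : Subgroup ↥M).map M.subtype : Subgroup G) : Set G) ≤ M) :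
    ∃ P : Sylow p G, (P : Subgroup G) = (P₀ : Subgroup ↥M).map M.subtype := by
  set A := (P₀ : Subgroup ↥M).map M.subtype with hA
  obtain ⟨P, hP⟩ := (P₀.isPGroup'.map M.subtype).exists_le_sylow
  refine ⟨P, le_antisymm ?_ hP⟩
  by_contra hcon
  haveI := IsPGroup.isNilpotent P.isPGroup'
  have hlt : A.subgroupOf (P : Subgroup G) < ⊤ := lt_top_iff_ne_top.2 fun h =>
    hcon (Subgroup.subgroupOf_eq_top.1 h)
  obtain ⟨x, hx, hxA⟩ := SetLike.exists_of_lt (normalizerCondition_of_isNilpotent _ hlt)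
  have hxN : (x : G) ∈ Subgroup.normalizer (A : Set G) := by
    rw [← Subgroup.subgroupOf_normalizer_eq hP] at hx
    exact hx
  exact hxA (by
    have hQ : IsPGroup p ↥((P : Subgroup G) ⊓ M) := P.isPGroup'.to_le inf_le_left
    have := sylow_map_eq_of_le P₀ hQ inf_le_right (le_inf hP (Subgroup.map_subtype_le _))
    show (x : G) ∈ A
    rw [hA, ← this]
    exact ⟨x.2, hN hxN⟩)

theorem map_conj_of_mem_normalizer' {H : Subgroup G} {g : G}
    (h : g ∈ Subgroup.normalizer (H : Set G)) : H.map (MulAut.conj g).toMonoidHom = H := by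
  ext x
  rw [mem_map_conj, (Subgroup.mem_normalizer_iff.1 h) (g⁻¹ * x * g)]
  simp [mul_assoc]

theorem mem_normalizer_of_map_eq {H : Subgroup G} {g : G}
    (h : H.map (MulAut.conj g).toMonoidHom = H) : g ∈ Subgroup.normalizer (H : Set G) := by
  rw [Subgroup.mem_normalizer_iff]
  intro x
  conv_rhs => rw [← h]
  rw [mem_map_conj]
  simp [mul_assoc]

theorem centralizer_map_conj (H : Subgroup G) (g : G) :
    (Subgroup.centralizer (H : Set G)).map (MulAut.conj g).toMonoidHom =
      Subgroup.centralizer ((H.map (MulAut.conj g).toMonoidHom : Subgroup G) : Set G) := by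
  ext x
  rw [mem_map_conj, Subgroup.mem_centralizer_iff, Subgroup.mem_centralizer_iff]
  constructor
  · intro h y hy
    rw [SetLike.mem_coe, mem_map_conj] at hy
    have := congrArg (fun z => g * z * g⁻¹) (h _ hy)
    simpa [mul_assoc] using this
  · intro h y hy
    have := congrArg (fun z => g⁻¹ * z * g) (h (g * y * g⁻¹) (Subgroup.mem_map_of_mem _ hy))
    simpa [mul_assoc] using this

end Cfsg.Agent.LocalEven61
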