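import Cfsg.Prelude.Def_EvenType
import Cfsg.Agent.LocalEven61.Conj

/-!
Equivalent forms of `Cfsg.IsStronglyPEmbedded`.
-/

set_option autoImplicit false
set_option linter.style.haveILetI false

namespace Cfsg.Agent.LocalEven61

variable {G : Type*} [Group G] {p : ℕ}

theorem not_pRankLE_zero [Finite G] [Fact p.Prime] {Q : Subgroup G} (hQ : IsPGroup p ↥Q)
    (hne : Q ≠ ⊥) : ¬ Cfsg.PRankLE p 0 ↥Q := by
  intro h
  haveI : Nontrivial ↥Q := (Subgroup.nontrivial_iff_ne_bot Q).2 hne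
  obtain ⟨k, hk⟩ := IsPGroup.iff_card.1 hQ
  have hk0 : k ≠ 0 := by
    rintro rfl
    exact (Finite.one_lt_card (α := ↥Q)).ne (by simpa using hk.symm)
  obtain ⟨x, hx⟩ := exists_prime_orderOf_dvd_card' (G := ↥Q) p (hk ▸ dvd_pow_self p hk0)
  have := h (Subgroup.zpowers x) inferInstance (fun a ha => by
    obtain ⟨j, rfl⟩ := Subgroup.mem_zpowers_iff.1 ha
    rw [← zpow_natCast, ← zpow_mul, mul_comm, zpow_mul, zpow_natCast, ← hx, pow_orderOf_eq_one,
      one_zpow])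
  rw [Nat.card_zpowers, hx, pow_zero] at this
  exact absurd this (not_le.2 (Fact.out : p.Prime).one_lt)

theorem ne_bot_of_not_pRankLE_zero {Q : Subgroup G} (h : ¬ Cfsg.PRankLE p 0 ↥Q) : Q ≠ ⊥ := by
  rintro rfl
  refine h fun A _ _ => ?_
  rw [pow_zero]
  exact Nat.le_of_eq (Nat.card_of_subsingleton 1)

theorem kGeneratedCore_one_le_iff [Finite G] [Fact p.Prime] {P M : Subgroup G}
    (hP : IsPGroup p ↥P) :
    Cfsg.kGeneratedCore p 1 P ≤ M ↔
      ∀ Q : Subgroup G, Q ≤ P → Q ≠ ⊥ → Subgroup.normalizer (Q : Set G) ≤ M := by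
  unfold Cfsg.kGeneratedCore
  rw [iSup_le_iff]
  constructor
  · exact fun h Q h1 h2 => h ⟨Q, h1, not_pRankLE_zero (hP.to_le h1) h2⟩
  · exact fun h Q => h Q.1 Q.2.1 (ne_bot_of_not_pRankLE_zero Q.2.2)

theorem sylow_ne_bot [Finite G] [Fact p.Prime] (h : p ∣ Nat.card G) (P : Sylow p G) :
    (P : Subgroup G) ≠ ⊥ :=
  Sylow.ne_bot_of_dvd_card P h

theorem exists_pSubgroup_ne_bot [Finite G] [Fact p.Prime] {M : Subgroup G} (h : p ∣ Nat.card ↥M) :
    ∃ P₀ : Sylow p ↥M, (P₀ : Subgroup ↥M).map M.subtype ≠ ⊥ :=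
  ⟨default, fun h0 => Sylow.ne_bot_of_dvd_card default h
    ((Subgroup.map_eq_bot_iff_of_injective _ M.subtype_injective).1 h0)⟩

/-- The normalizer condition on every nontrivial `p`-subgroup of `M`. -/
def NormalizersLE (p : ℕ) (M : Subgroup G) : Prop :=
  ∀ A : Subgroup G, A ≤ M → IsPGroup p ↥A → A ≠ ⊥ → Subgroup.normalizer (A : Set G) ≤ M

theorem normalizersLE_of_spe [Finite G] [Fact p.Prime] {M : Subgroup G}
    (h : Cfsg.IsStronglyPEmbedded p M) : NormalizersLE p M := by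
  obtain ⟨hd, -, P, hP⟩ := h
  rw [kGeneratedCore_one_le_iff P.isPGroup'] at hP
  have hPM : (P : Subgroup G) ≤ M :=
    Subgroup.le_normalizer.trans (hP _ le_rfl (sylow_ne_bot hd P))
  intro A hAM hA hne
  set P' : Sylow p ↥M := P.subtype hPM
  obtain ⟨m, hm, hle⟩ := exists_conj_le_sylow_map P' hA hAM
  have hmap : (P' : Subgroup ↥M).map M.subtype = (P : Subgroup G) := by
    rw [Sylow.coe_subtype, Subgroup.subgroupOf_map_subtype, inf_eq_left.2 hPM]
  rw [hmap] at hle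
  have h1 := hP _ hle fun h0 =>
    hne ((Subgroup.map_eq_bot_iff_of_injective _ (MulAut.conj m).injective).1 h0)
  rw [normalizer_map_conj] at h1
  intro n hn
  have h2 : m * n * m⁻¹ ∈ M := h1 ⟨n, hn, rfl⟩
  simpa [mul_assoc] using M.mul_mem (M.mul_mem (M.inv_mem hm) h2) hm

theorem exists_sylow_le_of_normalizersLE [Finite G] [Fact p.Prime] {M : Subgroup G}
    (hd : p ∣ Nat.card ↥M) (h : NormalizersLE p M) :
    ∃ P : Sylow p G, (P : Subgroup G) ≤ M := by
  obtain ⟨P₀, hne⟩ := exists_pSubgroup_ne_bot hd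
  obtain ⟨P, hP⟩ := sylow_of_normalizer_le P₀
    (h _ (Subgroup.map_subtype_le _) (P₀.isPGroup'.map _) hne)
  exact ⟨P, hP.le.trans (Subgroup.map_subtype_le _)⟩

theorem spe_of_normalizersLE [Finite G] [Fact p.Prime] {M : Subgroup G} (hM : M ≠ ⊤)
    (hd : p ∣ Nat.card ↥M) (h : NormalizersLE p M) : Cfsg.IsStronglyPEmbedded p M := by
  obtain ⟨P, hPM⟩ := exists_sylow_le_of_normalizersLE hd h
  refine ⟨hd.trans (Subgroup.card_subgroup_dvd_card M), hM, P, ?_⟩
  rw [kGeneratedCore_one_le_iff P.isPGroup']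
  exact fun Q hQ hne => h Q (hQ.trans hPM) (P.isPGroup'.to_le hQ) hne

theorem dvd_card_of_spe [Finite G] [Fact p.Prime] {M : Subgroup G}
    (h : Cfsg.IsStronglyPEmbedded p M) : p ∣ Nat.card ↥M := by
  obtain ⟨hd, -, P, hP⟩ := h
  rw [kGeneratedCore_one_le_iff P.isPGroup'] at hP
  have hPM : (P : Subgroup G) ≤ M :=
    Subgroup.le_normalizer.trans (hP _ le_rfl (sylow_ne_bot hd P))
  exact (P.dvd_card_of_dvd_card hd).trans (Subgroup.card_dvd_of_le hPM)

/-- The classical definition. -/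
def ConjInterCoprime (p : ℕ) (M : Subgroup G) : Prop :=
  ∀ g : G, g ∉ M → ¬ p ∣ Nat.card ↥(M ⊓ M.map (MulAut.conj g).toMonoidHom)

theorem conjInterCoprime_of_normalizersLE [Finite G] [Fact p.Prime] {M : Subgroup G}
    (h : NormalizersLE p M) : ConjInterCoprime p M := by
  intro g hg hd
  set D := M ⊓ M.map (MulAut.conj g).toMonoidHom with hD
  obtain ⟨A₀, hne⟩ := exists_pSubgroup_ne_bot hd
  set A := (A₀ : Subgroup ↥D).map D.subtype with hA
  have hAD : A ≤ D := Subgroup.map_subtype_le _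
  have hAp : IsPGroup p ↥A := A₀.isPGroup'.map _
  set B := A.map (MulAut.conj g⁻¹).toMonoidHom with hB
  have hBM : B ≤ M := by
    intro x hx
    rw [hB, mem_map_conj] at hx
    have := mem_map_conj.1 (hAD hx).2
    simpa [mul_assoc] using this
  have hBp : IsPGroup p ↥B := hAp.map _
  have hBne : B ≠ ⊥ := fun h0 =>
    hne ((Subgroup.map_eq_bot_iff_of_injective _ (MulAut.conj g⁻¹).injective).1 h0)
  have hNA : Subgroup.normalizer (A : Set G) ≤ D := by
    refine le_inf (h A (hAD.trans inf_le_left) hAp hne) ?_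
    have hN := h B hBM hBp hBne
    rw [hB, normalizer_map_conj] at hN
    intro n hn
    have : g⁻¹ * n * g⁻¹⁻¹ ∈ M := hN ⟨n, hn, rfl⟩
    rw [mem_map_conj]
    simpa using this
  -- `A` is a Sylow subgroup of `G`
  obtain ⟨PA, hPA⟩ := sylow_of_normalizer_le A₀ hNA
  obtain ⟨PB, hPB⟩ : ∃ PB : Sylow p G, (PB : Subgroup G) = B :=
    ⟨g⁻¹ • PA, by rw [sylow_smul_coe, hPA]⟩
  have hAM : (PA : Subgroup G) ≤ M := hPA ▸ hAD.trans inf_le_left
  obtain ⟨m, hm, hle⟩ := exists_conj_le_sylow_map (PA.subtype hAM) hBp hBM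
  rw [Sylow.coe_subtype, Subgroup.subgroupOf_map_subtype, inf_eq_left.2 hAM] at hle
  have heq : B.map (MulAut.conj m).toMonoidHom = A := by
    rw [← hPB, ← sylow_smul_coe] at hle ⊢
    rw [← (m • PB).is_maximal' PA.isPGroup' hle, hPA]
  rw [hB, map_conj_map_conj] at heq
  have hmem : m * g⁻¹ ∈ Subgroup.normalizer (A : Set G) := by
    rw [Subgroup.mem_normalizer_iff]
    intro x
    conv_rhs => rw [← heq]
    rw [mem_map_conj]
    simp [mul_assoc]
  have := (hNA hmem).1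
  exact hg (by simpa [mul_assoc] using M.inv_mem (M.mul_mem (M.inv_mem hm) this))

theorem normalizersLE_of_conjInterCoprime [Finite G] [Fact p.Prime] {M : Subgroup G}
    (h : ConjInterCoprime p M) : NormalizersLE p M := by
  intro A hAM hA hne g hg
  by_contra hgM
  refine h g hgM ?_
  have hle : A ≤ M ⊓ M.map (MulAut.conj g).toMonoidHom := by
    refine le_inf hAM fun x hx => ?_
    rw [mem_map_conj]
    have := (Subgroup.mem_normalizer_iff.1 ((Subgroup.normalizer (A : Set G)).inv_mem hg) x).1 hx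
    exact hAM (by simpa using this)
  haveI : Nontrivial ↥A := (Subgroup.nontrivial_iff_ne_bot A).2 hne
  obtain ⟨k, hk⟩ := IsPGroup.iff_card.1 hA
  have hk0 : k ≠ 0 := by
    rintro rfl
    exact (Finite.one_lt_card (α := ↥A)).ne (by simpa using hk.symm)
  exact (hk ▸ dvd_pow_self p hk0 : p ∣ Nat.card ↥A).trans (Subgroup.card_dvd_of_le hle)

theorem spe_iff_normalizersLE [Finite G] [Fact p.Prime] {M : Subgroup G} (hM : M ≠ ⊤)
    (hd : p ∣ Nat.card ↥M) : Cfsg.IsStronglyPEmbedded p M ↔ NormalizersLE p M :=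
  ⟨normalizersLE_of_spe, spe_of_normalizersLE hM hd⟩

theorem spe_iff_conjInterCoprime [Finite G] [Fact p.Prime] {M : Subgroup G} (hM : M ≠ ⊤)
    (hd : p ∣ Nat.card ↥M) : Cfsg.IsStronglyPEmbedded p M ↔ ConjInterCoprime p M :=
  (spe_iff_normalizersLE hM hd).trans
    ⟨conjInterCoprime_of_normalizersLE, normalizersLE_of_conjInterCoprime⟩

theorem spe_of_le [Finite G] [Fact p.Prime] {M N : Subgroup G}
    (h : Cfsg.IsStronglyPEmbedded p M) (hle : M ≤ N) (hN : N ≠ ⊤) :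
    Cfsg.IsStronglyPEmbedded p N :=
  ⟨h.1, hN, h.2.2.choose, h.2.2.choose_spec.trans hle⟩

end Cfsg.Agent.LocalEven61
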