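import Cfsg.Agent.LocalEven61.SL2Unipotent
import Cfsg.Agent.Lib.LinearGroup.SylowChar
import Cfsg.Agent.Lib.LinearGroup.Simple
import Cfsg.Agent.Lib.Thompson.Cores

/-!
Sylow subgroups of `PSL₂(q)` for the characteristic: order, intersections, generation.
-/

set_option autoImplicit false
set_option linter.style.haveILetI false

namespace Cfsg.Agent.LocalEven61

open scoped MatrixGroups

variable {F : Type*} [Field F] [Fintype F] {p : ℕ} [Fact p.Prime] [CharP F p]

local notation "PSL₂" => Matrix.ProjectiveSpecialLinearGroup (Fin 2) F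

/-- The projection `SL₂ → PSL₂`. -/
abbrev pslMap : SL(2, F) →* PSL₂ := QuotientGroup.mk' _

omit [Fintype F] in
theorem pslMap_surjective : Function.Surjective (pslMap (F := F)) := QuotientGroup.mk'_surjective _

omit [Fintype F] in
theorem sq_eq_one_of_mem_ker {z : SL(2, F)} (hz : pslMap z = 1) : z ^ 2 = 1 := by
  obtain ⟨r, hr, hs⟩ :=
    Matrix.SpecialLinearGroup.mem_center_iff.1 ((QuotientGroup.eq_one_iff z).1 hz)
  rw [Fintype.card_fin] at hr
  apply Subtype.ext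
  rw [Matrix.SpecialLinearGroup.coe_pow, ← hs, ← map_pow, hr, map_one,
    Matrix.SpecialLinearGroup.coe_one]

omit [Fintype F] in
theorem eq_one_of_mem_ker_of_two {z : SL(2, F)} (hp : p = 2) (hz : pslMap z = 1) : z = 1 := by
  obtain ⟨r, hr, hs⟩ :=
    Matrix.SpecialLinearGroup.mem_center_iff.1 ((QuotientGroup.eq_one_iff z).1 hz)
  rw [Fintype.card_fin] at hr
  subst hp
  have hr1 : r = 1 := by
    have h : (r - 1) ^ 2 = 0 := by rw [sub_pow_char, hr, one_pow, sub_self]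
    exact sub_eq_zero.1 ((pow_eq_zero_iff two_ne_zero).1 h)
  apply Subtype.ext
  rw [← hs, hr1, map_one, Matrix.SpecialLinearGroup.coe_one]

omit [Fintype F] in
theorem pslMap_injOn_sylow (P : Sylow p SL(2, F)) :
    Function.Injective ((pslMap (F := F)).comp (P : Subgroup SL(2, F)).subtype) := by
  rw [injective_iff_map_eq_one]
  intro a ha
  by_cases hp : p = 2
  · exact Subtype.ext (eq_one_of_mem_ker_of_two hp ha)
  · obtain ⟨i, hi⟩ := P.2 a
    have h2 : (a : SL(2, F)) ^ 2 = 1 := sq_eq_one_of_mem_ker ha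
    have hi' : (a : SL(2, F)) ^ p ^ i = 1 := by simpa using congrArg Subtype.val hi
    have h := pow_gcd_eq_one.2 ⟨h2, hi'⟩
    have hc : Nat.Coprime 2 (p ^ i) :=
      Nat.Coprime.pow_right i ((Nat.coprime_primes Nat.prime_two Fact.out).2 (Ne.symm hp))
    rw [hc.gcd_eq_one, pow_one] at h
    exact Subtype.ext h

theorem psl_exists_lift (P : Sylow p PSL₂) :
    ∃ P₀ : Sylow p SL(2, F), (P₀ : Subgroup SL(2, F)).map pslMap = (P : Subgroup PSL₂) := by
  obtain ⟨g, hg⟩ := MulAction.exists_smul_eq PSL₂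
    ((upperSylow : Sylow p SL(2, F)).mapSurjective pslMap_surjective) P
  obtain ⟨g, rfl⟩ := pslMap_surjective g
  refine ⟨g • upperSylow, ?_⟩
  rw [← hg, sylow_smul_coe, sylow_smul_coe, Sylow.coe_mapSurjective, Subgroup.map_map,
    Subgroup.map_map]
  rfl

theorem psl_sylow_card (P : Sylow p PSL₂) : Nat.card ↥(P : Subgroup PSL₂) = Fintype.card F := by
  obtain ⟨P₀, hP⟩ := psl_exists_lift P
  have hinj := pslMap_injOn_sylow P₀
  have h : Nat.card ↥((P₀ : Subgroup SL(2, F)).map pslMap) = Nat.card ↥(P₀ : Subgroup SL(2, F)) := by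
    rw [show (P₀ : Subgroup SL(2, F)).map pslMap =
      ((pslMap (F := F)).comp (P₀ : Subgroup SL(2, F)).subtype).range by
        rw [MonoidHom.range_comp, Subgroup.range_subtype]]
    exact (Nat.card_congr (MonoidHom.ofInjective hinj).toEquiv).symm
  rw [← hP, h, LinearGroup.card_sylow_SL_two p P₀, Nat.card_eq_fintype_card]

theorem map_sylow_inf_eq_bot (P₀ Q₀ : Sylow p SL(2, F)) (hne : P₀ ≠ Q₀) :
    (P₀ : Subgroup SL(2, F)).map pslMap ⊓ (Q₀ : Subgroup SL(2, F)).map pslMap = ⊥ := by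
  have hb := LinearGroup.sylow_inf_eq_bot_SL_two p P₀ Q₀ hne
  rw [Subgroup.eq_bot_iff_forall]
  rintro x ⟨⟨a, ha, rfl⟩, ⟨b, hb', hab⟩⟩
  by_cases hp : p = 2
  · have h1 : a = b := by
      have := eq_one_of_mem_ker_of_two hp (show pslMap (b⁻¹ * a) = 1 by
        rw [map_mul, map_inv, hab, inv_mul_cancel])
      exact (inv_mul_eq_one.1 this).symm
    have : a ∈ (P₀ : Subgroup SL(2, F)) ⊓ Q₀ := ⟨ha, h1 ▸ hb'⟩
    rw [hb, Subgroup.mem_bot] at this
    rw [this, map_one]
  · set z := b⁻¹ * a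
    have hz : pslMap z = 1 := by rw [map_mul, map_inv, hab, inv_mul_cancel]
    have hzc : Commute b z :=
      Subgroup.mem_center_iff.1 ((QuotientGroup.eq_one_iff z).1 hz) b
    have h2 : a ^ 2 = b ^ 2 := by
      rw [show a = b * z from (mul_inv_cancel_left b a).symm, hzc.mul_pow, sq_eq_one_of_mem_ker hz,
        mul_one]
    have hmem : a ^ 2 ∈ (P₀ : Subgroup SL(2, F)) ⊓ Q₀ :=
      ⟨pow_mem ha 2, h2 ▸ pow_mem hb' 2⟩
    rw [hb, Subgroup.mem_bot] at hmem
    have ha1 : a = 1 := by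
      obtain ⟨i, hi⟩ := P₀.2 ⟨a, ha⟩
      have hi' : a ^ p ^ i = 1 := by simpa using congrArg Subtype.val hi
      have hg := pow_gcd_eq_one.2 ⟨hmem, hi'⟩
      rwa [(Nat.Coprime.pow_right i
        ((Nat.coprime_primes Nat.prime_two Fact.out).2 (Ne.symm hp))).gcd_eq_one, pow_one] at hg
    rw [ha1, map_one]

theorem psl_sylow_inf_eq_bot (P Q : Sylow p PSL₂) (h : P ≠ Q) :
    (P : Subgroup PSL₂) ⊓ Q = ⊥ := by
  obtain ⟨P₀, hP⟩ := psl_exists_lift P
  obtain ⟨Q₀, hQ⟩ := psl_exists_lift Q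
  rw [← hP, ← hQ]
  exact map_sylow_inf_eq_bot P₀ Q₀ fun h0 => h (Sylow.ext (by rw [← hP, ← hQ, h0]))

theorem psl_sylow_sup_eq_top (P Q : Sylow p PSL₂) (h : P ≠ Q) :
    (P : Subgroup PSL₂) ⊔ Q = ⊤ := by
  obtain ⟨P₀, hP⟩ := psl_exists_lift P
  obtain ⟨Q₀, hQ⟩ := psl_exists_lift Q
  have hne : P₀ ≠ Q₀ := fun h0 => h (Sylow.ext (by rw [← hP, ← hQ, h0]))
  rw [← hP, ← hQ, ← Subgroup.map_sup, LinearGroup.sylow_sup_eq_top_SL_two p P₀ Q₀ hne,
    Subgroup.map_top_of_surjective _ pslMap_surjective]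

theorem psl_exists_sylow_ne (P : Sylow p PSL₂) : ∃ g : PSL₂, g • P ≠ P := by
  by_contra! hall
  obtain ⟨P₀, hP⟩ := psl_exists_lift P
  haveI : Nontrivial (Sylow p SL(2, F)) := Finite.one_lt_card_iff_nontrivial.1 (by
    rw [LinearGroup.card_sylow_SL_two_count p]
    have := Finite.one_lt_card (α := F)
    omega)
  obtain ⟨Q₀, hne⟩ := exists_ne P₀
  obtain ⟨g, hg⟩ := MulAction.exists_smul_eq SL(2, F) P₀ Q₀
  have h1 : (Q₀ : Subgroup SL(2, F)).map pslMap = (P : Subgroup PSL₂) := by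
    rw [← hg, sylow_smul_coe, Subgroup.map_map]
    conv_rhs => rw [← hall (pslMap g), sylow_smul_coe, ← hP, Subgroup.map_map]
    rfl
  have h2 := map_sylow_inf_eq_bot P₀ Q₀ hne.symm
  rw [hP, h1, inf_idem] at h2
  have h3 := psl_sylow_card P
  rw [h2, Subgroup.card_bot] at h3
  have := Fintype.one_lt_card (α := F)
  omega

theorem psl_pCore_eq_bot {N : Subgroup PSL₂} [N.Normal] (hN : IsPGroup p ↥N) : N = ⊥ := by
  haveI : Finite PSL₂ := Finite.of_surjective _ pslMap_surjective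
  obtain ⟨g, hg⟩ := psl_exists_sylow_ne (p := p) (F := F) default
  rw [← le_bot_iff, ← psl_sylow_inf_eq_bot _ _ hg]
  exact le_inf (hN.le_sylow_of_normal _) (hN.le_sylow_of_normal _)

theorem psl_simple (h4 : 4 ≤ Fintype.card F) : IsSimpleGroup PSL₂ := by
  classical
  refine LinearGroup.isSimpleGroup_PSL' fun _ => ?_
  by_contra! hall
  have hsub : (Finset.univ : Finset F) ⊆ {0, 1, -1} := by
    intro a _
    by_cases ha : a = 0
    · simp [ha]
    · rcases sq_eq_one_iff.1 (hall a ha) with h | h <;> simp [h]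
  have h := (Finset.card_le_card hsub).trans Finset.card_le_three
  rw [Finset.card_univ] at h
  omega

end Cfsg.Agent.LocalEven61
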