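import Cfsg.Agent.PLocalB.SL2Basic
import Cfsg.Agent.Lib.LinearGroup.Card
import Cfsg.Agent.LocalEven61.Conj
import Cfsg.Prelude.Def_Solvable

/-!
The unipotent Sylow subgroup of `SL₂` over a finite field.
-/

set_option autoImplicit false
set_option linter.style.haveILetI false

open scoped MatrixGroups

namespace Cfsg.Agent.LocalEven61

open Cfsg.Agent.PLocalB (upper lower)

variable {F : Type*} [Field F]

theorem sl2_smul_apply (A : SL(2, F)) (w : Fin 2 → F) (i : Fin 2) :
    ((A : Matrix (Fin 2) (Fin 2) F).mulVec w) i = A i 0 * w 0 + A i 1 * w 1 := by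
  simp [Matrix.mulVec, dotProduct, Fin.sum_univ_two]

/-- Upper unitriangular matrices, as a homomorphism. -/
def upperMap : Multiplicative F →* SL(2, F) where
  toFun a := upper a.toAdd
  map_one' := PLocalB.upper_zero
  map_mul' a b := (PLocalB.upper_mul a.toAdd b.toAdd).symm

/-- The group of upper unitriangular matrices. -/
def upperGroup (F : Type*) [Field F] : Subgroup SL(2, F) := upperMap.range

theorem mem_upperGroup_iff {A : SL(2, F)} : A ∈ upperGroup F ↔ A 1 0 = 0 ∧ A 0 0 = 1 := by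
  constructor
  · rintro ⟨a, rfl⟩
    simp [upperMap]
  · rintro ⟨h10, h00⟩
    exact ⟨Multiplicative.ofAdd (A 0 1), (PLocalB.eq_upper_of_entries A h10 h00).symm⟩

theorem card_upperGroup : Nat.card ↥(upperGroup F) = Nat.card F := by
  rw [upperGroup, ← Nat.card_congr (MonoidHom.ofInjective (f := upperMap (F := F)) ?_).toEquiv]
  · rfl
  · exact fun a b h => Multiplicative.toAdd.injective (PLocalB.upper_injective h)

theorem borel_normalizes {A : SL(2, F)} (h : A 1 0 = 0) :
    A ∈ Subgroup.normalizer (upperGroup F : Set SL(2, F)) := by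
  have key : ∀ B : SL(2, F), B 1 0 = 0 → ∀ u ∈ upperGroup F, B * u * B⁻¹ ∈ upperGroup F := by
    intro B hB u hu
    rw [mem_upperGroup_iff] at hu ⊢
    have hd := PLocalB.det_entries B
    have hu' := PLocalB.det_entries u
    simp [Matrix.SpecialLinearGroup.coe_inv, Matrix.adjugate_fin_two, Matrix.mul_apply,
      Fin.sum_univ_two, hB, hu.1, hu.2] at hd hu' ⊢
    exact hd
  rw [Subgroup.mem_normalizer_iff]
  refine fun u => ⟨key A h u, fun hu => ?_⟩
  have hinv : (A⁻¹ : SL(2, F)) 1 0 = 0 := by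
    simp [Matrix.SpecialLinearGroup.coe_inv, Matrix.adjugate_fin_two, h]
  simpa [mul_assoc] using key A⁻¹ hinv _ hu

theorem lower_zero_of_normalizes {A : SL(2, F)}
    (h : A ∈ Subgroup.normalizer (upperGroup F : Set SL(2, F))) : A 1 0 = 0 := by
  have h1 := ((Subgroup.mem_normalizer_iff.1 h) (upper (1 : F))).1 ⟨Multiplicative.ofAdd 1, rfl⟩
  rw [mem_upperGroup_iff] at h1
  have h2 := h1.1
  simp [Matrix.SpecialLinearGroup.coe_inv, Matrix.adjugate_fin_two, Matrix.mul_apply,
    Fin.sum_univ_two] at h2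
  have h3 : A 1 0 * A 1 0 = 0 := by linear_combination -h2
  exact mul_self_eq_zero.1 h3

variable [Finite F] {p : ℕ} [Fact p.Prime]

omit [Fact p.Prime] in
theorem factorization_card_SL2 [CharP F p] :
    (Nat.card SL(2, F)).factorization p = (Nat.card F).factorization p := by
  haveI := Fintype.ofFinite F
  rw [LinearGroup.card_SL_two]
  obtain ⟨n, hp, hn⟩ := FiniteField.card F p
  have hq : Nat.card F = p ^ (n : ℕ) := by rw [Nat.card_eq_fintype_card, hn]
  have h1 : Nat.card F ^ 2 - 1 ≠ 0 := by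
    have : 1 < Nat.card F := Finite.one_lt_card
    have : 1 < Nat.card F ^ 2 := Nat.one_lt_pow (by norm_num) this
    omega
  have h2 : ¬ p ∣ Nat.card F ^ 2 - 1 := by
    intro h
    have h3 : p ∣ Nat.card F ^ 2 := hq ▸ dvd_pow (dvd_pow_self p n.pos.ne') (by norm_num)
    have h4 : 1 ≤ Nat.card F ^ 2 := Nat.one_le_pow _ _ Nat.card_pos
    have : p ∣ 1 := (Nat.dvd_sub h3 h).trans (by rw [Nat.sub_sub_self h4])
    exact hp.one_lt.ne' (Nat.dvd_one.1 this)
  rw [Nat.factorization_mul Nat.card_pos.ne' h1, Finsupp.add_apply,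
    Nat.factorization_eq_zero_of_not_dvd h2, add_zero]

/-- The upper unitriangular group as a Sylow subgroup. -/
noncomputable def upperSylow [CharP F p] : Sylow p SL(2, F) :=
  Sylow.ofCard (upperGroup F) (by
    haveI := Fintype.ofFinite F
    obtain ⟨n, hp, hn⟩ := FiniteField.card F p
    have hq : Nat.card F = p ^ (n : ℕ) := by rw [Nat.card_eq_fintype_card, hn]
    rw [card_upperGroup, factorization_card_SL2, hq, hp.factorization_pow, Finsupp.single_eq_same])

theorem coe_upperSylow [CharP F p] : ((upperSylow : Sylow p SL(2, F)) : Subgroup SL(2, F)) = upperGroup F :=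
  rfl

theorem pCore_SL2_eq_bot [CharP F p] : Cfsg.pCore p SL(2, F) = ⊥ := by
  have hle : ∀ P : Sylow p SL(2, F), Cfsg.pCore p SL(2, F) ≤ (P : Subgroup SL(2, F)) := fun P =>
    sSup_le fun N hN => by haveI := hN.1; exact hN.2.le_sylow_of_normal P
  rw [eq_bot_iff]
  intro A hA
  obtain ⟨w, hw⟩ : ∃ w : SL(2, F), (w : Matrix (Fin 2) (Fin 2) F) = !![0, -1; 1, 0] :=
    ⟨⟨!![0, -1; 1, 0], by simp [Matrix.det_fin_two]⟩, rfl⟩
  have h1 : A ∈ upperGroup F := by
    rw [← coe_upperSylow (p := p)]; exact hle _ hA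
  have h2 := hle (w • (upperSylow : Sylow p SL(2, F))) hA
  rw [sylow_smul_coe, mem_map_conj, coe_upperSylow, mem_upperGroup_iff] at h2
  rw [mem_upperGroup_iff] at h1
  rw [Subgroup.mem_bot]
  have h3 := h2.1
  rw [Matrix.SpecialLinearGroup.coe_mul, Matrix.SpecialLinearGroup.coe_mul,
    Matrix.SpecialLinearGroup.coe_inv, hw] at h3
  simp [Matrix.adjugate_fin_two, Matrix.vecMul, dotProduct, Matrix.mul_apply, Fin.sum_univ_two] at h3
  exact PLocalB.eq_one_of_diag A h3 h1.1 h1.2

end Cfsg.Agent.LocalEven61
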