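import Cfsg.Agent.LocalEven61.SL2Unipotent
import Cfsg.Prelude.Def_PLocal
import Cfsg.Prelude.Def_LocalEven

/-!
The affine group `qdOver F` in coordinates (translation part, linear part).
-/

set_option autoImplicit false
set_option linter.style.haveILetI false

open scoped MatrixGroups

namespace Cfsg.Agent.LocalEven61

open Cfsg.Agent.PLocalB (upper lower)

variable {F : Type*} [Field F]

/-- Matrices whose last row is `(0, 0, 1)`, as a subgroup. -/
def affineRows (F : Type*) [Field F] : Subgroup (Matrix.SpecialLinearGroup (Fin 3) F) where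
  carrier := {M | (M : Matrix (Fin 3) (Fin 3) F) 2 0 = 0 ∧
    (M : Matrix (Fin 3) (Fin 3) F) 2 1 = 0 ∧ (M : Matrix (Fin 3) (Fin 3) F) 2 2 = 1}
  one_mem' := by simp
  mul_mem' := by
    rintro A B ⟨a0, a1, a2⟩ ⟨b0, b1, b2⟩
    simp [Matrix.mul_apply, Fin.sum_univ_three, a0, a1, a2, b0, b1, b2]
  inv_mem' := by
    rintro A ⟨a0, a1, a2⟩
    have hd : Matrix.det (A : Matrix (Fin 3) (Fin 3) F) = 1 := A.2
    rw [Matrix.det_fin_three, a0, a1, a2] at hd
    simp [Matrix.SpecialLinearGroup.coe_inv, Matrix.adjugate_fin_three, a0, a1, a2]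
    linear_combination hd

theorem qdOver_eq : Cfsg.qdOver F = affineRows F :=
  le_antisymm ((Subgroup.closure_le _).2 fun _ h => h) Subgroup.subset_closure

theorem mem_qdOver_iff {M : Matrix.SpecialLinearGroup (Fin 3) F} :
    M ∈ Cfsg.qdOver F ↔ (M : Matrix (Fin 3) (Fin 3) F) 2 0 = 0 ∧
      (M : Matrix (Fin 3) (Fin 3) F) 2 1 = 0 ∧ (M : Matrix (Fin 3) (Fin 3) F) 2 2 = 1 := by
  rw [qdOver_eq]; rfl

/-- Entries of an element of `qdOver F`. -/
def qdEntry (M : ↥(Cfsg.qdOver F)) (i j : Fin 3) : F :=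
  ((M : Matrix.SpecialLinearGroup (Fin 3) F) : Matrix (Fin 3) (Fin 3) F) i j

theorem qdEntry_mul (M N : ↥(Cfsg.qdOver F)) (i j : Fin 3) :
    qdEntry (M * N) i j =
      qdEntry M i 0 * qdEntry N 0 j + qdEntry M i 1 * qdEntry N 1 j + qdEntry M i 2 * qdEntry N 2 j := by
  simp [qdEntry, Matrix.mul_apply, Fin.sum_univ_three]

theorem qdEntry_last (M : ↥(Cfsg.qdOver F)) :
    qdEntry M 2 0 = 0 ∧ qdEntry M 2 1 = 0 ∧ qdEntry M 2 2 = 1 :=
  mem_qdOver_iff.1 M.2

/-- The linear part. -/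
def qdLin : ↥(Cfsg.qdOver F) →* SL(2, F) where
  toFun M := ⟨!![qdEntry M 0 0, qdEntry M 0 1; qdEntry M 1 0, qdEntry M 1 1], by
    have hd : Matrix.det ((M : Matrix.SpecialLinearGroup (Fin 3) F) : Matrix (Fin 3) (Fin 3) F) = 1 :=
      M.1.2
    obtain ⟨h0, h1, h2⟩ := mem_qdOver_iff.1 M.2
    rw [Matrix.det_fin_three, h0, h1, h2] at hd
    rw [Matrix.det_fin_two_of]
    simp only [qdEntry]
    linear_combination hd⟩
  map_one' := by
    ext i j; fin_cases i <;> fin_cases j <;> simp [qdEntry]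
  map_mul' M N := by
    obtain ⟨h0, h1, -⟩ := qdEntry_last N
    apply Subtype.ext
    refine Eq.trans ?_ (Matrix.SpecialLinearGroup.coe_mul _ _).symm
    ext i j
    fin_cases i <;> fin_cases j <;>
      simp [qdEntry_mul, h0, h1, Matrix.mul_apply, Fin.sum_univ_two]

theorem coe_qdLin (M : ↥(Cfsg.qdOver F)) :
    (qdLin M : Matrix (Fin 2) (Fin 2) F) =
      !![qdEntry M 0 0, qdEntry M 0 1; qdEntry M 1 0, qdEntry M 1 1] := rfl

/-- The translation part. -/
def qdTrans (M : ↥(Cfsg.qdOver F)) : Fin 2 → F := ![qdEntry M 0 2, qdEntry M 1 2]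

/-- The element with translation `v` and linear part `A`. -/
def qdAff (v : Fin 2 → F) (A : SL(2, F)) : ↥(Cfsg.qdOver F) :=
  ⟨⟨!![A 0 0, A 0 1, v 0; A 1 0, A 1 1, v 1; 0, 0, 1], by
    have h := PLocalB.det_entries A
    rw [Matrix.det_fin_three]
    simp
    linear_combination h⟩, mem_qdOver_iff.2 (by simp)⟩

theorem qdLin_qdAff (v : Fin 2 → F) (A : SL(2, F)) : qdLin (qdAff v A) = A := by
  ext i j; fin_cases i <;> fin_cases j <;> simp [coe_qdLin, qdAff, qdEntry]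

theorem qdTrans_qdAff (v : Fin 2 → F) (A : SL(2, F)) : qdTrans (qdAff v A) = v := by
  funext i; fin_cases i <;> simp [qdTrans, qdAff, qdEntry]

theorem qd_ext {M N : ↥(Cfsg.qdOver F)} (h1 : qdLin M = qdLin N) (h2 : qdTrans M = qdTrans N) :
    M = N := by
  obtain ⟨a0, a1, a2⟩ := qdEntry_last M
  obtain ⟨b0, b1, b2⟩ := qdEntry_last N
  have e : ∀ i j : Fin 2, (qdLin M : Matrix (Fin 2) (Fin 2) F) i j = (qdLin N : Matrix (Fin 2) (Fin 2) F) i j :=
    fun i j => by rw [h1]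
  have c00 := e 0 0; have c01 := e 0 1; have c10 := e 1 0; have c11 := e 1 1
  have d0 := congrFun h2 0; have d1 := congrFun h2 1
  simp [coe_qdLin] at c00 c01 c10 c11
  simp [qdTrans] at d0 d1
  apply Subtype.ext
  ext i j
  change qdEntry M i j = qdEntry N i j
  fin_cases i <;> fin_cases j <;> simp_all

theorem qdAff_eta (M : ↥(Cfsg.qdOver F)) : qdAff (qdTrans M) (qdLin M) = M :=
  qd_ext (qdLin_qdAff _ _) (qdTrans_qdAff _ _)

theorem qdTrans_mul (M N : ↥(Cfsg.qdOver F)) :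
    qdTrans (M * N) =
      qdTrans M + (qdLin M : Matrix (Fin 2) (Fin 2) F).mulVec (qdTrans N) := by
  obtain ⟨-, -, h2⟩ := qdEntry_last N
  funext i
  rw [Pi.add_apply, sl2_smul_apply]
  fin_cases i <;> simp [qdTrans, qdEntry_mul, coe_qdLin, h2] <;> ring

theorem qdAff_mul (v w : Fin 2 → F) (A B : SL(2, F)) :
    qdAff v A * qdAff w B = qdAff (v + (A : Matrix (Fin 2) (Fin 2) F).mulVec w) (A * B) :=
  qd_ext (by rw [map_mul, qdLin_qdAff, qdLin_qdAff, qdLin_qdAff])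
    (by rw [qdTrans_mul, qdTrans_qdAff, qdTrans_qdAff, qdTrans_qdAff, qdLin_qdAff])

theorem qdAff_zero_one : qdAff (0 : Fin 2 → F) 1 = 1 :=
  qd_ext (by rw [qdLin_qdAff, map_one])
    (by rw [qdTrans_qdAff]; funext i; fin_cases i <;> simp [qdTrans, qdEntry])

theorem qdLin_surjective : Function.Surjective (qdLin : ↥(Cfsg.qdOver F) →* SL(2, F)) :=
  fun A => ⟨qdAff 0 A, qdLin_qdAff 0 A⟩

theorem eq_qdAff_of_mem_ker {M : ↥(Cfsg.qdOver F)} (h : qdLin M = 1) : M = qdAff (qdTrans M) 1 := by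
  rw [← h, qdAff_eta]

theorem qdTrans_mul_of_ker {M : ↥(Cfsg.qdOver F)} (h : qdLin M = 1) (N : ↥(Cfsg.qdOver F)) :
    qdTrans (M * N) = qdTrans M + qdTrans N := by
  rw [qdTrans_mul, h, Matrix.SpecialLinearGroup.coe_one, Matrix.one_mulVec]

theorem qd_conj_ker (g : ↥(Cfsg.qdOver F)) (w : Fin 2 → F) :
    g * qdAff w 1 * g⁻¹ = qdAff ((qdLin g : Matrix (Fin 2) (Fin 2) F).mulVec w) 1 := by
  rw [mul_inv_eq_iff_eq_mul]
  conv => lhs; rw [← qdAff_eta g]
  conv => rhs; rw [← qdAff_eta g]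
  rw [qdAff_mul, qdAff_mul, mul_one, one_mul, Matrix.SpecialLinearGroup.coe_one, Matrix.one_mulVec,
    qdLin_qdAff, add_comm]

theorem card_qdOver :
    Nat.card ↥(Cfsg.qdOver F) = Nat.card F ^ 2 * Nat.card SL(2, F) := by
  rw [Nat.card_congr (Equiv.ofBijective (fun M : ↥(Cfsg.qdOver F) => (qdTrans M, qdLin M))
    ⟨fun M N h => qd_ext (Prod.ext_iff.1 h).2 (Prod.ext_iff.1 h).1,
      fun x => ⟨qdAff x.1 x.2, Prod.ext (qdTrans_qdAff _ _) (qdLin_qdAff _ _)⟩⟩),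
    Nat.card_prod, Nat.card_fun]
  simp

variable {p : ℕ} [Fact p.Prime] [CharP F p]

omit [Fact p.Prime] in
theorem isPGroup_ker_qdLin : IsPGroup p (qdLin : ↥(Cfsg.qdOver F) →* SL(2, F)).ker := by
  intro M
  refine ⟨1, ?_⟩
  have h : qdLin (M : ↥(Cfsg.qdOver F)) = 1 := M.2
  have key : ∀ k : ℕ, qdTrans ((M : ↥(Cfsg.qdOver F)) ^ k) = (k : F) • qdTrans (M : ↥(Cfsg.qdOver F)) := by
    intro k
    induction k with
    | zero => rw [pow_zero, ← qdAff_zero_one, qdTrans_qdAff]; simp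
    | succ k ih => rw [pow_succ', qdTrans_mul_of_ker h, ih, Nat.cast_succ, add_smul, one_smul, add_comm]
  apply Subtype.ext
  refine qd_ext ?_ ?_
  · rw [SubgroupClass.coe_pow, map_pow, h, one_pow]; simp
  · rw [SubgroupClass.coe_pow, pow_one, key, CharP.cast_eq_zero, zero_smul, OneMemClass.coe_one,
      ← qdAff_zero_one, qdTrans_qdAff]

theorem pCore_qdOver [Finite F] :
    Cfsg.pCore p ↥(Cfsg.qdOver F) = (qdLin : ↥(Cfsg.qdOver F) →* SL(2, F)).ker := by
  refine le_antisymm (sSup_le fun N hN => ?_) (le_sSup ⟨inferInstance, isPGroup_ker_qdLin⟩)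
  haveI := hN.1
  rw [← MonoidHom.comap_bot, ← Subgroup.map_le_iff_le_comap, ← pCore_SL2_eq_bot (F := F) (p := p)]
  exact le_sSup ⟨Subgroup.Normal.map hN.1 _ qdLin_surjective, hN.2.map _⟩

end Cfsg.Agent.LocalEven61
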