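import Cfsg.Agent.Lib.PGroup.Basic
import Mathlib.GroupTheory.Transfer
import Mathlib.Algebra.Group.ForwardDiff
import Mathlib.Data.ZMod.Basic
import Mathlib.Data.Nat.Choose.Dvd

/-!
The transfer to the normaliser of a weakly closed subgroup, evaluated at an element of least order
(Wielandt, Hall, Yoshida).
-/

set_option autoImplicit false
set_option linter.style.haveILetI false

namespace Cfsg.Agent.LocalEven61

open MulAction

section CosetVal

variable {K : Type*} [Group K] {E : Type*} [CommGroup E] {H : Subgroup K}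

theorem conj_out_mem {a : K} {x : K ⧸ H} (h : a • x = x) : x.out⁻¹ * a * x.out ∈ H := by
  rw [← QuotientGroup.out_eq' x, Quotient.smul_mk, smul_eq_mul, eq_comm, QuotientGroup.eq,
    ← mul_assoc] at h
  exact h

open Classical in
/-- The transfer contribution of a fixed coset. -/
noncomputable def cosetVal (ψ : H →* E) (a : K) (x : K ⧸ H) : E :=
  if h : a • x = x then ψ ⟨x.out⁻¹ * a * x.out, conj_out_mem h⟩ else 1

theorem cosetVal_mk (ψ : H →* E) {a g : K} (hg : g⁻¹ * a * g ∈ H) :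
    cosetVal ψ a (QuotientGroup.mk g : K ⧸ H) = ψ ⟨g⁻¹ * a * g, hg⟩ := by
  have hfix : a • (QuotientGroup.mk g : K ⧸ H) = QuotientGroup.mk g := by
    rw [Quotient.smul_mk, smul_eq_mul, eq_comm, QuotientGroup.eq, ← mul_assoc]
    exact hg
  rw [cosetVal, dif_pos hfix]
  obtain ⟨h, hh⟩ := QuotientGroup.mk_out_eq_mul H g
  have e : (⟨_, conj_out_mem hfix⟩ : H) = h⁻¹ * ⟨g⁻¹ * a * g, hg⟩ * h :=
    Subtype.ext (by simp only [hh, Subgroup.coe_mul, Subgroup.coe_inv]; group)
  rw [e, map_mul, map_mul, mul_comm, ← mul_assoc, ← map_mul, mul_inv_cancel, map_one, one_mul]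

theorem cosetVal_of_not_fixed (ψ : H →* E) {a : K} {x : K ⧸ H} (h : a • x ≠ x) :
    cosetVal ψ a x = 1 := by rw [cosetVal, dif_neg h]

theorem cosetVal_smul (ψ : H →* E) (a h : K) (x : K ⧸ H) :
    cosetVal ψ (h⁻¹ * a * h) x = cosetVal ψ a (h • x) := by
  obtain ⟨g, rfl⟩ := QuotientGroup.mk_surjective x
  rw [Quotient.smul_mk, smul_eq_mul]
  have e : g⁻¹ * (h⁻¹ * a * h) * g = (h * g)⁻¹ * a * (h * g) := by group
  by_cases hmem : g⁻¹ * (h⁻¹ * a * h) * g ∈ H
  · rw [cosetVal_mk ψ hmem, cosetVal_mk ψ (e ▸ hmem)]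
    exact congrArg ψ (Subtype.ext e)
  · rw [cosetVal_of_not_fixed, cosetVal_of_not_fixed]
    · rw [Quotient.smul_mk, smul_eq_mul, ne_comm, Ne, QuotientGroup.eq, ← mul_assoc, ← e]
      exact hmem
    · rw [Quotient.smul_mk, smul_eq_mul, ne_comm, Ne, QuotientGroup.eq, ← mul_assoc]
      exact hmem

/-- If proper powers contribute nothing, only the fixed cosets contribute to the transfer. -/
theorem transfer_eq_prod_cosetVal [Finite K] [Fintype (K ⧸ H)] (ψ : H →* E) (a : K)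
    (hlow : ∀ h : H, orderOf (h : K) ∣ orderOf a → orderOf (h : K) ≠ orderOf a → ψ h = 1) :
    MonoidHom.transfer ψ a = ∏ x : K ⧸ H, cosetVal ψ a x := by
  classical
  let _ : Fintype (Quotient (MulAction.orbitRel (Subgroup.zpowers a) (K ⧸ H))) := Fintype.ofFinite _
  rw [MonoidHom.transfer_eq_prod_quotient_orbitRel_zpowers_quot,
    ← Fintype.prod_fiberwise (Quotient.mk (MulAction.orbitRel (Subgroup.zpowers a) (K ⧸ H)))
      (cosetVal ψ a)]
  refine Fintype.prod_congr _ _ fun o => ?_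
  have hfix : ∀ x : K ⧸ H, a • x = x → ∀ z : ℤ, a ^ z • x = x := fun x hx z =>
    MulAction.mem_stabilizer_iff.1 ((MulAction.stabilizer K x).zpow_mem hx z)
  by_cases h1 : a • o.out = o.out
  · rw [Finset.prod_eq_single (⟨o.out, Quotient.out_eq o⟩ :
      {x // Quotient.mk (MulAction.orbitRel (Subgroup.zpowers a) (K ⧸ H)) x = o})]
    · rw [cosetVal, dif_pos h1]
      congr 1
      refine Subtype.ext ?_
      simp only [Function.minimalPeriod_eq_one_iff_isFixedPt.2 (show Function.IsFixedPt (a • ·) o.out from h1), pow_one]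
    · rintro ⟨x, hx⟩ - hne
      exfalso
      apply hne
      refine Subtype.ext ?_
      obtain ⟨⟨_, k, rfl⟩, hk⟩ : x ∈ MulAction.orbit (Subgroup.zpowers a) o.out := by
        rw [← MulAction.orbitRel_apply]
        exact Quotient.exact (hx.trans (Quotient.out_eq o).symm)
      change x = o.out
      exact hk.symm.trans (hfix _ h1 k)
    · simp
  · rw [Finset.prod_eq_one fun x _ => ?_]
    · refine hlow _ ?_ ?_
      · simp only
        have e : o.out.out⁻¹ * a ^ Function.minimalPeriod (a • ·) o.out * o.out.out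
            = MulAut.conj o.out.out⁻¹ (a ^ Function.minimalPeriod (a • ·) o.out) := by
          rw [MulAut.conj_apply]; group
        rw [e, MulEquiv.orderOf_eq]
        exact orderOf_dvd_of_pow_eq_one (by rw [← pow_mul, mul_comm, pow_mul, pow_orderOf_eq_one, one_pow])
      · simp only
        have e : o.out.out⁻¹ * a ^ Function.minimalPeriod (a • ·) o.out * o.out.out
            = MulAut.conj o.out.out⁻¹ (a ^ Function.minimalPeriod (a • ·) o.out) := by
          rw [MulAut.conj_apply]; group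
        rw [e, MulEquiv.orderOf_eq]
        have hd : Function.minimalPeriod (a • ·) o.out ∣ orderOf a := by
          refine Function.IsPeriodicPt.minimalPeriod_dvd ?_
          rw [Function.IsPeriodicPt, Function.IsFixedPt, smul_iterate, pow_orderOf_eq_one]
          exact one_smul K o.out
        have hp1 : Function.minimalPeriod (a • ·) o.out ≠ 1 :=
          fun h => h1 (Function.minimalPeriod_eq_one_iff_isFixedPt.1 h)
        have hp0 : Function.minimalPeriod (a • ·) o.out ≠ 0 := fun h => by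
          rw [h, zero_dvd_iff] at hd; exact (orderOf_pos a).ne' hd
        rw [orderOf_pow_of_dvd hp0 hd]
        exact (Nat.div_lt_self (orderOf_pos a) (by omega)).ne
    · refine cosetVal_of_not_fixed ψ fun hx => h1 ?_
      obtain ⟨⟨_, k, rfl⟩, hk⟩ : o.out ∈ MulAction.orbit (Subgroup.zpowers a) x.1 := by
        rw [← MulAction.orbitRel_apply]
        exact Quotient.exact ((Quotient.out_eq o).trans x.2.symm)
      have hk' : o.out = x.1 := by rw [← hk]; exact hfix _ hx k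
      rwa [hk']

end CosetVal

theorem alternating_choose_cast {p : ℕ} (hp : p.Prime) :
    ∀ k, k < p → ((-1 : ℤ) ^ (p - 1 - k) * (p - 1).choose k : ZMod p) = 1 := by
  haveI := Fact.mk hp
  have hC : ∀ k, k < p → (((p - 1).choose k : ℕ) : ZMod p) = (-1) ^ k := by
    intro k
    induction k with
    | zero => simp
    | succ k ih =>
      intro hk
      have h1 : (((p - 1).choose k : ℕ) : ZMod p) + ((p - 1).choose (k + 1) : ℕ) = 0 := by
        rw [← Nat.cast_add, ← Nat.choose_succ_succ', Nat.sub_add_cancel hp.pos,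
          ZMod.natCast_eq_zero_iff]
        exact Nat.Prime.dvd_choose_self hp (Nat.succ_ne_zero k) hk
      rw [ih (by omega)] at h1
      rw [pow_succ]
      linear_combination h1
  intro k hk
  push_cast
  rw [hC k hk, ← pow_add, Nat.sub_add_cancel (by omega : k ≤ p - 1)]
  rcases hp.eq_two_or_odd with h | h
  · subst h
    exact ZMod.neg_eq_self_mod_two 1 |>.symm ▸ one_pow _
  · exact (show Even (p - 1) from ⟨p / 2, by omega⟩).neg_one_pow

/-- The transfer at an element of least order not in the kernel. -/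
theorem transfer_eq_of_min {G : Type*} [Group G] [Finite G] {p : ℕ} [hp : Fact p.Prime]
    {N S W : Subgroup G} (hS : IsPGroup p ↥S) (hWS : W ≤ S)
    (hnorm : S ≤ Subgroup.normalizer (W : Set G))
    (hSN : S ≤ N) (hfix : ∀ g : G, (∀ w ∈ W, g⁻¹ * w * g ∈ N) → g ∈ N)
    {E : Type*} [CommGroup E] (hE : ∀ e : E, e ^ p = 1) (φ : N →* E) {y : G} (hy : y ∈ S)
    (hlow : ∀ n : N, orderOf (n : G) ∣ orderOf y → orderOf (n : G) ≠ orderOf y → φ n = 1)
    (hD : ∀ z ∈ W, ∀ W₀ : Subgroup ↥W, IsCoatom W₀ →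
      (fun t : G => t⁻¹ * z⁻¹ * t * z)^[p - 1] y ∈ W₀.map W.subtype →
      (fun t : G => t⁻¹ * z⁻¹ * t * z)^[p - 1] y ∈ ((frattini ↥W₀).map W₀.subtype).map W.subtype) :
    MonoidHom.transfer φ y = φ ⟨y, hSN hy⟩ := by
  classical
  letI : Fintype (G ⧸ N) := Fintype.ofFinite _
  rw [transfer_eq_prod_cosetVal φ y hlow]
  set K := Subgroup.zpowers y ⊔ W with hK
  have hKS : K ≤ S := sup_le (Subgroup.zpowers_le.2 hy) hWS
  have hKp : IsPGroup p ↥K := hS.to_le hKS
  have hyK : y ∈ K := le_sup_left (α := Subgroup G) (Subgroup.mem_zpowers y)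
  have hWK : W ≤ K := le_sup_right
  set x₁ : G ⧸ N := QuotientGroup.mk 1
  have hval : cosetVal φ y x₁ = φ ⟨y, hSN hy⟩ := by
    rw [cosetVal_mk φ (a := y) (g := 1) (by simpa using hSN hy)]
    exact congrArg φ (Subtype.ext (by simp))
  let f : G ⧸ N → Quotient (MulAction.orbitRel K (G ⧸ N)) := Quotient.mk _
  letI : Fintype (Quotient (MulAction.orbitRel K (G ⧸ N))) := Fintype.ofFinite _
  rw [← Finset.prod_fiberwise Finset.univ f, Finset.prod_eq_single (f x₁)]
  · rw [Finset.prod_eq_single x₁, hval]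
    · intro x hx hne
      obtain ⟨⟨k, hk⟩, hkx⟩ : x ∈ MulAction.orbit K x₁ := by
        rw [← MulAction.orbitRel_apply]
        exact Quotient.exact (Finset.mem_filter.1 hx).2
      refine absurd ?_ hne
      rw [← hkx]
      show k • x₁ = x₁
      rw [Quotient.smul_mk, smul_eq_mul, mul_one, eq_comm, QuotientGroup.eq]
      simpa using hSN (hKS hk)
    · simp
  swap
  · simp
  intro o _ ho
  by_cases hfx : ∃ x₀, f x₀ = o ∧ y • x₀ = x₀
  swap
  · exact Finset.prod_eq_one fun x hx =>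
      cosetVal_of_not_fixed φ fun hx' => hfx ⟨x, (Finset.mem_filter.1 hx).2, hx'⟩
  obtain ⟨x₀, hx₀o, hx₀⟩ := hfx
  set R := MulAction.stabilizer G x₀ ⊓ K with hR
  have hWR : ¬ W ≤ R := by
    intro hle
    apply ho
    rw [← hx₀o]
    have hg : x₀.out ∈ N := hfix _ fun w hw => conj_out_mem (hle hw).1
    rw [show x₀ = x₁ by
      rw [← QuotientGroup.out_eq' x₀]
      exact (QuotientGroup.eq.2 (by simpa using hg)).symm]
  have hRtop : R.subgroupOf K ≠ ⊤ := fun h =>
    hWR (hWK.trans (Subgroup.subgroupOf_eq_top.1 h))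
  obtain ⟨M', hM', hRM'⟩ := (eq_top_or_exists_le_coatom (R.subgroupOf K)).resolve_left hRtop
  have hMn := PGroup.normal_of_isCoatom hKp hM'
  have hMi := PGroup.index_eq_prime_of_isCoatom hKp hM'
  haveI := hMn
  set M := M'.map K.subtype with hM
  have hMK : M ≤ K := Subgroup.map_subtype_le M'
  have hRM : ∀ k ∈ K, k • x₀ = x₀ → k ∈ M := fun k hk hkx =>
    ⟨⟨k, hk⟩, hRM' (show (⟨k, hk⟩ : K) ∈ R.subgroupOf K from ⟨hkx, hk⟩), rfl⟩
  have hyM : y ∈ M := hRM y hyK hx₀
  have hMconj : ∀ k ∈ K, ∀ a ∈ M, k * a * k⁻¹ ∈ M := by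
    rintro k hk _ ⟨a, ha, rfl⟩
    exact ⟨⟨k, hk⟩ * a * ⟨k, hk⟩⁻¹, hMn.conj_mem a ha _, rfl⟩
  obtain ⟨z, hzW, hzM⟩ : ∃ z ∈ W, z ∉ M := by
    by_contra! hall
    have hle : K ≤ M := sup_le (Subgroup.zpowers_le.2 hyM) hall
    exact hM'.1 (eq_top_iff.2 fun k _ => by
      obtain ⟨k', hk', e⟩ := hle k.2
      rwa [← show k' = k from Subtype.ext e])
  -- the powers of `z` represent the cosets of `M`
  let Q := ↥K ⧸ M'
  have hQ : Nat.card Q = p := hMi
  have hgen : Subgroup.zpowers (QuotientGroup.mk ⟨z, hWK hzW⟩ : Q) = ⊤ :=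
    zpowers_eq_top_of_prime_card hQ fun h => hzM ⟨_, (QuotientGroup.eq_one_iff _).1 h, rfl⟩
  have hord : orderOf (QuotientGroup.mk ⟨z, hWK hzW⟩ : Q) = p := by
    rw [← Nat.card_zpowers, hgen, Subgroup.card_top, hQ]
  have hrep : ∀ k ∈ K, ∃ i : Fin p, (z ^ (i : ℕ))⁻¹ * k ∈ M := by
    intro k hk
    obtain ⟨i, hi⟩ := Subgroup.mem_zpowers_iff.1
      (hgen ▸ Subgroup.mem_top (QuotientGroup.mk ⟨k, hk⟩ : Q))
    have hpos : (0 : ℤ) < p := by exact_mod_cast hp.out.pos
    have h2 := Int.emod_lt_of_pos i hpos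
    have h3 := Int.emod_nonneg i hpos.ne'
    refine ⟨⟨(i % p).toNat, by omega⟩, ?_⟩
    refine ⟨(⟨z, hWK hzW⟩ ^ (i % p).toNat)⁻¹ * ⟨k, hk⟩, QuotientGroup.eq.1 ?_, by simp⟩
    rw [← hi, QuotientGroup.mk_pow, ← zpow_natCast, Int.toNat_of_nonneg h3]
    conv_lhs => rw [← hord]
    exact zpow_mod_orderOf _ i
  have hzinj : ∀ i j : Fin p, (z ^ (i : ℕ))⁻¹ * z ^ (j : ℕ) ∈ M → i = j := by
    intro i j h
    obtain ⟨w, hw, e⟩ := h
    have e' : w = (⟨z, hWK hzW⟩ ^ (i : ℕ))⁻¹ * ⟨z, hWK hzW⟩ ^ (j : ℕ) := Subtype.ext (by simpa using e)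
    have h2 : (QuotientGroup.mk (⟨z, hWK hzW⟩ ^ (i : ℕ)) : Q) = QuotientGroup.mk (⟨z, hWK hzW⟩ ^ (j : ℕ)) :=
      QuotientGroup.eq.2 (e' ▸ hw)
    rw [QuotientGroup.mk_pow, QuotientGroup.mk_pow, pow_inj_mod, hord, Nat.mod_eq_of_lt i.2,
      Nat.mod_eq_of_lt j.2] at h2
    exact Fin.ext h2
  -- the transfer of `M` into the stabiliser of `x₀`
  let H₀ := (MulAction.stabilizer G x₀).subgroupOf M
  set g₀ := x₀.out with hg₀
  let ψ : H₀ →* E :=
    { toFun := fun h => φ ⟨g₀⁻¹ * ((h : ↥M) : G) * g₀, conj_out_mem h.2⟩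
      map_one' := by
        rw [← φ.map_one]; exact congrArg φ (Subtype.ext (by simp))
      map_mul' := fun a b => by
        rw [← map_mul]
        exact congrArg φ (Subtype.ext (by simp only [Subgroup.coe_mul]; group)) }
  letI : Fintype (↥M ⧸ H₀) := Fintype.ofFinite _
  let ι : ↥M ⧸ H₀ → G ⧸ N := fun c => ((c.out : ↥M) : G) • x₀
  have hιmk : ∀ c, ι c = QuotientGroup.mk (((c.out : ↥M) : G) * g₀) := fun c => by
    show ((c.out : ↥M) : G) • x₀ = _
    conv_lhs => rw [← QuotientGroup.out_eq' x₀]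
    rfl
  let μ : ↥M →* E := MonoidHom.transfer ψ
  have hcv : ∀ (a : ↥M) c, cosetVal ψ a c = cosetVal φ (a : G) (ι c) := by
    intro a c
    by_cases hac : a • c = c
    · have h1 := conj_out_mem hac
      have h2 := conj_out_mem (x := x₀) (show ((c.out⁻¹ * a * c.out : ↥M) : G) • x₀ = x₀ from h1)
      have e : g₀⁻¹ * ((c.out⁻¹ * a * c.out : ↥M) : G) * g₀
          = (((c.out : ↥M) : G) * g₀)⁻¹ * (a : G) * (((c.out : ↥M) : G) * g₀) := by
        simp only [Subgroup.coe_mul, Subgroup.coe_inv]; group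
      rw [cosetVal, dif_pos hac, hιmk, cosetVal_mk φ (e ▸ h2)]
      exact congrArg φ (Subtype.ext e)
    · rw [cosetVal_of_not_fixed ψ hac, cosetVal_of_not_fixed]
      intro h
      apply hac
      conv_lhs => rw [← QuotientGroup.out_eq' c]
      conv_rhs => rw [← QuotientGroup.out_eq' c]
      rw [Quotient.smul_mk, smul_eq_mul, eq_comm, QuotientGroup.eq, Subgroup.mem_subgroupOf,
        MulAction.mem_stabilizer_iff, Subgroup.coe_mul, Subgroup.coe_inv, mul_smul, Subgroup.coe_mul,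
        mul_smul, inv_smul_eq_iff]
      exact h
  have hμ : ∀ a : ↥M, orderOf (a : G) = orderOf y → μ a = ∏ c, cosetVal φ (a : G) (ι c) := by
    intro a ha
    rw [show μ a = MonoidHom.transfer ψ a from rfl, transfer_eq_prod_cosetVal ψ a fun h h1 h2 => ?_]
    · exact Fintype.prod_congr _ _ fun c => hcv a c
    · have e : g₀⁻¹ * ((h : ↥M) : G) * g₀ = MulAut.conj g₀⁻¹ ((h : ↥M) : G) := by
        rw [MulAut.conj_apply]; group
      refine hlow _ ?_ ?_
      · simp only [e, MulEquiv.orderOf_eq, ← ha]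
        simpa only [Subgroup.orderOf_coe] using h1
      · simp only [e, MulEquiv.orderOf_eq, ← ha]
        simpa only [Subgroup.orderOf_coe] using h2
  -- the orbit of `K` is the union of the `z`-translates of the orbit of `M`
  have horb : ∏ x ∈ Finset.univ.filter (fun x => f x = o), cosetVal φ y x =
      ∏ ic : Fin p × (↥M ⧸ H₀), cosetVal φ y (z ^ (ic.1 : ℕ) • ι ic.2) := by
    refine (Finset.prod_bij (fun ic _ => z ^ (ic.1 : ℕ) • ι ic.2) ?_ ?_ ?_ fun _ _ => rfl).symm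
    · intro ic _
      refine Finset.mem_filter.2 ⟨Finset.mem_univ _, ?_⟩
      rw [← hx₀o]
      refine Quotient.sound ?_
      show _ ∈ MulAction.orbit K x₀
      exact ⟨⟨z ^ (ic.1 : ℕ) * ((ic.2.out : ↥M) : G),
        K.mul_mem (K.pow_mem (hWK hzW) _) (hMK (ic.2.out : ↥M).2)⟩, mul_smul (z ^ (ic.1 : ℕ)) ((ic.2.out : ↥M) : G) x₀⟩
    · rintro ⟨i, c⟩ _ ⟨j, d⟩ _ h
      simp only at h
      have h1 : ((z ^ (i : ℕ) * ((c.out : ↥M) : G))⁻¹ * (z ^ (j : ℕ) * ((d.out : ↥M) : G))) • x₀ = x₀ := by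
        rw [mul_smul, inv_smul_eq_iff, mul_smul, mul_smul]; exact h.symm
      have h2 := hRM _ (K.mul_mem (K.inv_mem (K.mul_mem (K.pow_mem (hWK hzW) _) (hMK (c.out : ↥M).2)))
        (K.mul_mem (K.pow_mem (hWK hzW) _) (hMK (d.out : ↥M).2))) h1
      obtain rfl := hzinj i j (by
        have h3 := M.mul_mem (M.mul_mem (c.out : ↥M).2 h2) (M.inv_mem (d.out : ↥M).2)
        convert h3 using 1
        group)
      refine Prod.ext rfl ?_
      simp only
      rw [← QuotientGroup.out_eq' c, ← QuotientGroup.out_eq' d, QuotientGroup.eq,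
        Subgroup.mem_subgroupOf, MulAction.mem_stabilizer_iff]
      convert h1 using 2
      simp only [Subgroup.coe_mul, Subgroup.coe_inv]
      group
    · intro x hx
      obtain ⟨⟨k, hk⟩, rfl⟩ : x ∈ MulAction.orbit K x₀ := by
        rw [← MulAction.orbitRel_apply]
        exact Quotient.exact ((Finset.mem_filter.1 hx).2.trans hx₀o.symm)
      obtain ⟨i, hi⟩ := hrep k hk
      refine ⟨(i, QuotientGroup.mk ⟨_, hi⟩), Finset.mem_univ _, ?_⟩
      obtain ⟨h, hh⟩ := QuotientGroup.mk_out_eq_mul H₀ ⟨_, hi⟩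
      show z ^ (i : ℕ) • ι _ = k • x₀
      simp only [ι, hh, Subgroup.coe_mul, mul_smul,
        show ((h : ↥M) : G) • x₀ = x₀ from h.2, smul_inv_smul]
  rw [horb, Fintype.prod_prod_type]
  -- the iterated commutators
  have hzc : ∀ (j : ℕ), ∀ a ∈ M, (z ^ j)⁻¹ * a * z ^ j ∈ M := fun j a ha => by
    simpa using hMconj ((z ^ j)⁻¹) (K.inv_mem (K.pow_mem (hWK hzW) j)) a ha
  let h : ↥M → ℕ → Additive E := fun a j => Additive.ofMul (μ ⟨_, hzc j a a.2⟩)
  set D := fun t : G => t⁻¹ * z⁻¹ * t * z with hDdef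
  have hDM : ∀ a ∈ M, D a ∈ M := fun a ha => by
    have h1 : z⁻¹ * a * z ∈ M := by simpa using hzc 1 a ha
    simpa [hDdef, mul_assoc] using M.mul_mem (M.inv_mem ha) h1
  have hDk : ∀ k : ℕ, D^[k] y ∈ M := fun k => by
    induction k with
    | zero => exact hyM
    | succ k ih => rw [Function.iterate_succ_apply']; exact hDM _ ih
  have hdiff : ∀ k : ℕ, (fwdDiff (1 : ℕ))^[k] (h ⟨y, hyM⟩) = h ⟨_, hDk k⟩ := by
    intro k
    induction k with
    | zero => rfl
    | succ k ih =>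
      rw [Function.iterate_succ_apply', ih]
      funext j
      rw [fwdDiff, sub_eq_iff_eq_add']
      simp only [h, ← ofMul_mul, ← map_mul]
      refine congrArg (fun m => Additive.ofMul (μ m)) (Subtype.ext ?_)
      simp only [Subgroup.coe_mul, Function.iterate_succ_apply', hDdef]
      rw [pow_succ']
      group
  have hE' : ∀ e : Additive E, p • e = 0 := fun e => hE e.toMul
  have hsum : ∑ i : Fin p, h ⟨y, hyM⟩ (i : ℕ) = h ⟨_, hDk (p - 1)⟩ 0 := by
    rw [← congrFun (hdiff (p - 1)) 0, fwdDiff_iter_eq_sum_shift, Nat.sub_add_cancel hp.out.pos,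
      Fin.sum_univ_eq_sum_range fun i => h ⟨y, hyM⟩ i]
    refine Finset.sum_congr rfl fun k hk => ?_
    have h2 := alternating_choose_cast hp.out k (Finset.mem_range.1 hk)
    obtain ⟨c, hc⟩ : (p : ℤ) ∣ (-1 : ℤ) ^ (p - 1 - k) * ((p - 1).choose k : ℤ) - 1 := by
      rw [← ZMod.intCast_zmod_eq_zero_iff_dvd]
      push_cast at h2 ⊢
      rw [h2, sub_self]
    rw [sub_eq_iff_eq_add.1 hc, smul_eq_mul, mul_one, zero_add, add_smul, mul_comm, mul_smul,
      natCast_zsmul, hE', smul_zero, one_smul, zero_add]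
  have hprod : ∀ i : Fin p, ∏ c, cosetVal φ y (z ^ (i : ℕ) • ι c) = (h ⟨y, hyM⟩ (i : ℕ)).toMul := by
    intro i
    have hord' : orderOf ((z ^ (i : ℕ))⁻¹ * y * z ^ (i : ℕ)) = orderOf y := by
      rw [show (z ^ (i : ℕ))⁻¹ * y * z ^ (i : ℕ) = MulAut.conj (z ^ (i : ℕ))⁻¹ y by
        rw [MulAut.conj_apply]; group, MulEquiv.orderOf_eq]
    rw [show (h ⟨y, hyM⟩ (i : ℕ)).toMul = μ ⟨_, hzc i y hyM⟩ from rfl, hμ _ hord']
    exact Fintype.prod_congr _ _ fun c => (cosetVal_smul φ y _ _).symm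
  rw [Fintype.prod_congr _ _ hprod, ← toMul_sum, hsum]
  set d := D^[p - 1] y with hd
  show μ ⟨(z ^ 0)⁻¹ * d * z ^ 0, _⟩ = 1
  have hdW : d ∈ W := by
    have h1 : ∀ k : ℕ, 1 ≤ k → D^[k] y ∈ W := by
      intro k hk
      obtain ⟨k, rfl⟩ := Nat.exists_eq_add_of_le' hk
      rw [Function.iterate_succ_apply']
      have h2 : (D^[k] y)⁻¹ * z⁻¹ * D^[k] y ∈ W := by
        simpa using (Subgroup.mem_normalizer_iff.1
          (hnorm (hKS (K.inv_mem (hMK (hDk k))))) z⁻¹).1 (W.inv_mem hzW)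
      exact W.mul_mem h2 hzW
    exact h1 (p - 1) (by have := hp.out.two_le; omega)
  let q : ↥W →* Q := (QuotientGroup.mk' M').comp (Subgroup.inclusion hWK)
  have hq : Function.Surjective q := by
    rw [← MonoidHom.range_eq_top, eq_top_iff, ← hgen, Subgroup.zpowers_le]
    exact ⟨⟨z, hzW⟩, rfl⟩
  have hqker : ∀ w : ↥W, w ∈ q.ker ↔ (w : G) ∈ M := fun w => by
    rw [MonoidHom.mem_ker]
    refine (QuotientGroup.eq_one_iff _).trans ⟨fun hw => ⟨_, hw, rfl⟩, ?_⟩
    rintro ⟨k, hk, e⟩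
    rwa [show Subgroup.inclusion hWK w = k from Subtype.ext e.symm]
  have hcoatom : IsCoatom q.ker := PGroup.isCoatom_of_index_prime (by
    rw [Subgroup.index_ker, MonoidHom.range_eq_top.2 hq, Subgroup.card_top, hQ]; exact hp.out)
  obtain ⟨w, ⟨w₀, hw₀, rfl⟩, hwd⟩ := hD z hzW q.ker hcoatom
    ⟨⟨d, hdW⟩, (hqker _).2 (hDk (p - 1)), rfl⟩
  let ν : ↥q.ker →* E :=
    { toFun := fun w => μ ⟨((w : ↥W) : G), (hqker _).1 w.2⟩
      map_one' := map_one μ
      map_mul' := fun a b => μ.map_mul ⟨_, (hqker _).1 a.2⟩ ⟨_, (hqker _).1 b.2⟩ }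
  have hν : frattini ↥q.ker ≤ ν.ker := by
    refine PGroup.frattini_le_of_quotient (p := p) ?_ ?_
    · exact Abelianization.commutator_subset_ker ν
    · intro a
      rw [MonoidHom.mem_ker, map_pow, hE]
  have h3 := hν hw₀
  rw [MonoidHom.mem_ker] at h3
  rw [← h3]
  refine congrArg μ (Subtype.ext ?_)
  simpa using hwd.symm

end Cfsg.Agent.LocalEven61
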