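import Cfsg.Agent.LocalEven61.Dihedral
import Cfsg.Agent.Lib.Coprime.Action
import Cfsg.Agent.Lib.PGroup.Basic

/-!
The symmetric group of degree four as a section.
-/

set_option autoImplicit false
set_option linter.style.haveILetI false

namespace Cfsg.Agent.LocalEven61

open Equiv

/-- The three ways of pairing off four points. -/
def pairOf : Fin 4 → Fin 3 := ![0, 0, 1, 2]

/-- The action of `S₄` on the three pairings. -/
def pairingFun (σ : Perm (Fin 4)) (i : Fin 3) : Fin 3 :=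
  let q : Fin 4 := ![1, 2, 3] i
  let m : Fin 4 → Fin 4 → Fin 3 := ![![0, 0, 1, 2], ![0, 0, 2, 1], ![1, 2, 0, 0], ![2, 1, 0, 0]]
  m (σ 0) (σ q)

theorem pairingFun_mul : ∀ (σ τ : Perm (Fin 4)) (i : Fin 3),
    pairingFun (σ * τ) i = pairingFun σ (pairingFun τ i) := by decide +kernel

theorem pairingFun_one : ∀ i, pairingFun 1 i = i := by decide +kernel

/-- The homomorphism `S₄ → S₃`. -/
def pairingHom : Perm (Fin 4) →* Perm (Fin 3) where
  toFun σ :=
    { toFun := pairingFun σ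
      invFun := pairingFun σ⁻¹
      left_inv := fun i => by rw [← pairingFun_mul, inv_mul_cancel, pairingFun_one]
      right_inv := fun i => by rw [← pairingFun_mul, mul_inv_cancel, pairingFun_one] }
  map_one' := Equiv.ext pairingFun_one
  map_mul' σ τ := Equiv.ext (pairingFun_mul σ τ)

theorem pairingHom_surjective : Function.Surjective pairingHom := by
  have h : ∀ τ : Perm (Fin 3), ∃ σ : Perm (Fin 4), ∀ i, pairingFun σ i = τ i := by decide +kernel
  exact fun τ => (h τ).imp fun σ hσ => Equiv.ext hσ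

theorem pairingHom_ker_sq : ∀ σ : Perm (Fin 4), (∀ i, pairingFun σ i = i) → σ * σ = 1 := by
  decide +kernel

theorem pairingHom_self_centralizing : ∀ σ : Perm (Fin 4),
    (∀ v : Perm (Fin 4), (∀ i, pairingFun v i = i) → v * σ = σ * v) →
      ∀ i, pairingFun σ i = i := by
  decide +kernel

theorem isPGroup_pairingHom_ker : IsPGroup 2 ↥pairingHom.ker := fun σ =>
  ⟨1, Subtype.ext (by
    rw [pow_one, pow_two]
    exact pairingHom_ker_sq σ fun i => Equiv.congr_fun (MonoidHom.mem_ker.1 σ.2) i)⟩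

theorem card_perm_three : Nat.card (Perm (Fin 3)) = 6 := by
  rw [Nat.card_eq_fintype_card]; decide +kernel

/-- `S₃` as a dihedral group. -/
def permThreeHom : DihedralGroup 3 →* Perm (Fin 3) :=
  Involution.dihedralHom (Equiv.swap (0 : Fin 3) 1) (Equiv.swap 0 1 * Equiv.swap 1 2)
    (by decide +kernel) (by decide +kernel) (by decide +kernel)

theorem exists_dihedral_equiv : Nonempty (DihedralGroup 3 ≃* Perm (Fin 3)) := by
  refine ⟨MulEquiv.ofBijective permThreeHom ?_⟩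
  rw [Fintype.bijective_iff_injective_and_card]
  exact ⟨by decide +kernel, by decide +kernel⟩

variable {G : Type*} [Group G] [Finite G]

/-- `S₄` involved gives `S₃` involved in the automizer of a `2`-subgroup. -/
theorem exists_two_local_of_involves_perm4 (h : Cfsg.Involves (Perm (Fin 4)) G) :
    ∃ T : Subgroup G, IsPGroup 2 ↥T ∧ Cfsg.Involves (Perm (Fin 3))
      (↥(Subgroup.normalizer (T : Set G)) ⧸
        (Subgroup.centralizer (T : Set G)).subgroupOf (Subgroup.normalizer (T : Set G))) := by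
  haveI : Fact (Nat.Prime 2) := ⟨Nat.prime_two⟩
  obtain ⟨K, f, hf⟩ := exists_surjective_of_involves h
  set q : ↥K →* Perm (Fin 3) := pairingHom.comp f with hq
  have hqs : Function.Surjective q := pairingHom_surjective.comp hf
  obtain ⟨P⟩ := (inferInstance : Nonempty (Sylow 2 ↥q.ker))
  set PK := (P : Subgroup ↥q.ker).map q.ker.subtype with hPK
  set T := PK.map K.subtype with hT
  have hfr := Sylow.normalizer_sup_eq_top P
  refine ⟨T, (P.isPGroup'.map _).map _, ?_⟩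
  set NG := Subgroup.normalizer (T : Set G) with hNG
  let j : ↥(Subgroup.normalizer (PK : Set ↥K)) →* ↥NG :=
    (K.subtype.comp (Subgroup.normalizer (PK : Set ↥K)).subtype).codRestrict NG
      fun n => Subgroup.le_normalizer_map K.subtype ⟨n, n.2, rfl⟩
  have hj : Function.Injective j := fun a b hab =>
    Subtype.ext (K.subtype_injective (congrArg (fun z : ↥NG => (z : G)) hab))
  set C := (Subgroup.centralizer (T : Set G)).subgroupOf NG with hC
  set π := QuotientGroup.mk' C with hπ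
  -- the map to `S₃` on the image
  have hker : ∀ n : ↥(Subgroup.normalizer (PK : Set ↥K)), π (j n) = 1 → q n = 1 := by
    intro n hn
    have hc : (j n : G) ∈ Subgroup.centralizer (T : Set G) := (QuotientGroup.eq_one_iff (j n)).1 hn
    refine Equiv.ext (pairingHom_self_centralizing (f n) fun v hv => ?_)
    obtain ⟨w, hw⟩ : ∃ w ∈ PK, f w = v := by
      let g : ↥q.ker →* ↥pairingHom.ker :=
        (f.comp q.ker.subtype).codRestrict pairingHom.ker fun x => MonoidHom.mem_ker.1 x.2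
      have hg : Function.Surjective g := fun a => by
        obtain ⟨c, hc⟩ := hf (a : Perm (Fin 4))
        exact ⟨⟨c, MonoidHom.mem_ker.2 (by rw [hq, MonoidHom.comp_apply, hc]; exact a.2)⟩,
          Subtype.ext hc⟩
      have htop : ((P.mapSurjective hg : Sylow 2 ↥pairingHom.ker) : Subgroup ↥pairingHom.ker) = ⊤ :=
        ((P.mapSurjective hg).is_maximal' (isPGroup_pairingHom_ker.to_subgroup ⊤) le_top).symm
      obtain ⟨w, hw, hwv⟩ : (⟨v, MonoidHom.mem_ker.2 (Equiv.ext hv)⟩ : ↥pairingHom.ker) ∈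
          ((P.mapSurjective hg : Sylow 2 ↥pairingHom.ker) : Subgroup ↥pairingHom.ker) := by
        rw [htop]; exact Subgroup.mem_top _
      exact ⟨(w : ↥K), ⟨w, hw, rfl⟩, congrArg Subtype.val hwv⟩
    have h1 : (w : G) * (n : ↥K) = (n : ↥K) * (w : G) :=
      Subgroup.mem_centralizer_iff.1 hc (w : G) ⟨w, hw.1, rfl⟩
    rw [← hw.2, ← map_mul, ← map_mul]
    exact congrArg f (Subtype.ext h1)
  set A := (π.comp j).range with hA
  let s : ↥A →* Perm (Fin 3) :=
    (QuotientGroup.lift (π.comp j).ker (q.comp (Subgroup.normalizer (PK : Set ↥K)).subtype)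
        fun n hn => hker n hn).comp
      (QuotientGroup.quotientKerEquivRange (π.comp j)).symm.toMonoidHom
  refine involves_of_surjective A s ?_
  intro τ
  obtain ⟨c, rfl⟩ := hqs τ
  have hc : c ∈ q.ker ⊔ Subgroup.normalizer (PK : Set ↥K) := by
    rw [sup_comm, hfr]; exact Subgroup.mem_top c
  obtain ⟨a, ha, n, hn, rfl⟩ := Subgroup.mem_sup_of_normal_left.1 hc
  refine ⟨QuotientGroup.quotientKerEquivRange (π.comp j)
    (QuotientGroup.mk (⟨n, hn⟩ : ↥(Subgroup.normalizer (PK : Set ↥K)))), ?_⟩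
  simp only [s, MonoidHom.coe_comp, Function.comp_apply, MulEquiv.coe_toMonoidHom,
    MulEquiv.symm_apply_apply]
  show q n = q (a * n)
  rw [map_mul, MonoidHom.mem_ker.1 ha, one_mul]

/-- Descent to a fixed point of a `2`-element. -/
theorem exists_fixed {Q : Type*} [Group Q] {M : Subgroup Q} (hM : ∀ a ∈ M, a * a = 1)
    (hMc : ∀ a ∈ M, ∀ b ∈ M, a * b = b * a) {x : Q} (hx : ∀ a ∈ M, x * a * x⁻¹ ∈ M) :
    ∀ j : ℕ, (∃ u ∈ M, u ≠ 1 ∧ x ^ 2 ^ j * u * (x ^ 2 ^ j)⁻¹ = u) →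
      ∃ u ∈ M, u ≠ 1 ∧ x * u * x⁻¹ = u := by
  have hxn : ∀ (n : ℕ), ∀ a ∈ M, x ^ n * a * (x ^ n)⁻¹ ∈ M := by
    intro n
    induction n with
    | zero => intro a ha; simpa using ha
    | succ n ih =>
      intro a ha
      have e : x ^ (n + 1) * a * (x ^ (n + 1))⁻¹ = x * (x ^ n * a * (x ^ n)⁻¹) * x⁻¹ := by
        rw [pow_succ']; group
      rw [e]
      exact hx _ (ih a ha)
  intro j
  induction j with
  | zero => simp
  | succ j ih =>
    rintro ⟨u, hu, hu1, hfix⟩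
    by_cases h : x ^ 2 ^ j * u * (x ^ 2 ^ j)⁻¹ = u
    · exact ih ⟨u, hu, hu1, h⟩
    set t := x ^ 2 ^ j with ht
    have htu : t * u * t⁻¹ ∈ M := hxn _ u hu
    refine ih ⟨t * u * t⁻¹ * u, mul_mem htu hu, ?_, ?_⟩
    · intro h0
      exact h ((eq_inv_of_mul_eq_one_left h0).trans (inv_eq_of_mul_eq_one_left (hM u hu)))
    · rw [pow_succ, pow_mul, ← ht, pow_two] at hfix
      calc t * (t * u * t⁻¹ * u) * t⁻¹ = (t * t * u * (t * t)⁻¹) * (t * u * t⁻¹) := by group
        _ = t * u * t⁻¹ * u := by rw [hfix, hMc u hu _ htu]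

/-- A four-group with the full automizer gives a section `S₄`. -/
theorem involves_perm4_of_four {Q : Type*} [Group Q] [Finite Q] (W : Subgroup Q) [W.Normal]
    (hW2 : ∀ a ∈ W, a * a = 1) (hWc : ∀ a ∈ W, ∀ b ∈ W, a * b = b * a) (hW4 : Nat.card ↥W = 4)
    {x y : Q} (hx : ∃ k : ℕ, orderOf x = 2 ^ k) (hy : ∃ k : ℕ, orderOf y = 3 ^ k)
    (hgen : W ⊔ Subgroup.closure ({x, y} : Set Q) = ⊤)
    (hxc : x ∉ Subgroup.centralizer (W : Set Q)) (hy3 : y ^ 3 ∈ Subgroup.centralizer (W : Set Q))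
    (hxy : x * y * x⁻¹ * y ∈ Subgroup.centralizer (W : Set Q))
    (hfpf : ∀ a ∈ W, y * a * y⁻¹ = a → a = 1) : Cfsg.Involves (Perm (Fin 4)) Q := by
  classical
  haveI h3 : Fact (Nat.Prime 3) := ⟨Nat.prime_three⟩
  haveI h2 : Fact (Nat.Prime 2) := ⟨Nat.prime_two⟩
  haveI : Nontrivial ↥W := Finite.one_lt_card_iff_nontrivial.1 (by omega)
  have hyc : y ∉ Subgroup.centralizer (W : Set Q) := by
    intro h
    obtain ⟨⟨a, ha⟩, ha1⟩ := exists_ne (1 : ↥W)
    exact ha1 (Subtype.ext (hfpf a ha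
      (mul_inv_eq_iff_eq_mul.2 (Subgroup.mem_centralizer_iff.1 h a ha).symm)))
  set C := Subgroup.centralizer (W : Set Q) with hC
  haveI hCn : C.Normal := ⟨fun c hc g => Subgroup.mem_centralizer_iff.2 fun a ha => by
    have h1 : g⁻¹ * a * g ∈ W := by simpa using (inferInstance : W.Normal).conj_mem a ha g⁻¹
    calc a * (g * c * g⁻¹) = g * ((g⁻¹ * a * g) * c) * g⁻¹ := by group
      _ = g * (c * (g⁻¹ * a * g)) * g⁻¹ := by rw [Subgroup.mem_centralizer_iff.1 hc _ h1]
      _ = g * c * g⁻¹ * a := by group⟩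
  have hWC : W ≤ C := fun a ha => Subgroup.mem_centralizer_iff.2 fun b hb => hWc b hb a ha
  set L := C ⊔ Subgroup.zpowers y with hL
  have hyL : y ∈ L := Subgroup.mem_sup_right (Subgroup.mem_zpowers y)
  haveI hLn : L.Normal := by
    have hxn : x ∈ Subgroup.normalizer (L : Set Q) := by
      refine mem_normalizer_of_map_eq (Subgroup.eq_of_le_of_card_ge ?_
        (le_of_eq (Subgroup.card_map_of_injective (MulAut.conj x).injective).symm))
      rw [hL, Subgroup.map_sup]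
      refine sup_le (le_sup_of_le_left ?_) ?_
      · rintro _ ⟨c, hc, rfl⟩; exact hCn.conj_mem c hc x
      · rw [MonoidHom.map_zpowers, Subgroup.zpowers_le]
        show x * y * x⁻¹ ∈ L
        have e : x * y * x⁻¹ = (x * y * x⁻¹ * y) * y⁻¹ := by group
        rw [e]
        exact mul_mem (Subgroup.mem_sup_left hxy) (inv_mem hyL)
    have : Subgroup.normalizer (L : Set Q) = ⊤ := by
      rw [eq_top_iff, ← hgen]
      refine sup_le ((hWC.trans le_sup_left).trans Subgroup.le_normalizer) ((Subgroup.closure_le _).2 ?_)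
      rintro _ (rfl | rfl)
      · exact hxn
      · exact Subgroup.le_normalizer hyL
    exact Subgroup.normalizer_eq_top_iff.1 this
  obtain ⟨PL⟩ := (inferInstance : Nonempty (Sylow 3 ↥L))
  set D := (PL : Subgroup ↥L).map L.subtype with hD
  have hfr : Subgroup.normalizer (D : Set Q) ⊔ L = ⊤ := Sylow.normalizer_sup_eq_top PL
  have hLD : L = C ⊔ D := by
    refine le_antisymm ?_ (sup_le le_sup_left (Subgroup.map_subtype_le _))
    set CL := C.subgroupOf L with hCL
    have hq : IsPGroup 3 (↥L ⧸ CL) := by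
      obtain ⟨k, hk⟩ := hy
      have hy' : (QuotientGroup.mk' CL ⟨y, hyL⟩) ^ 3 ^ k = 1 := by
        rw [← map_pow, show (⟨y, hyL⟩ : ↥L) ^ 3 ^ k = 1 from Subtype.ext (by
          show y ^ 3 ^ k = 1
          rw [← hk]; exact pow_orderOf_eq_one y), map_one]
      intro c
      refine ⟨k, ?_⟩
      induction c using QuotientGroup.induction_on with | H l => ?_
      have hl : (l : Q) ∈ C ⊔ Subgroup.zpowers y := l.2
      obtain ⟨a, ha, b, hb, hab⟩ := Subgroup.mem_sup_of_normal_left.1 hl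
      obtain ⟨j, rfl⟩ := Subgroup.mem_zpowers_iff.1 hb
      have : QuotientGroup.mk' CL l = (QuotientGroup.mk' CL ⟨y, hyL⟩) ^ j := by
        have e : l = (⟨a, Subgroup.mem_sup_left ha⟩ : ↥L) * (⟨y, hyL⟩ : ↥L) ^ j :=
          Subtype.ext hab.symm
        rw [e, map_mul, map_zpow,
          show QuotientGroup.mk' CL (⟨a, Subgroup.mem_sup_left ha⟩ : ↥L) = 1 from
            (QuotientGroup.eq_one_iff _).2 ha, one_mul]
      show (QuotientGroup.mk' CL l) ^ 3 ^ k = 1
      rw [this, ← zpow_natCast, ← zpow_mul, mul_comm, zpow_mul, zpow_natCast, hy', one_zpow]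
    have htop : CL ⊔ (PL : Subgroup ↥L) = ⊤ := by
      rw [← Subgroup.index_eq_one]
      obtain ⟨k, hk⟩ := IsPGroup.iff_card.1 hq
      exact Nat.eq_one_of_dvd_coprimes (Nat.Coprime.pow_left k
          ((Nat.Prime.coprime_iff_not_dvd h3.out).2 PL.not_dvd_index))
        (hk ▸ Subgroup.index_dvd_of_le le_sup_left) (Subgroup.index_dvd_of_le le_sup_right)
    intro l hl
    obtain ⟨a, ha, b, hb, hab⟩ : ∃ a ∈ CL, ∃ b ∈ (PL : Subgroup ↥L), a * b = (⟨l, hl⟩ : ↥L) :=
      Subgroup.mem_sup_of_normal_left.1 (by rw [htop]; exact Subgroup.mem_top _)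
    have hab' : (a : Q) * b = l := congrArg Subtype.val hab
    rw [← hab']
    exact Subgroup.mul_mem_sup ha ⟨b, hb, rfl⟩
  set H := Subgroup.normalizer (D : Set Q) with hH
  have hCH : C ⊔ H = ⊤ := by
    rw [eq_top_iff, ← hfr]
    refine sup_le le_sup_right ?_
    rw [hLD]
    exact sup_le_sup_left Subgroup.le_normalizer C
  have hWH : W ⊓ H = ⊥ := by
    rw [eq_bot_iff]
    rintro v ⟨hv, hvH⟩
    refine hfpf v hv ?_
    have hvD : ∀ d ∈ D, v * d = d * v := by
      intro d hd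
      have h1 : v * d * v⁻¹ * d⁻¹ ∈ D := mul_mem ((conj_mem_iff' hvH d).2 hd) (inv_mem hd)
      have h2' : v * d * v⁻¹ * d⁻¹ ∈ W := by
        rw [mul_assoc, mul_assoc, ← mul_assoc d]
        exact mul_mem hv ((inferInstance : W.Normal).conj_mem _ (inv_mem hv) d)
      obtain ⟨k, hk⟩ := IsPGroup.iff_card.1 (PL.isPGroup'.map L.subtype)
      have hk' : (⟨_, h1⟩ : ↥D) ^ 3 ^ k = 1 := by
        rw [show (3 : ℕ) ^ k = Nat.card ↥D from hk.symm]; exact pow_card_eq_one'
      have h3' : (v * d * v⁻¹ * d⁻¹) ^ 3 ^ k = 1 := congrArg Subtype.val hk'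
      rw [pow_odd_of_sq (by rw [pow_two]; exact hW2 _ h2') (Odd.pow (by decide))] at h3'
      rw [mul_inv_eq_one, mul_inv_eq_iff_eq_mul] at h3'
      exact h3'
    have hvy : v * y = y * v := by
      have hle : L ≤ Subgroup.centralizer ({v} : Set Q) := by
        rw [hLD]
        refine sup_le (fun c hc => ?_) (fun d hd => ?_) <;>
          refine Subgroup.mem_centralizer_iff.2 fun z hz => ?_ <;>
          rw [Set.mem_singleton_iff.1 hz]
        · exact Subgroup.mem_centralizer_iff.1 hc v hv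
        · exact hvD d hd
      exact Subgroup.mem_centralizer_iff.1 (hle hyL) v rfl
    rw [← hvy, mul_inv_cancel_right]
  -- the group `W H`
  set K2 := W ⊔ H with hK2
  set W' := W.subgroupOf K2 with hW'
  set H' := H.subgroupOf K2 with hH'
  have hdisj : W' ⊓ H' = ⊥ := by
    rw [eq_bot_iff]
    intro a ha
    exact Subgroup.mem_bot.2 (Subtype.ext (Subgroup.mem_bot.1 (hWH ▸ (⟨ha.1, ha.2⟩ : (a : Q) ∈ W ⊓ H))))
  have hsup : W' ⊔ H' = ⊤ := by
    rw [eq_top_iff]
    intro a _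
    obtain ⟨w, hw, b, hb, hwb⟩ := Subgroup.mem_sup_of_normal_left.1 (a.2 : (a : Q) ∈ W ⊔ H)
    have : a = (⟨w, Subgroup.mem_sup_left hw⟩ : ↥K2) * ⟨b, Subgroup.mem_sup_right hb⟩ :=
      Subtype.ext hwb.symm
    rw [this]
    exact Subgroup.mul_mem_sup hw hb
  have hcompl : W'.IsComplement' H' :=
    Subgroup.isComplement'_of_disjoint_and_mul_eq_univ (disjoint_iff.2 hdisj) (by
      rw [← Subgroup.normal_mul, hsup]; rfl)
  have hindex : H'.index = 4 := by
    rw [hcompl.index_eq_card, hW',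
      Nat.card_congr (Subgroup.subgroupOfEquivOfLe (le_sup_left : W ≤ K2)).toEquiv, hW4]
  set act := MulAction.toPermHom ↥K2 (↥K2 ⧸ H') with hact
  have hkerC : ∀ a ∈ act.ker, (a : Q) ∈ C := by
    intro a ha
    rw [hact, ← Subgroup.normalCore_eq_ker] at ha
    refine Subgroup.mem_centralizer_iff.2 fun w hw => ?_
    let ww : ↥K2 := ⟨w, Subgroup.mem_sup_left hw⟩
    have h1 : ww * a * ww⁻¹ * a⁻¹ ∈ H'.normalCore :=
      mul_mem ((Subgroup.normalCore_normal H').conj_mem a ha ww) (inv_mem ha)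
    have h2' : ww * a * ww⁻¹ * a⁻¹ ∈ W' := by
      show w * (a : Q) * w⁻¹ * (a : Q)⁻¹ ∈ W
      rw [mul_assoc, mul_assoc, ← mul_assoc (a : Q)]
      exact mul_mem hw ((inferInstance : W.Normal).conj_mem _ (inv_mem hw) _)
    have : ww * a * ww⁻¹ * a⁻¹ ∈ W' ⊓ H' := ⟨h2', Subgroup.normalCore_le H' h1⟩
    rw [hdisj, Subgroup.mem_bot] at this
    have h4 := congrArg Subtype.val this
    simp only [Subgroup.coe_mul, Subgroup.coe_inv, Subgroup.coe_one] at h4
    rwa [mul_inv_eq_one, mul_inv_eq_iff_eq_mul] at h4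
  set CH := C.subgroupOf H with hCHd
  have hkerle : act.ker.map K2.subtype ≤ C ⊓ H := by
    rintro _ ⟨a, ha, rfl⟩
    refine ⟨hkerC a ha, ?_⟩
    rw [SetLike.mem_coe, hact, ← Subgroup.normalCore_eq_ker] at ha
    exact Subgroup.normalCore_le H' ha
  have hidx : 6 ∣ C.index := by
    have e2 : 2 ∣ C.index := by
      obtain ⟨k, hk⟩ := hx
      obtain ⟨i, -, hi⟩ := (Nat.dvd_prime_pow Nat.prime_two).1
        (hk ▸ orderOf_map_dvd (QuotientGroup.mk' C) x)
      rcases Nat.eq_zero_or_pos i with rfl | hi0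
      · exact absurd ((QuotientGroup.eq_one_iff x).1 (orderOf_eq_one_iff.1 (by simpa using hi))) hxc
      · exact (dvd_pow_self 2 hi0.ne').trans (hi.symm.dvd.trans (orderOf_dvd_natCard _))
    have e3 : 3 ∣ C.index := by
      have ho : orderOf (QuotientGroup.mk' C y) = 3 := orderOf_eq_prime
        (by rw [← map_pow]; exact (QuotientGroup.eq_one_iff _).2 hy3)
        fun h0 => hyc ((QuotientGroup.eq_one_iff y).1 h0)
      exact ho ▸ orderOf_dvd_natCard _
    omega
  have hrel : C.index = C.relIndex H := by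
    rw [← Subgroup.relIndex_sup_left H C, hCH, Subgroup.relIndex_top_right]
  have hrange : 24 ∣ Nat.card ↥act.range := by
    rw [← Subgroup.index_ker]
    have h1 : (act.ker.map K2.subtype).relIndex K2 = act.ker.index := by
      rw [Subgroup.relIndex]
      congr 1
      exact Subgroup.comap_map_eq_self_of_injective K2.subtype_injective _
    rw [← h1, ← Subgroup.relIndex_mul_relIndex _ H K2 (hkerle.trans inf_le_right) le_sup_right]
    have h2' : H.relIndex K2 = 4 := hindex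
    rw [h2', show (24 : ℕ) = 6 * 4 from rfl]
    refine Nat.mul_dvd_mul_right (hidx.trans ?_) 4
    rw [hrel]
    exact Subgroup.relIndex_dvd_of_le_left H (hkerle.trans inf_le_left)
  haveI : Fintype (↥K2 ⧸ H') := Fintype.ofFinite _
  have hc4 : Fintype.card (↥K2 ⧸ H') = 4 := by
    rw [← Nat.card_eq_fintype_card]; exact hindex
  have hcard : Nat.card (Perm (↥K2 ⧸ H')) = 24 := by
    rw [Nat.card_eq_fintype_card, Fintype.card_perm, hc4]; rfl
  have htop : act.range = ⊤ :=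
    Subgroup.eq_top_of_le_card _ (by rw [hcard]; exact Nat.le_of_dvd Nat.card_pos hrange)
  let e : Perm (↥K2 ⧸ H') ≃* Perm (Fin 4) := (Fintype.equivFinOfCardEq hc4).permCongrHom
  exact involves_of_surjective K2 (e.toMonoidHom.comp act)
    (e.surjective.comp (MonoidHom.range_eq_top.1 htop))
where
  conj_mem_iff' {Q : Type _} [Group Q] {H : Subgroup Q} {g : Q}
      (hg : g ∈ Subgroup.normalizer (H : Set Q)) (a : Q) : g * a * g⁻¹ ∈ H ↔ a ∈ H :=
    ((Subgroup.mem_normalizer_iff.1 hg) a).symm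

/-- `S₃` involved in the automizer of a `2`-subgroup gives `S₄` involved. -/
theorem involves_perm4_of_two_local (T : Subgroup G) (hT : IsPGroup 2 ↥T)
    (h : Cfsg.Involves (Perm (Fin 3)) (↥(Subgroup.normalizer (T : Set G)) ⧸
      (Subgroup.centralizer (T : Set G)).subgroupOf (Subgroup.normalizer (T : Set G)))) :
    Cfsg.Involves (Perm (Fin 4)) G := by
  haveI h3 : Fact (Nat.Prime 3) := ⟨Nat.prime_three⟩
  haveI h2 : Fact (Nat.Prime 2) := ⟨Nat.prime_two⟩
  set N := Subgroup.normalizer (T : Set G) with hN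
  set C := (Subgroup.centralizer (T : Set G)).subgroupOf N with hC
  set π := QuotientGroup.mk' C with hπ
  obtain ⟨e⟩ := exists_dihedral_equiv
  obtain ⟨xb, yb, hxb, hyb, hyb1, hinv⟩ :=
    (involves_dihedral_iff (p := 3) (by decide)).1 (involves_congr e.symm h)
  -- reduce to `yb` of order `3`
  obtain ⟨k, hk⟩ := hyb
  obtain ⟨k, rfl⟩ := Nat.exists_eq_succ_of_ne_zero (n := k) fun h0 =>
    hyb1 (orderOf_eq_one_iff.1 (by simp [hk, h0]))
  set zb := yb ^ 3 ^ k with hzb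
  have hzo : orderOf zb = 3 := by
    rw [hzb, orderOf_pow' _ (by positivity), hk,
      Nat.gcd_eq_right (pow_dvd_pow 3 (Nat.le_succ k)), Nat.pow_div (Nat.le_succ k) (by norm_num)]
    simp
  have hzi : xb * zb * xb⁻¹ = zb⁻¹ := by rw [hzb, ← conj_pow, hinv, inv_pow]
  obtain ⟨x₀, hx₀⟩ := QuotientGroup.mk'_surjective C xb
  obtain ⟨m, hm, i, hi⟩ := exists_pow_two_element x₀
  obtain ⟨y₀, hy₀⟩ := QuotientGroup.mk'_surjective C zb
  set c := orderOf y₀ / 3 ^ (orderOf y₀).factorization 3 with hc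
  have hy0o : orderOf y₀ ≠ 0 := (orderOf_pos y₀).ne'
  have hc3 : ¬ 3 ∣ c := Nat.not_dvd_ordCompl Nat.prime_three hy0o
  set x : ↥N := x₀ ^ m with hx
  set y : ↥N := y₀ ^ c with hy
  have hyo : orderOf y = 3 ^ (orderOf y₀).factorization 3 := by
    rw [hy, hc, orderOf_pow' _ (Nat.ordCompl_pos 3 hy0o).ne',
      Nat.gcd_eq_right (Nat.ordCompl_dvd _ _), Nat.div_div_self (Nat.ordProj_dvd _ _) hy0o]
  have hzb3 : zb ^ 3 = 1 := orderOf_dvd_iff_pow_eq_one.1 hzo.dvd
  have hpy : π y = zb ^ c := by rw [hy, map_pow, hπ, hy₀]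
  have hzinv : xb * zb ^ c * xb⁻¹ = (zb ^ c)⁻¹ := by rw [← conj_pow, hzi, inv_pow]
  have hxy : π x * π y * (π x)⁻¹ = (π y)⁻¹ := by
    rw [hpy, hx, map_pow, hπ, hx₀]
    obtain ⟨j, rfl⟩ := hm
    rw [pow_succ', pow_mul]
    have hfix : (xb ^ 2) * zb ^ c * (xb ^ 2)⁻¹ = zb ^ c := by
      rw [show (xb ^ 2) * zb ^ c * (xb ^ 2)⁻¹ = xb * (xb * zb ^ c * xb⁻¹) * xb⁻¹ from by
        rw [pow_two]; group, hzinv, ← conj_inv, hzinv, inv_inv]
    have hcomm : Commute (xb ^ 2) (zb ^ c) := mul_inv_eq_iff_eq_mul.1 hfix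
    calc xb * (xb ^ 2) ^ j * zb ^ c * (xb * (xb ^ 2) ^ j)⁻¹
        = xb * ((xb ^ 2) ^ j * zb ^ c * ((xb ^ 2) ^ j)⁻¹) * xb⁻¹ := by group
      _ = (zb ^ c)⁻¹ := by rw [(hcomm.pow_left j).eq, mul_inv_cancel_right, hzinv]
  have hy3 : π (y ^ 3) = 1 := by rw [map_pow, hpy, ← pow_mul, mul_comm, pow_mul, hzb3, one_pow]
  have hy1 : π y ≠ 1 := fun h0 => hc3 (by
    rw [hpy, ← orderOf_dvd_iff_pow_eq_one, hzo] at h0; exact h0)
  have hCT : ∀ n : ↥N, π n = 1 → ∀ t ∈ T, t * (n : G) = (n : G) * t := fun n hn =>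
    Subgroup.mem_centralizer_iff.1 ((QuotientGroup.eq_one_iff n).1 hn)
  -- the Frattini quotient of `T`
  set TN := T.subgroupOf N with hTN
  haveI hTNn : TN.Normal :=
    (Subgroup.normal_subgroupOf_iff_le_normalizer Subgroup.le_normalizer).2 le_rfl
  have hTNp : IsPGroup 2 ↥TN := hT.comap_of_injective N.subtype N.subtype_injective
  set Φ := (frattini ↥TN).map TN.subtype with hΦ
  haveI hΦn : Φ.Normal := ConjAct.normal_of_characteristic_of_normal
  set ρ := QuotientGroup.mk' Φ with hρ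
  set V := TN.map ρ with hV
  have hVn : V.Normal := hTNn.map ρ (QuotientGroup.mk'_surjective Φ)
  have hVsq : ∀ a ∈ V, a * a = 1 := by
    rintro _ ⟨t, ht, rfl⟩
    rw [← map_mul]
    refine (QuotientGroup.eq_one_iff _).2 ⟨⟨t, ht⟩ * ⟨t, ht⟩, ?_, rfl⟩
    have := PGroup.pow_mem_frattini hTNp ⟨t, ht⟩
    rwa [pow_two] at this
  have hVc : ∀ a ∈ V, ∀ b ∈ V, a * b = b * a := fun a ha b hb =>
    calc a * b = (a * b)⁻¹ := (inv_eq_of_mul_eq_one_left (hVsq _ (mul_mem ha hb))).symm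
      _ = b⁻¹ * a⁻¹ := mul_inv_rev _ _
      _ = b * a := by
        rw [inv_eq_of_mul_eq_one_left (hVsq a ha), inv_eq_of_mul_eq_one_left (hVsq b hb)]
  -- `y` acts nontrivially
  obtain ⟨t₀, ht₀, hty⟩ : ∃ t₀ ∈ V, ρ y * t₀ * (ρ y)⁻¹ ≠ t₀ := by
    by_contra! hall
    refine hy1 ((QuotientGroup.eq_one_iff y).2 ?_)
    have hnorm : Subgroup.zpowers y ≤ Subgroup.normalizer (TN : Set ↥N) := by
      rw [Subgroup.normalizer_eq_top_iff.2 hTNn]; exact le_top
    have hcop : (Nat.card ↥(Subgroup.zpowers y)).Coprime (Nat.card ↥(frattini ↥TN)) := by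
      obtain ⟨j, hj⟩ := IsPGroup.iff_card.1 (hTNp.to_subgroup (frattini ↥TN))
      rw [Nat.card_zpowers, hyo, hj]
      exact Nat.Coprime.pow _ _ (by norm_num)
    have hle := Coprime.le_centralizer_of_frattini (Subgroup.zpowers y) TN hnorm hcop (by
      intro a ha k hk'
      obtain ⟨j, rfl⟩ := Subgroup.mem_zpowers_iff.1 ha
      refine (QuotientGroup.eq_one_iff _).1 ?_
      show ρ (y ^ j * k * (y ^ j)⁻¹ * k⁻¹) = 1
      rw [map_mul, map_mul, map_mul, map_inv, map_inv, map_zpow]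
      have hcm : Commute (ρ y) (ρ k) := mul_inv_eq_iff_eq_mul.1 (hall _ ⟨k, hk', rfl⟩)
      rw [(hcm.zpow_left j).eq, mul_inv_cancel_right, mul_inv_cancel])
    exact Subgroup.mem_subgroupOf.2 (Subgroup.mem_centralizer_iff.2 fun t ht =>
      congrArg Subtype.val (Subgroup.mem_centralizer_iff.1 (hle (Subgroup.mem_zpowers y))
        ⟨t, Subgroup.le_normalizer ht⟩ ht))
  -- the subgroup `[V, y]`
  set Y := ρ y with hY
  set X := ρ x with hX
  have cent : ∀ n : ↥N, π n = 1 → ∀ v ∈ V, ρ n * v * (ρ n)⁻¹ = v := by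
    rintro n hn _ ⟨t, ht, rfl⟩
    rw [← map_inv, ← map_mul, ← map_mul]
    congr 1
    refine Subtype.ext ?_
    show (n : G) * t * (n : G)⁻¹ = t
    exact mul_inv_eq_iff_eq_mul.2 (hCT n hn _ ht).symm
  have hY3 : ∀ v ∈ V, Y * (Y * (Y * v * Y⁻¹) * Y⁻¹) * Y⁻¹ = v := by
    intro v hv
    have := cent _ hy3 v hv
    rw [map_pow, ← hY] at this
    rw [show Y * (Y * (Y * v * Y⁻¹) * Y⁻¹) * Y⁻¹ = Y ^ 3 * v * (Y ^ 3)⁻¹ from by
      simp only [pow_succ, pow_zero, one_mul, mul_inv_rev, mul_assoc]]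
    exact this
  have hXY : ∀ v ∈ V, (X * Y * X⁻¹ * Y) * v * (X * Y * X⁻¹ * Y)⁻¹ = v := by
    intro v hv
    have h1 : π (x * y * x⁻¹ * y) = 1 := by
      rw [map_mul, map_mul, map_mul, map_inv, hxy, inv_mul_cancel]
    have := cent _ h1 v hv
    simpa only [map_mul, map_inv, ← hX, ← hY] using this
  set M : Subgroup (↥N ⧸ Φ) :=
    { carrier := {w | ∃ v ∈ V, w = v * (Y * v * Y⁻¹)}
      one_mem' := ⟨1, one_mem _, by simp⟩
      mul_mem' := by
        rintro _ _ ⟨v, hv, rfl⟩ ⟨u, hu, rfl⟩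
        refine ⟨v * u, mul_mem hv hu, ?_⟩
        calc v * (Y * v * Y⁻¹) * (u * (Y * u * Y⁻¹))
            = v * ((Y * v * Y⁻¹) * u) * (Y * u * Y⁻¹) := by group
          _ = v * (u * (Y * v * Y⁻¹)) * (Y * u * Y⁻¹) := by
              rw [hVc _ (hVn.conj_mem v hv Y) u hu]
          _ = _ := by group
      inv_mem' := by
        rintro _ ⟨v, hv, rfl⟩
        have hm : v * (Y * v * Y⁻¹) ∈ V := mul_mem hv (hVn.conj_mem v hv Y)
        exact ⟨v, hv, inv_eq_of_mul_eq_one_left (hVsq _ hm)⟩ } with hM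
  have hMV : M ≤ V := by
    rintro _ ⟨v, hv, rfl⟩
    exact mul_mem hv (hVn.conj_mem v hv Y)
  have hMX : ∀ a ∈ M, X * a * X⁻¹ ∈ M := by
    rintro _ ⟨v, hv, rfl⟩
    have hv' : X * v * X⁻¹ ∈ V := hVn.conj_mem v hv X
    set u := X * v * X⁻¹ with hu
    set w := Y⁻¹ * u * Y with hw
    have hwV : w ∈ V := by
      have := hVn.conj_mem u hv' Y⁻¹
      rwa [inv_inv] at this
    have key : X * (Y * v * Y⁻¹) * X⁻¹ = w := by
      have := hXY w hwV
      rw [show (X * Y * X⁻¹ * Y) * w * (X * Y * X⁻¹ * Y)⁻¹ = (X * Y * X⁻¹) * u * (X * Y * X⁻¹)⁻¹ from by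
        rw [hw]; group, show (X * Y * X⁻¹) * u * (X * Y * X⁻¹)⁻¹ = X * (Y * v * Y⁻¹) * X⁻¹ from by
        rw [hu]; group] at this
      exact this
    refine ⟨w, hwV, ?_⟩
    rw [show X * (v * (Y * v * Y⁻¹)) * X⁻¹ = u * (X * (Y * v * Y⁻¹) * X⁻¹) from by rw [hu]; group,
      key, show Y * w * Y⁻¹ = u from by rw [hw]; group]
    exact hVc u hv' w hwV
  have hMY : ∀ a ∈ M, (Y * a * Y⁻¹) * (Y * (Y * a * Y⁻¹) * Y⁻¹) = a := by
    rintro _ ⟨v, hv, rfl⟩
    have h1 := hVn.conj_mem v hv Y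
    have h2' := hVn.conj_mem _ h1 Y
    set v1 := Y * v * Y⁻¹ with hv1
    set v2 := Y * v1 * Y⁻¹ with hv2
    have e1 : Y * (v * v1) * Y⁻¹ = v1 * v2 := by rw [hv2, hv1]; group
    have e2 : Y * (v1 * v2) * Y⁻¹ = v2 * v := by
      rw [show Y * (v1 * v2) * Y⁻¹ = v2 * (Y * v2 * Y⁻¹) from by rw [hv2]; group, hv2, hv1, hY3 v hv]
    rw [e1, e2, show v1 * v2 * (v2 * v) = v1 * (v2 * v2) * v from by group, hVsq v2 h2', mul_one]
    exact hVc _ h1 _ hv
  obtain ⟨u, huM, hu1, huX⟩ : ∃ u ∈ M, u ≠ 1 ∧ X * u * X⁻¹ = u := by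
    refine exists_fixed (fun a ha => hVsq a (hMV ha)) (fun a ha b hb => hVc a (hMV ha) b (hMV hb)) hMX i
      ⟨t₀ * (Y * t₀ * Y⁻¹), ⟨t₀, ht₀, rfl⟩, fun h0 => hty ?_, ?_⟩
    · rw [eq_inv_of_mul_eq_one_right h0, inv_eq_of_mul_eq_one_left (hVsq t₀ ht₀)]
    · have : X ^ 2 ^ i = 1 := by
        rw [hX, ← map_pow, hx, ← hi, pow_orderOf_eq_one, map_one]
      rw [this, one_mul, inv_one, mul_one]
  have huV := hMV huM
  set w := Y * u * Y⁻¹ with hw
  have hwV : w ∈ V := hVn.conj_mem u huV Y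
  have hYw : Y * w * Y⁻¹ = w * u := by
    have h1 := hMY u huM
    rw [← hw] at h1
    calc Y * w * Y⁻¹ = w⁻¹ * u := eq_inv_mul_iff_mul_eq.2 h1
      _ = w * u := by rw [inv_eq_of_mul_eq_one_left (hVsq w hwV)]
  have hwu : w ≠ u := by
    intro h0
    apply hu1
    have h1 := hYw
    rw [h0, ← hw, h0, hVsq u huV] at h1
    exact h1
  have hw1 : w ≠ 1 := by
    intro h0; apply hu1
    simpa [hw] using h0
  have hXw : X * w * X⁻¹ = w * u := by
    have hv3 := hVn.conj_mem w hwV Y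
    have h1 := hXY _ hv3
    have e : (X * Y * X⁻¹ * Y) * (Y * w * Y⁻¹) * (X * Y * X⁻¹ * Y)⁻¹ =
        X * Y * (X⁻¹ * (Y * (Y * (Y * u * Y⁻¹) * Y⁻¹) * Y⁻¹) * X) * Y⁻¹ * X⁻¹ := by
      rw [hw]; group
    have hu' : X⁻¹ * u * X = u := by
      calc X⁻¹ * u * X = X⁻¹ * (X * u * X⁻¹) * X := by rw [huX]
        _ = u := by group
    rw [e, hY3 u huV, hu'] at h1
    rw [← hYw, ← h1, hw]
    group
  -- the four-group
  set W : Subgroup (↥N ⧸ Φ) :=
    { carrier := {1, u, w, w * u}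
      one_mem' := by simp
      mul_mem' := by
        have huu := hVsq u huV
        have hww := hVsq w hwV
        have huw := hVc u huV w hwV
        have a1 : u * (w * u) = w := by rw [← mul_assoc, huw, mul_assoc, huu, mul_one]
        have a2 : w * (w * u) = u := by rw [← mul_assoc, hww, one_mul]
        have a3 : w * u * u = w := by rw [mul_assoc, huu, mul_one]
        have a4 : w * u * w = u := by rw [mul_assoc, huw, a2]
        have a5 : w * u * (w * u) = 1 := hVsq _ (mul_mem hwV huV)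
        rintro a b (rfl | rfl | rfl | rfl) (rfl | rfl | rfl | rfl) <;>
          simp [huu, hww, huw, a1, a2, a3, a4, a5]
      inv_mem' := by
        rintro a (rfl | rfl | rfl | rfl)
        · simp
        · simp [inv_eq_of_mul_eq_one_left (hVsq _ huV)]
        · simp [inv_eq_of_mul_eq_one_left (hVsq _ hwV)]
        · simp [inv_eq_of_mul_eq_one_left (hVsq _ (mul_mem hwV huV))] } with hW
  have huW : u ∈ W := Or.inr (Or.inl rfl)
  have hwW : w ∈ W := Or.inr (Or.inr (Or.inl rfl))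
  have hwuW : w * u ∈ W := Or.inr (Or.inr (Or.inr rfl))
  have hWV : W ≤ V := by
    rintro a (rfl | rfl | rfl | rfl)
    · exact one_mem _
    · exact huV
    · exact hwV
    · exact mul_mem hwV huV
  have hYwu : Y * (w * u) * Y⁻¹ = u := by
    rw [show Y * (w * u) * Y⁻¹ = (Y * w * Y⁻¹) * w from by rw [hw]; group, hYw,
      mul_assoc, hVc u huV w hwV, ← mul_assoc, hVsq w hwV, one_mul]
  have hnX : X ∈ Subgroup.normalizer (W : Set (↥N ⧸ Φ)) := by
    refine mem_normalizer_of_map_eq (Subgroup.eq_of_le_of_card_ge ?_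
      (le_of_eq (Subgroup.card_map_of_injective (MulAut.conj X).injective).symm))
    rintro _ ⟨a, ha, rfl⟩
    show X * a * X⁻¹ ∈ W
    rcases ha with ha | ha | ha | ha
    · rw [ha, mul_one, mul_inv_cancel]; exact one_mem _
    · rw [ha, huX]; exact huW
    · rw [ha, hXw]; exact hwuW
    · rw [show a = w * u from ha, show X * (w * u) * X⁻¹ = (X * w * X⁻¹) * (X * u * X⁻¹) from by group,
        hXw, huX]
      exact mul_mem hwuW huW
  have hnY : Y ∈ Subgroup.normalizer (W : Set (↥N ⧸ Φ)) := by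
    refine mem_normalizer_of_map_eq (Subgroup.eq_of_le_of_card_ge ?_
      (le_of_eq (Subgroup.card_map_of_injective (MulAut.conj Y).injective).symm))
    rintro _ ⟨a, ha, rfl⟩
    show Y * a * Y⁻¹ ∈ W
    rcases ha with ha | ha | ha | ha
    · rw [ha, mul_one, mul_inv_cancel]; exact one_mem _
    · rw [ha]; exact hwW
    · rw [ha, hYw]; exact hwuW
    · rw [show a = w * u from ha, hYwu]; exact huW
  set K := W ⊔ Subgroup.closure ({X, Y} : Set (↥N ⧸ Φ)) with hK
  have hWK : W ≤ K := le_sup_left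
  have hKn : K ≤ Subgroup.normalizer (W : Set (↥N ⧸ Φ)) := by
    refine sup_le Subgroup.le_normalizer ((Subgroup.closure_le _).2 ?_)
    rintro _ (rfl | rfl)
    · exact hnX
    · exact hnY
  haveI : (W.subgroupOf K).Normal := (Subgroup.normal_subgroupOf_iff_le_normalizer hWK).2 hKn
  have hXK : X ∈ K := Subgroup.mem_sup_right (Subgroup.subset_closure (by simp))
  have hYK : Y ∈ K := Subgroup.mem_sup_right (Subgroup.subset_closure (by simp))
  refine involves_of_quotient Φ (involves_of_subgroup K ?_) |> fun hN' => involves_of_subgroup N hN'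
  refine involves_perm4_of_four (W.subgroupOf K) (fun a ha => Subtype.ext (hVsq _ (hWV ha)))
    (fun a ha b hb => Subtype.ext (hVc _ (hWV ha) _ (hWV hb))) ?_ (x := ⟨X, hXK⟩) (y := ⟨Y, hYK⟩)
    ?_ ?_ ?_ ?_ ?_ ?_ ?_
  · rw [Nat.card_congr (Subgroup.subgroupOfEquivOfLe hWK).toEquiv]
    have hw2 : w * u ≠ 1 := fun h0 => hwu ((eq_inv_of_mul_eq_one_left h0).trans
      (inv_eq_of_mul_eq_one_left (hVsq u huV)))
    have hw3 : w * u ≠ u := fun h0 => hw1 (mul_eq_right.1 h0)
    have hw4 : w * u ≠ w := fun h0 => hu1 (mul_eq_left.1 h0)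
    show Nat.card ↥({1, u, w, w * u} : Set (↥N ⧸ Φ)) = 4
    classical
    rw [Nat.card_coe_set_eq, Set.ncard_insert_of_notMem, Set.ncard_insert_of_notMem,
      Set.ncard_insert_of_notMem, Set.ncard_singleton]
    · simp [hw4.symm]
    · simp [hwu.symm, hw3.symm]
    · simp [hu1.symm, hw1.symm, hw2.symm]
  · obtain ⟨j, -, hj⟩ := (Nat.dvd_prime_pow Nat.prime_two).1
      (hi ▸ orderOf_map_dvd ρ x : orderOf X ∣ 2 ^ i)
    exact ⟨j, (Subgroup.orderOf_mk X hXK).trans hj⟩
  · obtain ⟨j, -, hj⟩ := (Nat.dvd_prime_pow Nat.prime_three).1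
      (hyo ▸ orderOf_map_dvd ρ y : orderOf Y ∣ 3 ^ (orderOf y₀).factorization 3)
    exact ⟨j, (Subgroup.orderOf_mk Y hYK).trans hj⟩
  · apply Subgroup.map_injective K.subtype_injective
    rw [Subgroup.map_sup, Subgroup.subgroupOf_map_subtype, inf_eq_left.2 hWK,
      MonoidHom.map_closure, ← MonoidHom.range_eq_map, K.range_subtype, Set.image_pair]
    rfl
  · intro h0
    have h1 := congrArg Subtype.val (Subgroup.mem_centralizer_iff.1 h0 ⟨w, hWK hwW⟩ hwW)
    have h1' : w * X = X * w := h1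
    rw [← h1', mul_inv_cancel_right] at hXw
    exact hu1 (mul_eq_left.1 hXw.symm)
  · refine Subgroup.mem_centralizer_iff.2 fun a ha => Subtype.ext ?_
    show (a : ↥N ⧸ Φ) * Y ^ 3 = Y ^ 3 * (a : ↥N ⧸ Φ)
    have := cent _ hy3 _ (hWV ha)
    rw [map_pow, ← hY] at this
    exact (mul_inv_eq_iff_eq_mul.1 this).symm
  · refine Subgroup.mem_centralizer_iff.2 fun a ha => Subtype.ext ?_
    exact (mul_inv_eq_iff_eq_mul.1 (hXY _ (hWV ha))).symm
  · intro a ha hfix
    have hfix' : Y * (a : ↥N ⧸ Φ) * Y⁻¹ = a := congrArg Subtype.val hfix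
    refine Subtype.ext ?_
    rcases ha with ha | ha | ha | ha
    · exact ha
    · rw [show (a : ↥N ⧸ Φ) = u from ha, ← hw] at hfix'; exact absurd hfix' hwu
    · rw [show (a : ↥N ⧸ Φ) = w from ha, hYw] at hfix'
      exact absurd (mul_eq_left.1 hfix') hu1
    · rw [show (a : ↥N ⧸ Φ) = w * u from ha, hYwu] at hfix'
      exact absurd (mul_eq_right.1 hfix'.symm) hw1

end Cfsg.Agent.LocalEven61
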