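import Cfsg.Agent.Lib.Suzuki.Tori

/-!
In `Sz(q)` every involution has a conjugate such that the product has an order divisible by a given
prime power divisor of `q² + 1`.
-/

set_option autoImplicit false
set_option linter.style.haveILetI false

namespace Cfsg.Agent.LocalEven61

open Cfsg.Agent.Suzuki

variable {F : Type*} [Field F] [Fintype F] {m : ℕ} (hF : Fintype.card F = 2 ^ (2 * m + 1))
include hF

theorem sz_isConj_involution (hm : 1 ≤ m) {u v : Cfsg.Sz F m} (hu : orderOf u = 2)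
    (hv : orderOf v = 2) : ∃ g, g * u * g⁻¹ = v := by
  classical
  have key : ∀ w : Cfsg.Sz F m, orderOf w = 2 → ∃ g, g * U hF 0 1 * g⁻¹ = w := by
    intro w hw
    have hw1 : w ≠ 1 := fun h => by simp [h] at hw
    rcases classify hF hm hw1 with h | ⟨a, b, h, h1, e⟩ | ⟨k, h, h1, e⟩
    · exfalso
      have h2 := prime_dvd_of_fpf_prime hF hm h Nat.prime_two hw
      exact Nat.prime_two.not_dvd_one
        ((Nat.dvd_add_right (dvd_pow (even_iff_two_dvd.1 (q_facts hF hm).2) two_ne_zero)).1 h2)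
    · have hsq : U hF a b * U hF a b = 1 := by
        have h2 : w ^ 2 = 1 := by rw [← hw]; exact pow_orderOf_eq_one w
        rw [e, conj_pow] at h2
        rw [← pow_two]
        exact conj_eq_one_iff.1 h2
      rw [U_mul, add_self hF, add_self hF, zero_add, ← U_zero hF] at hsq
      have ha : a = 0 := by
        rcases mul_eq_zero.1 (U_inj hF hsq).2 with h2 | h2
        · exact sig_eq_zero.1 h2
        · exact h2
      subst ha
      have hb : b ≠ 0 := fun h2 => h1 (by rw [h2, U_zero])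
      let φ : Fˣ →* Fˣ :=
        { toFun := fun k => k * Units.mk0 (sig m (k : F)) (sig_ne_zero k.ne_zero)
          map_one' := Units.ext (by simp [sig_one])
          map_mul' := fun k l => Units.ext (by simp [sig_mul]; ring) }
      have hφ : Function.Injective φ := (injective_iff_map_eq_one φ).2 fun k hk => by
        have := congrArg Units.val hk
        simp [φ] at this
        exact Units.ext (eq_one_of_mul_sig hF k.ne_zero this)
      obtain ⟨k, hk⟩ := (Finite.injective_iff_surjective.1 hφ) (Units.mk0 b hb)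
      refine ⟨h * T hF k, ?_⟩
      have hk' : (k : F) * sig m (k : F) = b := by simpa [φ] using congrArg Units.val hk
      rw [e, show h * T hF k * U hF 0 1 * (h * T hF k)⁻¹ =
        h * (T hF k * U hF 0 1 * (T hF k)⁻¹) * h⁻¹ by group, T_conj_U, mul_one, mul_zero]
      rw [hk']
    · exfalso
      have h2 : orderOf (T hF k) = 2 := by
        rw [← hw, e]
        exact (orderOf_injective (MulAut.conj h).toMonoidHom (MulAut.conj h).injective _).symm
      have hk : orderOf k = 2 := by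
        rw [← h2]
        exact (orderOf_injective (THom hF) (fun x y hxy => T_inj hF hxy) k).symm
      have h3 : 2 ∣ Fintype.card F - 1 := by
        rw [← Fintype.card_units, ← hk]
        exact orderOf_dvd_card
      obtain ⟨h8, hev⟩ := q_facts hF hm
      exact Nat.not_even_iff_odd.2 (Nat.Even.sub_odd (by omega) hev odd_one)
        (even_iff_two_dvd.2 h3)
  obtain ⟨a, rfl⟩ := key u hu
  obtain ⟨b, rfl⟩ := key v hv
  exact ⟨b * a⁻¹, by group⟩

theorem sz_torus_inverted (hm : 1 ≤ m) {g : Cfsg.Sz F m} (hg : Fpf g)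
    (hN : Nat.card (Subgroup.normalizer (Subgroup.centralizer {g} : Set (Cfsg.Sz F m)))
      = 4 * Nat.card (Subgroup.centralizer {g})) :
    ∃ s : Cfsg.Sz F m, orderOf s = 2 ∧ ∀ y ∈ Subgroup.centralizer {g}, s * y * s⁻¹ = y⁻¹ := by
  set C := Subgroup.centralizer {g} with hC
  set N := Subgroup.normalizer (C : Set (Cfsg.Sz F m))
  haveI : Fact (Nat.Prime 2) := ⟨Nat.prime_two⟩
  obtain ⟨s, hs⟩ := exists_prime_orderOf_dvd_card' (G := N) 2 ⟨2 * Nat.card C, by rw [hN]; ring⟩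
  refine ⟨s, by rw [Subgroup.orderOf_coe, hs], fun y hy => ?_⟩
  haveI := (torus hF hm hg).1
  letI : CommGroup C := IsCyclic.commGroup
  have hsy : (s : Cfsg.Sz F m) * y * (s : Cfsg.Sz F m)⁻¹ ∈ C :=
    (Subgroup.mem_normalizer_iff.1 s.2 y).1 hy
  set z := (s : Cfsg.Sz F m) * y * (s : Cfsg.Sz F m)⁻¹ with hz
  have hs2 : (s : Cfsg.Sz F m) * s = 1 := by
    rw [← pow_two, ← SubmonoidClass.coe_pow, ← hs, pow_orderOf_eq_one, Subgroup.coe_one]
  have hcomm : y * z = z * y := congrArg Subtype.val (mul_comm (⟨y, hy⟩ : C) ⟨z, hsy⟩)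
  have hfix : (s : Cfsg.Sz F m) * (y * z) * (s : Cfsg.Sz F m)⁻¹ = y * z := by
    have hsi : (s : Cfsg.Sz F m)⁻¹ = s := inv_eq_of_mul_eq_one_right hs2
    conv_rhs => rw [hcomm]
    rw [hz, hsi]
    calc (s : Cfsg.Sz F m) * (y * ((s : Cfsg.Sz F m) * y * s)) * s
        = (s : Cfsg.Sz F m) * y * s * (y * ((s : Cfsg.Sz F m) * s)) := by group
      _ = _ := by rw [hs2, mul_one]
  have h1 : y * z = 1 := by
    by_contra h1
    have h2 : (s : Cfsg.Sz F m) ∈ Subgroup.centralizer {y * z} :=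
      Subgroup.mem_centralizer_singleton_iff.2 (mul_inv_eq_iff_eq_mul.1 hfix)
    rw [((torus hF hm hg).2 _ (C.mul_mem hy hsy) h1).2] at h2
    have h3 : 2 ∣ Fintype.card F ^ 2 + 1 := by
      refine dvd_trans ?_ (card_torus_dvd hF hm hg)
      have h4 := orderOf_dvd_natCard (⟨s, h2⟩ : C)
      rwa [← Subgroup.orderOf_coe, show orderOf (s : Cfsg.Sz F m) = 2 by rw [Subgroup.orderOf_coe, hs]] at h4
    exact Nat.prime_two.not_dvd_one
      ((Nat.dvd_add_right (dvd_pow (even_iff_two_dvd.1 (q_facts hF hm).2) two_ne_zero)).1 h3)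
  exact eq_inv_of_mul_eq_one_right h1

theorem sz_exists_conj_product (hm : 1 ≤ m) {ℓ e : ℕ} (hℓ : ℓ.Prime)
    (hdvd : ℓ ^ (e + 1) ∣ Fintype.card F ^ 2 + 1) {u : Cfsg.Sz F m} (hu : orderOf u = 2) :
    ∃ h : Cfsg.Sz F m, ℓ ^ (e + 1) ∣ orderOf (u * (h * u * h⁻¹)) := by
  obtain ⟨g₁, g₂, hg₁, hg₂, c₁, c₂, n₁, n₂⟩ := torus_orders hF hm
  obtain ⟨h8, hev⟩ := q_facts hF hm
  have hodd : ¬ 2 ∣ Fintype.card F ^ 2 + 1 := fun h => Nat.prime_two.not_dvd_one
    ((Nat.dvd_add_right (dvd_pow (even_iff_two_dvd.1 hev) two_ne_zero)).1 h)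
  have hℓ2 : ℓ ≠ 2 := fun h => hodd (by
    have h1 := (dvd_pow_self ℓ (Nat.succ_ne_zero e)).trans hdvd
    rwa [h] at h1)
  set q := Fintype.card F with hq
  have hss : 2 ^ (m + 1) * 2 ^ (m + 1) = 2 * q := by
    rw [hF, ← pow_add, ← pow_succ']
    congr 1
    ring
  have hsq : 2 ^ (m + 1) ≤ q := by
    rw [hF]; exact Nat.pow_le_pow_right (by norm_num) (by omega)
  have hprod : (q + 2 ^ (m + 1) + 1) * (q - 2 ^ (m + 1) + 1) = q ^ 2 + 1 := by
    zify [hsq] at hss ⊢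
    linear_combination -hss
  have hcop : Nat.Coprime (q + 2 ^ (m + 1) + 1) (q - 2 ^ (m + 1) + 1) := by
    set d := Nat.gcd (q + 2 ^ (m + 1) + 1) (q - 2 ^ (m + 1) + 1)
    have h1 : d ∣ q ^ 2 + 1 := hprod ▸ (Nat.gcd_dvd_left _ _).mul_right _
    have h2 : d ∣ 2 ^ (m + 1 + 1) := by
      have := Nat.dvd_sub (Nat.gcd_dvd_left (q + 2 ^ (m + 1) + 1) (q - 2 ^ (m + 1) + 1))
        (Nat.gcd_dvd_right (q + 2 ^ (m + 1) + 1) (q - 2 ^ (m + 1) + 1))
      rwa [show q + 2 ^ (m + 1) + 1 - (q - 2 ^ (m + 1) + 1) = 2 ^ (m + 1 + 1) by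
        rw [pow_succ' 2 (m + 1)]; omega] at this
    obtain ⟨i, -, hi⟩ := (Nat.dvd_prime_pow Nat.prime_two).1 h2
    rcases Nat.eq_zero_or_pos i with h0 | h0
    · rw [h0, pow_zero] at hi; exact hi
    · exact absurd ((hi ▸ dvd_pow_self 2 h0.ne').trans h1) hodd
  obtain ⟨g, hg, hN, hd⟩ : ∃ g : Cfsg.Sz F m, Fpf g ∧
      Nat.card (Subgroup.normalizer (Subgroup.centralizer {g} : Set (Cfsg.Sz F m)))
        = 4 * Nat.card (Subgroup.centralizer {g}) ∧
      ℓ ^ (e + 1) ∣ Nat.card (Subgroup.centralizer {g}) := by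
    have h1 : ℓ ^ (e + 1) ∣ (q + 2 ^ (m + 1) + 1) * (q - 2 ^ (m + 1) + 1) := hprod ▸ hdvd
    rcases (Nat.Coprime.isPrimePow_dvd_mul hcop (hℓ.isPrimePow.pow (Nat.succ_ne_zero e))).1 h1 with
      h2 | h2
    · exact ⟨g₁, hg₁, n₁, c₁ ▸ h2⟩
    · exact ⟨g₂, hg₂, n₂, c₂ ▸ h2⟩
  haveI := (torus hF hm hg).1
  obtain ⟨c, hc⟩ := IsCyclic.exists_ofOrder_eq_natCard (α := Subgroup.centralizer {g})
  obtain ⟨s, hs, hinv⟩ := sz_torus_inverted hF hm hg hN
  obtain ⟨t, rfl⟩ := sz_isConj_involution hF hm hs hu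
  refine ⟨t * (c : Cfsg.Sz F m) * t⁻¹, ?_⟩
  have hcord : orderOf (c : Cfsg.Sz F m) = Nat.card (Subgroup.centralizer {g}) := by
    rw [Subgroup.orderOf_coe, hc]
  have hs2 : s * s = 1 := by rw [← pow_two, ← hs]; exact pow_orderOf_eq_one s
  have e1 : t * s * t⁻¹ * (t * (c : Cfsg.Sz F m) * t⁻¹ * (t * s * t⁻¹) * (t * (c : Cfsg.Sz F m) * t⁻¹)⁻¹)
      = MulAut.conj t (s * ((c : Cfsg.Sz F m) * s * (c : Cfsg.Sz F m)⁻¹)) := by
    rw [MulAut.conj_apply]; group
  have e2 : s * ((c : Cfsg.Sz F m) * s * (c : Cfsg.Sz F m)⁻¹)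
      = ((c : Cfsg.Sz F m) ^ 2)⁻¹ := by
    have := hinv _ c.2
    rw [inv_eq_of_mul_eq_one_right hs2] at this
    calc s * ((c : Cfsg.Sz F m) * s * (c : Cfsg.Sz F m)⁻¹)
        = s * (c : Cfsg.Sz F m) * s * (c : Cfsg.Sz F m)⁻¹ := by group
      _ = _ := by rw [this, pow_two, mul_inv_rev]
  have hco : (orderOf (c : Cfsg.Sz F m)).Coprime 2 := Nat.Coprime.symm
    ((Nat.prime_two.coprime_iff_not_dvd).2 fun h =>
      hodd (h.trans (hcord ▸ card_torus_dvd hF hm hg)))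
  rw [e1, MulEquiv.orderOf_eq, e2, orderOf_inv, hco.orderOf_pow, hcord]
  exact hd

end Cfsg.Agent.LocalEven61
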