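import Cfsg.Agent.AutPSU.Sylow
import Cfsg.Agent.AutPSU.TwoPoint
import Cfsg.Agent.Lib.Unitary.Count
import Cfsg.Agent.Lib.Unitary.Moves
import Cfsg.Agent.LocalEven61.Involves
import Cfsg.Agent.LocalEven61.Qd

/-!
`Qd(p)` is not involved in `SU₃(q)` in characteristic `p`: the normaliser of a nontrivial
`p`-subgroup fixes an isotropic line.
-/

set_option autoImplicit false
set_option linter.style.haveILetI false

namespace Cfsg.Agent.LocalEven61.UnitaryQdFree

open Matrix Cfsg.Agent.Unitary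
open Cfsg.Agent.AutPSU (HPair Orth2 prj eq_prj orth2_prj piU)
open scoped MatrixGroups

universe u

variable {q : ℕ} {F : Type u} [Field F] [Fintype F] (hF : Fintype.card F = q ^ 2)

include hF

theorem exists_third {e f : Fin 3 → F} (h : HPair q e f) :
    ∃ w₀, Orth2 q e f w₀ ∧ herm q w₀ w₀ ≠ 0 ∧ ∀ w, Orth2 q e f w → ∃ c : F, w = c • w₀ := by
  classical
  obtain ⟨w₀, hw₀, hne⟩ : ∃ w₀, Orth2 q e f w₀ ∧ w₀ ≠ 0 := by
    by_contra hno
    push Not at hno
    have hs : Function.Surjective fun c : F × F => c.1 • e + c.2 • f := fun x => by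
      refine ⟨(herm q x f, herm q x e), ?_⟩
      have e1 := eq_prj (q := q) e f x
      rw [hno _ (orth2_prj hF h x), add_zero] at e1
      exact e1.symm
    have := Fintype.card_le_of_surjective _ hs
    rw [Fintype.card_prod, Fintype.card_fun, Fintype.card_fin, pow_succ, pow_two] at this
    have h0 : 0 < Fintype.card F * Fintype.card F := Nat.mul_pos Fintype.card_pos Fintype.card_pos
    have h1 : 1 < Fintype.card F := Fintype.one_lt_card
    nlinarith
  obtain ⟨hl, hr⟩ := hw₀.left hF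
  let L : F × F × F → (Fin 3 → F) := fun c => c.1 • e + c.2.1 • f + c.2.2 • w₀
  have hL : Function.Injective L := by
    rintro ⟨a, b, c⟩ ⟨a', b', c'⟩ he
    have e1 := congrArg (fun z => herm q z f) he
    have e2 := congrArg (fun z => herm q z e) he
    simp only [L, herm_add_left, herm_smul_left, h.ef, h.ff, h.ee, h.fe hF, hw₀.1, hw₀.2, mul_one,
      mul_zero, add_zero, zero_add] at e1 e2
    subst e1; subst e2
    simp only [L, add_right_inj] at he
    rw [smul_left_injective F hne he]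
  have hcard : Fintype.card (F × F × F) = Fintype.card (Fin 3 → F) := by
    rw [Fintype.card_prod, Fintype.card_prod, Fintype.card_fun, Fintype.card_fin]; ring
  have hsurj : ∀ x, ∃ a b c : F, x = a • e + b • f + c • w₀ := fun x => by
    obtain ⟨⟨a, b, c⟩, hc⟩ := ((Fintype.bijective_iff_injective_and_card L).2 ⟨hL, hcard⟩).2 x
    exact ⟨a, b, c, hc.symm⟩
  refine ⟨w₀, hw₀, fun h0 => hne (eq_zero_of_herm hF fun y => ?_), fun w hw => ?_⟩
  · obtain ⟨a, b, c, rfl⟩ := hsurj y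
    simp [herm_add_right hF, herm_smul_right hF, hw₀.1, hw₀.2, h0]
  · obtain ⟨a, b, c, rfl⟩ := hsurj w
    have e1 := hw.1
    have e2 := hw.2
    simp only [herm_add_left, herm_smul_left, h.ef, h.ff, h.ee, h.fe hF, hw₀.1, hw₀.2, mul_one,
      mul_zero, add_zero, zero_add] at e1 e2
    exact ⟨c, by rw [e1, e2, zero_smul, zero_smul, zero_add, zero_add]⟩

variable {p : ℕ} [Fact p.Prime] [CharP F p]

theorem exists_iso_fixed {E : Subgroup (SU 3 F q)} (hE : IsPGroup p E) :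
    ∃ e : Fin 3 → F, e ≠ 0 ∧ herm q e e = 0 ∧ ∀ g ∈ E, g • e = e := by
  let T := {v : Fin 3 → F // herm q v v = 0}
  letI : MulAction E T :=
    { smul := fun g v => ⟨(g : SU 3 F q) • v.1, by rw [herm_smul_SU]; exact v.2⟩
      one_smul := fun v => Subtype.ext (one_smul (SU 3 F q) v.1)
      mul_smul := fun g g' v => Subtype.ext (mul_smul (g : SU 3 F q) (g' : SU 3 F q) v.1) }
  have hpq : p ∣ q := by
    have h := FiniteField.cast_card_eq_zero F
    rw [hF, Nat.cast_pow, sq_eq_zero_iff] at h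
    exact (CharP.cast_eq_zero_iff F p q).1 h
  have hcard : p ∣ Nat.card T := by
    have h := q_mul_nvec_zero hF (F := F) 3
    obtain ⟨k, hk⟩ := hpq
    have h2 : (q : ℤ) * nvec 3 F q 0 = q * ((q : ℤ) ^ 5 - q ^ 3 + q ^ 2) := by rw [h]; ring
    have h3 := mul_left_cancel₀ (by exact_mod_cast (q_pos hF).ne') h2
    show p ∣ nvec 3 F q 0
    refine Int.natCast_dvd_natCast.1 ?_
    rw [h3, hk]
    push_cast
    exact ⟨(k : ℤ) * ((p * k : ℤ) ^ 4 - (p * k) ^ 2 + p * k), by ring⟩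
  have h0 : (⟨0, herm_zero_left 0⟩ : T) ∈ MulAction.fixedPoints E T := fun g =>
    Subtype.ext (smul_zero (g : SU 3 F q))
  obtain ⟨⟨e, he⟩, hfix, hne⟩ := hE.exists_fixed_point_of_prime_dvd_card_of_fixed_point T hcard h0
  exact ⟨e, fun e0 => hne (Subtype.ext e0.symm), he,
    fun g hg => congrArg Subtype.val (hfix ⟨g, hg⟩)⟩

theorem fixed_iso_unique {E : Subgroup (SU 3 F q)} (hE : IsPGroup p E) (hne : E ≠ ⊥)
    {e e' : Fin 3 → F} (he0 : e ≠ 0) (he : herm q e e = 0) (he' : herm q e' e' = 0)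
    (hef : ∀ g ∈ E, g • e = e) (hef' : ∀ g ∈ E, g • e' = e') : ∃ a : F, e' = a • e := by
  by_cases h0 : herm q e' e = 0
  · obtain ⟨f, -, hf, hef1⟩ := exists_partner hF (S := ∅) (u := e) (by simp [supp_empty]) he he0
    have h : HPair q e f := ⟨he, hf, hef1⟩
    obtain ⟨w₀, hw₀, hw0, hline⟩ := exists_third hF h
    obtain ⟨c, hc⟩ := hline _ (orth2_prj hF h e')
    obtain ⟨hl, hr⟩ := hw₀.left hF
    have e1 := eq_prj (q := q) e f e'
    rw [h0, zero_smul, add_zero, hc] at e1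
    rw [e1] at he'
    simp only [herm_add_left, herm_add_right hF, herm_smul_left, herm_smul_right hF, h.ee, hw₀.1,
      hl, mul_zero, zero_add, add_zero] at he'
    have hc0 : c = 0 := by
      rcases mul_eq_zero.1 he' with hc | hc
      · exact (pow_q_eq_zero_iff hF).1 hc
      · exact (mul_eq_zero.1 hc).resolve_right hw0
    exact ⟨herm q e' f, e1.trans (by rw [hc0, zero_smul, add_zero])⟩
  exfalso
  have h0' : herm q e e' ≠ 0 := fun hh => h0 ((herm_eq_zero_comm hF).1 hh)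
  have h := AutPSU.HPair.of_nonorth hF he he' h0'
  set f := (herm q e e' ^ q)⁻¹ • e' with hf
  obtain ⟨w₀, hw₀, hw0, hline⟩ := exists_third hF h
  refine hne ((Subgroup.eq_bot_iff_forall _).2 fun g hg => ?_)
  have gf : g • f = f := by rw [hf, smul_comm, hef' g hg]
  have hgw : Orth2 q e f (g • w₀) := by
    constructor
    · conv_lhs => rw [← hef g hg]
      rw [herm_smul_SU]; exact hw₀.1
    · conv_lhs => rw [← gf]
      rw [herm_smul_SU]; exact hw₀.2
  obtain ⟨c, hc⟩ := hline _ hgw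
  have hne0 : w₀ ≠ 0 := fun z => hw0 (by rw [z, herm_zero_left])
  obtain ⟨k, hk⟩ := hE ⟨g, hg⟩
  have hk' : g ^ p ^ k = 1 := congrArg Subtype.val hk
  have hcp : c ^ p ^ k = 1 := by
    refine smul_left_injective F hne0 (?_ : c ^ p ^ k • w₀ = (1 : F) • w₀)
    rw [← AutPSU.pow_smul_eigen hc, hk', one_smul, one_smul]
  have hc1 : c = 1 := by
    have h2 : (c - 1) ^ p ^ k = 0 := by rw [sub_pow_char_pow, hcp, one_pow, sub_self]
    exact sub_eq_zero.1 ((pow_eq_zero_iff (pow_ne_zero _ (Fact.out : p.Prime).ne_zero)).1 h2)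
  refine eq_of_smul_eq_SU fun v => ?_
  obtain ⟨d, hd⟩ := hline _ (orth2_prj hF h v)
  rw [one_smul]
  conv_lhs => rw [eq_prj (q := q) e f v, hd]
  conv_rhs => rw [eq_prj (q := q) e f v, hd]
  simp only [smul_add, smul_comm g (herm q v f) e, smul_comm g (herm q v e) f, smul_comm g d w₀,
    hef g hg, gf, hc, hc1, one_smul]

theorem not_involves (hp2 : p ≠ 2) : ¬ Cfsg.Involves ↥(Cfsg.qdOver (ZMod p)) (SU 3 F q) := by
  classical
  intro hinv
  have hp : p.Prime := Fact.out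
  obtain ⟨H, φ, hφ⟩ := exists_surjective_of_involves hinv
  set V := (qdLin : ↥(Cfsg.qdOver (ZMod p)) →* SL(2, ZMod p)).ker with hV
  have hVp : IsPGroup p V := isPGroup_ker_qdLin
  set E₀ := V.comap φ with hE₀
  haveI : E₀.Normal := Subgroup.Normal.comap inferInstance φ
  obtain ⟨P⟩ : Nonempty (Sylow p E₀) := inferInstance
  let P' : Subgroup H := (P : Subgroup E₀).map E₀.subtype
  have hsup : Subgroup.normalizer (P' : Set H) ⊔ E₀ = ⊤ := Sylow.normalizer_sup_eq_top P
  -- the image of `P` is `V`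
  let ψ : E₀ →* V := φ.subgroupComap V
  have hψ : Function.Surjective ψ := fun v => by
    obtain ⟨x, hx⟩ := hφ (v : ↥(Cfsg.qdOver (ZMod p)))
    exact ⟨⟨x, show φ x ∈ V from hx ▸ v.2⟩, Subtype.ext hx⟩
  have hPV : ((P.mapSurjective hψ : Sylow p V) : Subgroup V) = ⊤ :=
    ((P.mapSurjective hψ).3 (hVp.of_injective (⊤ : Subgroup V).subtype (⊤ : Subgroup V).subtype_injective)
      le_top).symm
  have hVim : ∀ v ∈ V, ∃ x ∈ P', φ x = v := fun v hv => by
    obtain ⟨y, hy, hyv⟩ : (⟨v, hv⟩ : V) ∈ (P : Subgroup E₀).map ψ :=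
      (show (P : Subgroup E₀).map ψ = ⊤ from hPV) ▸ Subgroup.mem_top _
    exact ⟨_, ⟨y, hy, rfl⟩, congrArg Subtype.val hyv⟩
  -- the preimages can be taken in the normaliser
  have hsurjN : ∀ y, ∃ x ∈ Subgroup.normalizer (P' : Set H), φ x = y := fun y => by
    obtain ⟨h, rfl⟩ := hφ y
    obtain ⟨a, ha, b, hb, rfl⟩ := Subgroup.mem_sup_of_normal_right.1
      (show h ∈ Subgroup.normalizer (P' : Set H) ⊔ E₀ from hsup ▸ Subgroup.mem_top h)
    obtain ⟨x, hx, hxb⟩ := hVim _ hb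
    exact ⟨a * x, mul_mem ha (Subgroup.le_normalizer hx), by rw [map_mul, hxb, map_mul]⟩
  set E : Subgroup (SU 3 F q) := P'.map H.subtype with hE
  have hEp : IsPGroup p E := (P.2.map E₀.subtype).map H.subtype
  have hEne : E ≠ ⊥ := fun h0 => by
    obtain ⟨x, hx, hxv⟩ := hVim (qdAff ![1, 0] 1) (MonoidHom.mem_ker.2 (qdLin_qdAff _ _))
    have h1 : (x : SU 3 F q) ∈ E := Subgroup.mem_map_of_mem H.subtype hx
    rw [h0, Subgroup.mem_bot, OneMemClass.coe_eq_one] at h1
    rw [h1, map_one, ← qdAff_zero_one] at hxv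
    have h2 := congrFun (congrArg qdTrans hxv) 0
    rw [qdTrans_qdAff, qdTrans_qdAff] at h2
    simp at h2
  obtain ⟨e, he0, he, hfix⟩ := exists_iso_fixed hF hEp
  have hline : ∀ x : H, x ∈ Subgroup.normalizer (P' : Set H) →
      ∃ a : F, (x : SU 3 F q) • e = a • e := fun x hx => by
    refine fixed_iso_unique hF hEp hEne he0 he (by rw [herm_smul_SU]; exact he) hfix fun g hg => ?_
    obtain ⟨y, hy, rfl⟩ := hg
    have h1 : x⁻¹ * y * x ∈ P' := by
      have := (Subgroup.mem_normalizer_iff.1 (inv_mem hx) y).1 hy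
      rwa [inv_inv] at this
    have h2 := hfix _ (Subgroup.mem_map_of_mem H.subtype h1)
    rw [map_mul, map_mul, map_inv, mul_smul, mul_smul, inv_smul_eq_iff] at h2
    exact h2
  obtain ⟨f, -, hf, hef⟩ := exists_partner hF (S := ∅) (u := e) (by simp [supp_empty]) he he0
  have h : HPair q e f := ⟨he, hf, hef⟩
  obtain ⟨w₀, hw₀, hw0, hthird⟩ := exists_third hF h
  have hne0 : w₀ ≠ 0 := fun z => hw0 (by rw [z, herm_zero_left])
  have hpe : prj q e f e = 0 := by simp [prj, h.ef, h.ee]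
  -- triangular shape
  have htri : ∀ x : H, x ∈ Subgroup.normalizer (P' : Set H) →
      ∃ a μ al : F, a ≠ 0 ∧ μ ≠ 0 ∧ (x : SU 3 F q) • e = a • e ∧
        (x : SU 3 F q) • w₀ = al • e + μ • w₀ := fun x hx => by
    obtain ⟨a, ha⟩ := hline x hx
    have ha0 : a ≠ 0 := fun z => he0 (by rwa [z, zero_smul, smul_eq_zero_iff_eq] at ha)
    have h1 : herm q ((x : SU 3 F q) • w₀) e = 0 := by
      have h2 := herm_smul_SU (x : SU 3 F q) w₀ e
      rw [ha, herm_smul_right hF, hw₀.1] at h2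
      exact (mul_eq_zero.1 h2).resolve_left (mt (pow_q_eq_zero_iff hF).1 ha0)
    obtain ⟨μ, hμ⟩ := hthird _ (orth2_prj hF h ((x : SU 3 F q) • w₀))
    have h3 := eq_prj (q := q) e f ((x : SU 3 F q) • w₀)
    rw [h1, zero_smul, add_zero, hμ] at h3
    refine ⟨a, μ, _, ha0, fun z => ?_, ha, h3⟩
    rw [z, zero_smul, add_zero] at h3
    have h4 := herm_smul_SU (x : SU 3 F q) w₀ w₀
    rw [h3, herm_smul_left, herm_smul_right hF, he, mul_zero, mul_zero] at h4
    exact hw0 h4.symm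
  -- the commutator
  obtain ⟨a₀, b₀, hab⟩ := ZMod.sq_add_sq p (-1)
  let A : SL(2, ZMod p) := ⟨!![a₀, b₀; b₀, -a₀], by
    rw [Matrix.det_fin_two_of]; linear_combination -hab⟩
  let B : SL(2, ZMod p) := ⟨!![0, 1; -1, 0], by rw [Matrix.det_fin_two_of]; ring⟩
  obtain ⟨x, hx, hxA⟩ := hsurjN (qdAff 0 A)
  obtain ⟨y, hy, hyB⟩ := hsurjN (qdAff 0 B)
  obtain ⟨c, hcd⟩ : ∃ c, c = x * y * (y * x)⁻¹ := ⟨_, rfl⟩
  have hc : c ∈ Subgroup.normalizer (P' : Set H) :=
    hcd ▸ mul_mem (mul_mem hx hy) (inv_mem (mul_mem hy hx))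
  have hcxy : (c : SU 3 F q) * ((y : SU 3 F q) * x) = (x : SU 3 F q) * y :=
    congrArg Subtype.val (show c * (y * x) = x * y by rw [hcd, inv_mul_cancel_right])
  obtain ⟨ax, μx, lx, hax, hμx, hxe, hxw⟩ := htri x hx
  obtain ⟨ay, μy, ly, hay, hμy, hye, hyw⟩ := htri y hy
  obtain ⟨ac, μc, lc, -, -, hce, hcw⟩ := htri c hc
  have sc : ∀ (g : SU 3 F q) (a : F) (v : Fin 3 → F), g • a • v = a • g • v := fun g a v => smul_comm g a v
  have E1 := congrArg (fun g : SU 3 F q => g • e) hcxy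
  simp only [mul_smul, sc, hxe, hye, hce] at E1
  simp only [smul_smul] at E1
  have hac : ac = 1 := by
    have := smul_left_injective F he0 E1
    refine mul_left_cancel₀ (mul_ne_zero hax hay) ?_
    linear_combination this
  have E2 := congrArg (fun g : SU 3 F q => herm q (g • w₀) w₀) hcxy
  simp only [mul_smul, smul_add, sc, hxw, hyw, hcw, hxe, hye, hce, herm_add_left, herm_smul_left,
    (hw₀.left hF).1, mul_zero, zero_add] at E2
  have hμc : μc = 1 := by
    refine mul_left_cancel₀ (mul_ne_zero (mul_ne_zero hμx hμy) hw0) ?_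
    linear_combination E2
  have hU : piU 3 F q (c : SU 3 F q) ∈ AutPSU.Ugrp hF h :=
    AutPSU.mem_Ugrp_of_trivial hF (by norm_num) h (a := 1) (by simp) (by rw [hce, hac])
      fun w hw => by
        obtain ⟨d, rfl⟩ := hthird w hw
        rw [one_smul, smul_comm, hcw, hμc, one_smul, AutPSU.prj_smul, AutPSU.prj_add hF,
          AutPSU.prj_smul, hpe, smul_zero, zero_add, AutPSU.prj_of_orth2 hw₀]
  obtain ⟨k, hk⟩ := AutPSU.isPGroup_Ugrp hF p h ⟨_, hU⟩
  have hk' : piU 3 F q ((c : SU 3 F q) ^ p ^ k) = piU 3 F q 1 := by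
    rw [map_pow, map_one]; exact congrArg Subtype.val hk
  obtain ⟨r, hr⟩ := (AutPSU.piU_eq_iff hF (by norm_num)).1 hk'
  have hce' : ((c : SU 3 F q) ^ p ^ k) • e = e := by
    rw [AutPSU.pow_smul_eigen hce, hac, one_pow, one_smul]
  have hr1 : r = 1 := by
    have h1 := hr e
    rw [hce', one_smul] at h1
    exact smul_left_injective F he0 (h1.symm.trans (one_smul F e).symm)
  have hck : c ^ p ^ k = 1 := Subtype.ext (eq_of_smul_eq_SU fun v => by
    rw [SubgroupClass.coe_pow, OneMemClass.coe_one, one_smul]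
    simpa [hr1] using (hr v).symm)
  have hfc := congrArg (fun z => qdLin (φ z)) hck
  simp only [map_pow, map_one, hcd, map_mul, map_inv, hxA, hyB, qdLin_qdAff] at hfc
  have hAB : A * B = -(B * A) := by
    apply Subtype.ext
    show !![a₀, b₀; b₀, -a₀] * !![0, 1; -1, 0] =
      -(!![0, 1; -1, 0] * !![a₀, b₀; b₀, -a₀] : Matrix (Fin 2) (Fin 2) (ZMod p))
    rw [Matrix.mul_fin_two, Matrix.mul_fin_two]
    ext i j
    fin_cases i <;> fin_cases j <;> simp
  rw [hAB, neg_mul, mul_inv_cancel, (hp.odd_of_ne_two hp2).pow.neg_one_pow] at hfc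
  have h00 := congrArg (fun M : SL(2, ZMod p) => (M : Matrix (Fin 2) (Fin 2) (ZMod p)) 0 0) hfc
  simp at h00
  haveI : Fact (2 < p) := ⟨lt_of_le_of_ne hp.two_le (Ne.symm hp2)⟩
  exact ZMod.neg_one_ne_one h00

end Cfsg.Agent.LocalEven61.UnitaryQdFree
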