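import Mathlib

/-!
Self-dual binary codes of length 24 and minimum weight at least 8: every coset is met by the words
of weight at most 4 in one word of weight at most 3 or in a sextet; every five points lie in an
octad; the code is spanned by octads and is doubly even.
-/

set_option autoImplicit false
set_option linter.style.haveILetI false

open scoped symmDiff

namespace Cfsg.Agent.LocalEven61.AbstractGolay

/-- Coordinate words. -/
abbrev Word : Type := Fin 24 → ZMod 2

/-- The support. -/
def supp (v : Word) : Finset (Fin 24) := Finset.univ.filter fun i => v i ≠ 0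

/-- The word with a given support. -/
def vecOf (s : Finset (Fin 24)) : Word := fun i => if i ∈ s then 1 else 0

theorem mem_supp {v : Word} {i : Fin 24} : i ∈ supp v ↔ v i ≠ 0 := by simp [supp]

theorem norm_eq (v : Word) : hammingNorm v = (supp v).card := rfl

theorem supp_vecOf (s : Finset (Fin 24)) : supp (vecOf s) = s := by
  ext i; by_cases h : i ∈ s <;> simp [mem_supp, vecOf, h]

theorem vecOf_supp (v : Word) : vecOf (supp v) = v := by
  funext i
  by_cases h : v i = 0
  · simp [vecOf, mem_supp, h]
  · simp [vecOf, mem_supp, h, (by decide : ∀ c : ZMod 2, c ≠ 0 → c = 1) _ h]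

theorem supp_add (v w : Word) : supp (v + w) = supp v ∆ supp w := by
  ext i
  simp only [Finset.mem_symmDiff, mem_supp, Pi.add_apply]
  exact (by decide : ∀ a b : ZMod 2, a + b ≠ 0 ↔ (a ≠ 0 ∧ ¬ b ≠ 0) ∨ (b ≠ 0 ∧ ¬ a ≠ 0)) _ _

theorem sub_eq (v w : Word) : v - w = v + w :=
  funext fun i => (by decide : ∀ a b : ZMod 2, a - b = a + b) _ _

theorem card_symmDiff {α : Type*} [DecidableEq α] (s t : Finset α) :
    (s ∆ t).card + 2 * (s ∩ t).card = s.card + t.card := by
  have h2 := Finset.card_sdiff_add_card_inter s t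
  have h3 := Finset.card_sdiff_add_card_inter t s
  rw [Finset.inter_comm t s] at h3
  rw [symmDiff_def, Finset.sup_eq_union, Finset.card_union_of_disjoint disjoint_sdiff_sdiff]
  omega

theorem supp_zero : supp (0 : Word) = ∅ := by simp [supp]

theorem eq_zero_of_supp {v : Word} (h : supp v = ∅) : v = 0 := by
  rw [← vecOf_supp v, h]; funext i; simp [vecOf]

variable {C : Submodule (ZMod 2) Word}

theorem card_inter_even (horth : ∀ v ∈ C, ∀ w ∈ C, ∑ i, v i * w i = 0) {v w : Word} (hv : v ∈ C)
    (hw : w ∈ C) : 2 ∣ (supp v ∩ supp w).card := by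
  have h := horth v hv w hw
  have e : ∀ i, v i * w i = if i ∈ supp v ∩ supp w then 1 else 0 := by
    intro i
    simp only [Finset.mem_inter, mem_supp]
    exact (by decide : ∀ a b : ZMod 2, a * b = if a ≠ 0 ∧ b ≠ 0 then 1 else 0) _ _
  simp only [e, Finset.sum_boole, Finset.filter_mem_eq_inter, Finset.univ_inter] at h
  exact (ZMod.natCast_eq_zero_iff_even.1 h).two_dvd

theorem card_supp_even (horth : ∀ v ∈ C, ∀ w ∈ C, ∑ i, v i * w i = 0) {v : Word} (hv : v ∈ C) :
    2 ∣ (supp v).card := by
  simpa using card_inter_even horth hv hv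

/-- The class of a support. -/
noncomputable def cls (C : Submodule (ZMod 2) Word) (s : Finset (Fin 24)) : Word ⧸ C :=
  Submodule.Quotient.mk (vecOf s)

theorem cls_eq_iff {s t : Finset (Fin 24)} : cls C s = cls C t ↔ vecOf s + vecOf t ∈ C := by
  rw [cls, cls, Submodule.Quotient.eq, sub_eq]

theorem supp_vecOf_add (s t : Finset (Fin 24)) : supp (vecOf s + vecOf t) = s ∆ t := by
  rw [supp_add, supp_vecOf, supp_vecOf]

/-- The small supports. -/
def small : Finset (Finset (Fin 24)) :=
  (Finset.range 5).biUnion fun k => (Finset.univ : Finset (Fin 24)).powersetCard k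

theorem mem_small {s : Finset (Fin 24)} : s ∈ small ↔ s.card ≤ 4 := by
  simp [small, Finset.mem_powersetCard, Nat.lt_succ_iff]

/-- The coset weight. -/
def wt (s : Finset (Fin 24)) : ℕ := if s.card ≤ 3 then 6 else 1

theorem sum_wt : ∑ s ∈ small, wt s = 6 * 4096 := by
  rw [small, Finset.sum_biUnion]
  · have h : ∀ k, ∀ s ∈ (Finset.univ : Finset (Fin 24)).powersetCard k,
        wt s = if k ≤ 3 then 6 else 1 := fun k s hs => by
      rw [wt, (Finset.mem_powersetCard.1 hs).2]
    rw [Finset.sum_congr rfl fun k _ => Finset.sum_congr rfl (h k)]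
    simp only [Finset.sum_const, Finset.card_powersetCard, Finset.card_univ, Fintype.card_fin]
    decide
  · intro a _ b _ hab
    exact Finset.pairwise_disjoint_powersetCard _ hab

variable (hmin : ∀ w ∈ C, w ≠ 0 → 8 ≤ hammingNorm w)
include hmin

theorem far {s t : Finset (Fin 24)} (hs : s.card ≤ 4) (ht : t.card ≤ 4) (hne : s ≠ t)
    (h : cls C s = cls C t) : s.card = 4 ∧ t.card = 4 ∧ Disjoint s t := by
  rw [cls_eq_iff] at h
  have h0 : vecOf s + vecOf t ≠ 0 := fun h0 => hne <| by
    have := congrArg supp h0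
    rw [supp_vecOf_add, supp_zero] at this
    exact symmDiff_eq_bot.1 this
  have h8 := hmin _ h h0
  rw [norm_eq, supp_vecOf_add] at h8
  have := card_symmDiff s t
  exact ⟨by omega, by omega, Finset.disjoint_iff_inter_eq_empty.2 (Finset.card_eq_zero.1 (by omega))⟩

theorem fibre_le (q : Word ⧸ C) [DecidableEq (Word ⧸ C)] :
    ∑ s ∈ small.filter (fun s => cls C s = q), wt s ≤ 6 := by
  set F := small.filter (fun s => cls C s = q)
  by_cases h : ∃ s ∈ F, s.card ≤ 3
  · obtain ⟨s, hs, hs3⟩ := h
    have : F = {s} := by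
      refine Finset.eq_singleton_iff_unique_mem.2 ⟨hs, fun t ht => ?_⟩
      by_contra hne
      rw [Finset.mem_filter, mem_small] at hs ht
      have := far hmin ht.1 hs.1 hne (ht.2.trans hs.2.symm)
      omega
    rw [this, Finset.sum_singleton]
    simp [wt, hs3]
  · push Not at h
    have hc : ∀ s ∈ F, s.card = 4 := fun s hs => by
      have := h s hs
      rw [Finset.mem_filter, mem_small] at hs
      omega
    have hd : (F : Set (Finset (Fin 24))).PairwiseDisjoint id := fun s hs t ht hne => by
      rw [Finset.mem_coe, Finset.mem_filter, mem_small] at hs ht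
      exact (far hmin hs.1 ht.1 hne (hs.2.trans ht.2.symm)).2.2
    have hU := Finset.card_le_univ (F.biUnion id)
    have h4 : ∑ s ∈ F, (id s).card = ∑ _s ∈ F, 4 := Finset.sum_congr rfl fun s hs => hc s hs
    rw [Finset.card_biUnion hd, h4, Finset.sum_const, Fintype.card_fin, smul_eq_mul] at hU
    rw [Finset.sum_congr rfl (g := fun _ => 1) (fun s hs => by simp [wt, hc s hs]), Finset.sum_const,
      smul_eq_mul]
    omega

variable (hdim : Module.finrank (ZMod 2) C = 12)
include hdim

omit hmin in
theorem card_quot [Fintype (Word ⧸ C)] : Fintype.card (Word ⧸ C) = 4096 := by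
  rw [Module.card_eq_pow_finrank (K := ZMod 2), Submodule.finrank_quotient, hdim, ZMod.card,
    Module.finrank_fintype_fun_eq_card, Fintype.card_fin]
  norm_num

theorem fibre_eq (q : Word ⧸ C) [DecidableEq (Word ⧸ C)] :
    ∑ s ∈ small.filter (fun s => cls C s = q), wt s = 6 := by
  classical
  haveI := Fintype.ofFinite (Word ⧸ C)
  refine (fibre_le hmin q).eq_of_not_lt fun hlt => ?_
  have h1 := Finset.sum_lt_sum (s := (Finset.univ : Finset (Word ⧸ C)))
    (g := fun _ => 6) (fun x _ => fibre_le hmin x) ⟨q, Finset.mem_univ q, hlt⟩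
  rw [Finset.sum_fiberwise, sum_wt, Finset.sum_const, Finset.card_univ, card_quot hdim,
    smul_eq_mul] at h1
  omega

/-- Each coset: one light word, or a sextet. -/
theorem coset_cases (q : Word ⧸ C) [DecidableEq (Word ⧸ C)] :
    (∃ s, small.filter (fun s => cls C s = q) = {s} ∧ s.card ≤ 3) ∨
      ((small.filter (fun s => cls C s = q)).card = 6 ∧
        ∀ s ∈ small.filter (fun s => cls C s = q), s.card = 4) := by
  have heq := fibre_eq hmin hdim q
  set F := small.filter (fun s => cls C s = q)
  by_cases h : ∃ s ∈ F, s.card ≤ 3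
  · obtain ⟨s, hs, hs3⟩ := h
    refine Or.inl ⟨s, Finset.eq_singleton_iff_unique_mem.2 ⟨hs, fun t ht => ?_⟩, hs3⟩
    by_contra hne
    rw [Finset.mem_filter, mem_small] at hs ht
    have := far hmin ht.1 hs.1 hne (ht.2.trans hs.2.symm)
    omega
  · push Not at h
    have hc : ∀ s ∈ F, s.card = 4 := fun s hs => by
      have := h s hs
      rw [Finset.mem_filter, mem_small] at hs
      omega
    rw [Finset.sum_congr rfl (g := fun _ => 1) (fun s hs => by simp [wt, hc s hs]), Finset.sum_const,
      smul_eq_mul, mul_one] at heq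
    exact Or.inr ⟨heq, hc⟩

variable (horth : ∀ v ∈ C, ∀ w ∈ C, ∑ i, v i * w i = 0)
include horth

theorem exists_octad (s : Finset (Fin 24)) (hs : s.card = 5) :
    ∃ o ∈ C, (supp o).card = 8 ∧ s ⊆ supp o := by
  classical
  obtain ⟨u, hu⟩ : (small.filter (fun u => cls C u = cls C s)).Nonempty := by
    rcases coset_cases hmin hdim (cls C s) with ⟨u, hu, -⟩ | ⟨h6, -⟩
    · rw [hu]; exact Finset.singleton_nonempty u
    · exact Finset.card_pos.1 (by omega)
  rw [Finset.mem_filter, mem_small] at hu
  have ho := cls_eq_iff.1 hu.2.symm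
  have hcard := card_symmDiff s u
  have heven := card_supp_even horth ho
  have hne : vecOf s + vecOf u ≠ 0 := fun h0 => by
    have := congrArg supp h0
    rw [supp_vecOf_add, supp_zero] at this
    have := symmDiff_eq_bot.1 this
    subst this
    omega
  have h8 := hmin _ ho hne
  rw [norm_eq, supp_vecOf_add] at h8
  rw [supp_vecOf_add] at heven
  refine ⟨_, ho, by rw [supp_vecOf_add]; omega, ?_⟩
  rw [supp_vecOf_add]
  intro i hi
  have h0 : (s ∩ u) = ∅ := Finset.card_eq_zero.1 (by omega)
  refine Finset.mem_symmDiff.2 (Or.inl ⟨hi, fun hu' => ?_⟩)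
  have := Finset.mem_inter.2 ⟨hi, hu'⟩
  simp [h0] at this

omit hdim horth in
theorem octad_unique (s : Finset (Fin 24)) (hs : s.card = 5) {o o' : Word} (ho : o ∈ C)
    (ho' : o' ∈ C) (h8 : (supp o).card = 8) (h8' : (supp o').card = 8) (hso : s ⊆ supp o)
    (hso' : s ⊆ supp o') : o = o' := by
  by_contra hne
  have h0 : o + o' ≠ 0 := fun h => hne (by rwa [← sub_eq, sub_eq_zero] at h)
  have h1 := hmin _ (C.add_mem ho ho') h0
  rw [norm_eq, supp_add] at h1
  have h2 := card_symmDiff (supp o) (supp o')
  have h3 := Finset.card_le_card (Finset.subset_inter hso hso')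
  omega

theorem generated (c : Word) (hc : c ∈ C) :
    4 ∣ (supp c).card ∧
      c ∈ Submodule.span (ZMod 2) {w : Word | w ∈ C ∧ hammingNorm w = 8} := by
  induction hk : (supp c).card using Nat.strong_induction_on generalizing c with
  | _ k ih =>
    by_cases hc0 : c = 0
    · subst hc0
      rw [supp_zero] at hk
      simp at hk
      exact ⟨hk ▸ dvd_zero 4, Submodule.zero_mem _⟩
    have h8 := hmin c hc hc0
    rw [norm_eq] at h8
    obtain ⟨s, hsc, hs⟩ := Finset.exists_subset_card_eq (s := supp c) (n := 5) (by omega)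
    obtain ⟨o, ho, ho8, hso⟩ := exists_octad hmin hdim horth s hs
    have hj := card_inter_even horth hc ho
    have hj5 := Finset.card_le_card (Finset.subset_inter hsc hso)
    have hadd := card_symmDiff (supp c) (supp o)
    have hlt : (supp (c + o)).card < k := by rw [supp_add]; omega
    obtain ⟨hd, hspan⟩ := ih _ hlt (c + o) (C.add_mem hc ho) rfl
    rw [supp_add] at hd
    refine ⟨by omega, ?_⟩
    have : c = (c + o) + o := by
      rw [add_assoc, ← sub_eq o o, sub_self, add_zero]
    rw [this]
    exact Submodule.add_mem _ hspan (Submodule.subset_span ⟨ho, ho8⟩)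

end Cfsg.Agent.LocalEven61.AbstractGolay
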