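import Cfsg.Agent.Lib.Thompson.Cores
import Cfsg.Agent.CG26.PSpLB

/-!
Cores of centralisers of automorphisms: the case of trivial `2'`-core, and transport along
conjugation.
-/

set_option autoImplicit false

open Subgroup

namespace Cfsg.Agent.LocalEven61.Balance

variable {K : Type*} [Group K] {p : ℕ}

open Cfsg.Agent.CG26.PSpLB (Fix conj_comm_iff conj_injective)

theorem fix_invariant {x c : MulAut K} (h : c * x = x * c) {k : K} (hk : k ∈ Fix x) : c k ∈ Fix x := by
  show x (c k) = c k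
  rw [← MulAut.mul_apply, ← h, MulAut.mul_apply]
  exact congrArg c hk

/-- The automorphism of the fixed points induced by a commuting automorphism. -/
def fixEquiv {x c : MulAut K} (h : c * x = x * c) : Fix x ≃* Fix x where
  toFun k := ⟨c k, fix_invariant h k.2⟩
  invFun k := ⟨c⁻¹ k, fix_invariant (Commute.inv_left h) k.2⟩
  left_inv k := Subtype.ext (MulAut.inv_apply_self K c k)
  right_inv k := Subtype.ext (MulAut.apply_inv_self K c k)
  map_mul' a b := Subtype.ext (map_mul c a.1 b.1)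

variable [Finite K]

instance : Finite (MulAut K) := Finite.of_injective _ DFunLike.coe_injective

theorem core_two_bot (hZ : center K = ⊥) {x : MulAut K}
    (hfix : ∀ β : MulAut K, β * x = x * β → Odd (orderOf β) → (∀ k ∈ Fix x, β k = k) → β = 1)
    (hnor : ∀ M : Subgroup K, M ≤ Fix x → (∀ c : MulAut K, c * x = x * c → ∀ m ∈ M, c m ∈ M) →
      Odd (Nat.card M) → M = ⊥)
    (A : Subgroup (MulAut K)) (hinn : ∀ k : K, MulAut.conj k ∈ A) :
    Cfsg.pPrimeCore 2 ↥(A ⊓ centralizer ({x} : Set (MulAut K))) = ⊥ := by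
  set C := A ⊓ centralizer ({x} : Set (MulAut K)) with hC
  have hin : ∀ k ∈ Fix x, MulAut.conj k ∈ C := fun k hk => ⟨hinn k, (conj_comm_iff hZ).2 hk⟩
  let j : Fix x →* C := ((MulAut.conj : K →* MulAut K).comp (Fix x).subtype).codRestrict C
    fun k => hin k k.2
  have hj : Function.Injective j := fun a b h =>
    Subtype.ext (conj_injective hZ (congrArg Subtype.val h))
  -- the fixed group has trivial odd core
  have hP : Cfsg.pPrimeCore 2 (Fix x) = ⊥ := by
    have h := hnor ((Cfsg.pPrimeCore 2 (Fix x)).map (Fix x).subtype) (map_subtype_le _) ?_ ?_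
    · exact (map_eq_bot_iff_of_injective _ (subtype_injective _)).1 h
    · rintro c hc _ ⟨k, hk, rfl⟩
      refine ⟨fixEquiv hc k, ?_, rfl⟩
      rw [← Thompson.map_pPrimeCore_equiv (p := 2) (fixEquiv hc)]
      exact ⟨k, hk, rfl⟩
    · rw [card_map_of_injective (subtype_injective _)]
      exact Nat.coprime_two_right.1 Thompson.card_pPrimeCore_coprime
  set N := Cfsg.pPrimeCore 2 ↥C with hN
  have hcop : (Nat.card N).Coprime 2 := Thompson.card_pPrimeCore_coprime
  have hM : N.comap j = ⊥ := by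
    rw [eq_bot_iff, ← hP]
    exact Thompson.le_pPrimeCore ((inferInstance : N.Normal).comap j)
      (Nat.Coprime.coprime_dvd_left (card_comap_dvd_of_injective N j hj) hcop)
  refine (eq_bot_iff_forall _).2 fun n hn => Subtype.ext ?_
  have hcomm : (n : MulAut K) * x = x * (n : MulAut K) := mem_centralizer_singleton_iff.1 n.2.2
  refine hfix _ hcomm ?_ fun k hk => ?_
  · have h : orderOf n ∣ Nat.card N := by
      rw [← orderOf_mk n hn]; exact orderOf_dvd_natCard _
    rw [orderOf_coe]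
    exact (Nat.coprime_two_right.1 hcop).of_dvd_nat h
  · have hk' := fix_invariant hcomm hk
    have e : n * j ⟨k, hk⟩ * n⁻¹ * (j ⟨k, hk⟩)⁻¹ = j (⟨_, hk'⟩ * ⟨k, hk⟩⁻¹) := by
      rw [map_mul, map_inv]
      congr 1
      refine Subtype.ext (MulEquiv.ext fun y => ?_)
      show (n : MulAut K) (k * ((n : MulAut K)⁻¹ y) * k⁻¹) = (n : MulAut K) k * y * ((n : MulAut K) k)⁻¹
      rw [map_mul, map_mul, map_inv, MulAut.apply_inv_self]
    have hmem : n * j ⟨k, hk⟩ * n⁻¹ * (j ⟨k, hk⟩)⁻¹ ∈ N := by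
      have := N.mul_mem hn ((inferInstance : N.Normal).conj_mem _ (N.inv_mem hn) (j ⟨k, hk⟩))
      simpa only [mul_assoc] using this
    have : (⟨_, hk'⟩ * ⟨k, hk⟩⁻¹ : Fix x) ∈ N.comap j := by rw [mem_comap, ← e]; exact hmem
    rw [hM, mem_bot, mul_inv_eq_one] at this
    exact congrArg Subtype.val this

theorem centralizer_map_conj (A : Subgroup (MulAut K)) (α x : MulAut K) :
    A.map (MulAut.conj α).toMonoidHom ⊓ centralizer ({α * x * α⁻¹} : Set (MulAut K)) =
      (A ⊓ centralizer ({x} : Set (MulAut K))).map (MulAut.conj α).toMonoidHom := by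
  ext β
  constructor
  · rintro ⟨⟨γ, hγ, rfl⟩, h⟩
    refine ⟨γ, ⟨hγ, mem_centralizer_singleton_iff.2 ?_⟩, rfl⟩
    have h' := mem_centralizer_singleton_iff.1 h
    apply (MulAut.conj α).injective
    rw [map_mul, map_mul]
    exact h'
  · rintro ⟨γ, ⟨hγ, h⟩, rfl⟩
    refine ⟨⟨γ, hγ, rfl⟩, mem_centralizer_singleton_iff.2 ?_⟩
    have h' := congrArg (MulAut.conj α) (mem_centralizer_singleton_iff.1 h)
    rw [map_mul, map_mul] at h'
    exact h'

theorem core_map_conj [Fact p.Prime] (A : Subgroup (MulAut K)) (α x : MulAut K) :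
    Cfsg.pPrimeCore p ↥(A.map (MulAut.conj α).toMonoidHom ⊓ centralizer {α * x * α⁻¹}) = ⊥ ↔
      Cfsg.pPrimeCore p ↥(A ⊓ centralizer {x}) = ⊥ := by
  let e : ↥(A ⊓ centralizer ({x} : Set (MulAut K))) ≃*
      ↥(A.map (MulAut.conj α).toMonoidHom ⊓ centralizer ({α * x * α⁻¹} : Set (MulAut K))) :=
    ((MulAut.conj α).subgroupMap _).trans (MulEquiv.subgroupCongr (centralizer_map_conj A α x).symm)
  rw [← Thompson.map_pPrimeCore_equiv (p := p) e, map_eq_bot_iff_of_injective _ e.injective]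

theorem inn_le_map_conj (A : Subgroup (MulAut K)) (hinn : ∀ k : K, MulAut.conj k ∈ A) (α : MulAut K)
    (k : K) : MulAut.conj k ∈ A.map (MulAut.conj α).toMonoidHom := by
  refine ⟨MulAut.conj (α⁻¹ k), hinn _, MulEquiv.ext fun y => ?_⟩
  show α (α⁻¹ k * α⁻¹ y * (α⁻¹ k)⁻¹) = k * y * k⁻¹
  rw [map_mul, map_mul, map_inv, MulAut.apply_inv_self, MulAut.apply_inv_self]

theorem card_fix_conj (α x : MulAut K) : Nat.card (Fix (α * x * α⁻¹)) = Nat.card (Fix x) := by
  refine (Nat.card_congr (Equiv.subtypeEquiv α.toEquiv fun k => ?_)).symm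
  show x k = k ↔ (α * x * α⁻¹) (α k) = α k
  simp [MulAut.mul_apply]

/-- The criterion for a conjugate. -/
theorem core_iff_conj (hZ : center K = ⊥) [Fact p.Prime] {x : MulAut K} (α : MulAut K)
    (hx : Fix (α * x * α⁻¹) ≠ ⊥)
    (hfix : ∀ β : MulAut K, (∀ k ∈ Fix (α * x * α⁻¹), β k = k) → β ^ p = 1)
    (hnor : p ∣ Nat.card (Fix (α * x * α⁻¹)) → ∀ M : Subgroup K, M ≤ Fix (α * x * α⁻¹) →
      (∀ l ∈ Fix (α * x * α⁻¹), ∀ m ∈ M, l * m * l⁻¹ ∈ M) → (Nat.card M).Coprime p → M = ⊥)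
    (A : Subgroup (MulAut K)) (hinn : ∀ k : K, MulAut.conj k ∈ A) :
    Cfsg.pPrimeCore p ↥(A ⊓ centralizer ({x} : Set (MulAut K))) ≠ ⊥ ↔
      Nat.Coprime p (Nat.card (Fix x)) := by
  rw [ne_eq, ← core_map_conj A α x, ← card_fix_conj α x]
  exact CG26.PSpLB.core_iff hZ hx hfix hnor _ (inn_le_map_conj A hinn α)

end Cfsg.Agent.LocalEven61.Balance
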