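import Cfsg.Prelude.Def_Amalgam

/-!
Basic facts on the coset graph of a pair of subgroups: adjacency, stabilizers, connectivity,
local transitivity, and the transitivity criterion for triviality of an edge subgroup.
-/

set_option autoImplicit false

namespace Cfsg.Agent.LocalEven61

open SimpleGraph MulAction

variable {X : Type*} [Group X] {M₁ M₂ : Subgroup X}

theorem cosetGraph_adj_inl_inr {a : X ⧸ M₁} {b : X ⧸ M₂} :
    (Cfsg.cosetGraph M₁ M₂).Adj (Sum.inl a) (Sum.inr b) ↔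
      ∃ x : X, a = (x : X ⧸ M₁) ∧ b = (x : X ⧸ M₂) := by
  simp [Cfsg.cosetGraph]

theorem not_cosetGraph_adj_inl_inl {a a' : X ⧸ M₁} :
    ¬ (Cfsg.cosetGraph M₁ M₂).Adj (Sum.inl a : Cfsg.CosetVertex M₁ M₂) (Sum.inl a') := by
  simp [Cfsg.cosetGraph]

theorem not_cosetGraph_adj_inr_inr {b b' : X ⧸ M₂} :
    ¬ (Cfsg.cosetGraph M₁ M₂).Adj (Sum.inr b : Cfsg.CosetVertex M₁ M₂) (Sum.inr b') := by
  simp [Cfsg.cosetGraph]

/-- An edge has a common representative. -/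
theorem cosetGraph_adj_cases {δ μ : Cfsg.CosetVertex M₁ M₂}
    (h : (Cfsg.cosetGraph M₁ M₂).Adj δ μ) :
    ∃ x : X, (δ = Sum.inl (x : X ⧸ M₁) ∧ μ = Sum.inr (x : X ⧸ M₂)) ∨
      (δ = Sum.inr (x : X ⧸ M₂) ∧ μ = Sum.inl (x : X ⧸ M₁)) := by
  rcases δ with a | a <;> rcases μ with b | b
  · exact absurd h not_cosetGraph_adj_inl_inl
  · obtain ⟨x, rfl, rfl⟩ := cosetGraph_adj_inl_inr.1 h
    exact ⟨x, Or.inl ⟨rfl, rfl⟩⟩
  · obtain ⟨x, rfl, rfl⟩ := cosetGraph_adj_inl_inr.1 h.symm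
    exact ⟨x, Or.inr ⟨rfl, rfl⟩⟩
  · exact absurd h not_cosetGraph_adj_inr_inr

theorem cosetGraph_adj_mk (x : X) :
    (Cfsg.cosetGraph M₁ M₂).Adj (Sum.inl (x : X ⧸ M₁)) (Sum.inr (x : X ⧸ M₂)) :=
  cosetGraph_adj_inl_inr.2 ⟨x, rfl, rfl⟩

theorem cosetGraph_adj_smul (g : X) {δ μ : Cfsg.CosetVertex M₁ M₂}
    (h : (Cfsg.cosetGraph M₁ M₂).Adj δ μ) : (Cfsg.cosetGraph M₁ M₂).Adj (g • δ) (g • μ) := by
  obtain ⟨x, (⟨rfl, rfl⟩ | ⟨rfl, rfl⟩)⟩ := cosetGraph_adj_cases h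
  · exact cosetGraph_adj_mk (g * x)
  · exact (cosetGraph_adj_mk (g * x)).symm

theorem exists_cosetGraph_adj (δ : Cfsg.CosetVertex M₁ M₂) :
    ∃ μ, (Cfsg.cosetGraph M₁ M₂).Adj δ μ := by
  rcases δ with a | a <;> induction a using QuotientGroup.induction_on with | H x => ?_
  · exact ⟨_, cosetGraph_adj_mk x⟩
  · exact ⟨_, (cosetGraph_adj_mk x).symm⟩

theorem cosetGraph_reachable_smul (g : X) {δ μ : Cfsg.CosetVertex M₁ M₂}
    (h : (Cfsg.cosetGraph M₁ M₂).Reachable δ μ) :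
    (Cfsg.cosetGraph M₁ M₂).Reachable (g • δ) (g • μ) :=
  h.map ⟨fun v => g • v, fun hv => cosetGraph_adj_smul g hv⟩

theorem stabilizer_coset (M : Subgroup X) (x : X) :
    MulAction.stabilizer X (x : X ⧸ M) = M.map (MulAut.conj x).toMonoidHom := by
  ext g
  rw [Subgroup.mem_map_equiv, MulAction.mem_stabilizer_iff, MulAction.Quotient.smul_coe,
    QuotientGroup.eq]
  simp only [MulAut.conj_symm_apply, smul_eq_mul, mul_inv_rev]
  rw [← inv_mem_iff]
  simp [mul_assoc]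

theorem stabilizer_inl (x : X) :
    MulAction.stabilizer X (Sum.inl (x : X ⧸ M₁) : Cfsg.CosetVertex M₁ M₂) =
      M₁.map (MulAut.conj x).toMonoidHom := by
  rw [← stabilizer_coset]
  ext g
  simp only [MulAction.mem_stabilizer_iff, Sum.smul_inl, Sum.inl.injEq]

theorem stabilizer_inr (x : X) :
    MulAction.stabilizer X (Sum.inr (x : X ⧸ M₂) : Cfsg.CosetVertex M₁ M₂) =
      M₂.map (MulAut.conj x).toMonoidHom := by
  rw [← stabilizer_coset]
  ext g
  simp only [MulAction.mem_stabilizer_iff, Sum.smul_inr, Sum.inr.injEq]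

theorem edgeStabilizer_mk (x : X) :
    Cfsg.edgeStabilizer (Sum.inl (x : X ⧸ M₁) : Cfsg.CosetVertex M₁ M₂) (Sum.inr (x : X ⧸ M₂)) =
      (M₁ ⊓ M₂).map (MulAut.conj x).toMonoidHom := by
  rw [Cfsg.edgeStabilizer, stabilizer_inl, stabilizer_inr,
    Subgroup.map_inf _ _ _ (MulAut.conj x).injective]

theorem cosetGraph_connected (hgen : M₁ ⊔ M₂ = ⊤) : (Cfsg.cosetGraph M₁ M₂).Connected := by
  set Γ := Cfsg.cosetGraph M₁ M₂
  have base : ∀ g : X, Γ.Reachable (Sum.inl ((1 : X) : X ⧸ M₁)) (Sum.inl (g : X ⧸ M₁)) := by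
    intro g
    have hg : g ∈ M₁ ⊔ M₂ := hgen ▸ Subgroup.mem_top g
    rw [← Subgroup.closure_eq M₁, ← Subgroup.closure_eq M₂, ← Subgroup.closure_union] at hg
    induction hg using Subgroup.closure_induction with
    | mem y hy =>
      rcases hy with hy | hy
      · have : ((1 : X) : X ⧸ M₁) = (y : X ⧸ M₁) := by simpa [QuotientGroup.eq] using hy
        rw [this]
      · have : ((1 : X) : X ⧸ M₂) = (y : X ⧸ M₂) := by simpa [QuotientGroup.eq] using hy
        refine (cosetGraph_adj_mk (M₁ := M₁) (M₂ := M₂) (1 : X)).reachable.trans ?_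
        rw [this]
        exact (cosetGraph_adj_mk y).symm.reachable
    | one => exact Reachable.refl _
    | mul a b _ _ ha hb =>
      refine ha.trans ?_
      have h := cosetGraph_reachable_smul a hb
      rw [Sum.smul_inl, Sum.smul_inl, MulAction.Quotient.smul_coe,
        MulAction.Quotient.smul_coe, smul_eq_mul, smul_eq_mul, mul_one] at h
      exact h
    | inv a _ ha =>
      have h := cosetGraph_reachable_smul a⁻¹ ha
      rw [Sum.smul_inl, Sum.smul_inl, MulAction.Quotient.smul_coe,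
        MulAction.Quotient.smul_coe, smul_eq_mul, smul_eq_mul, mul_one, inv_mul_cancel] at h
      exact h.symm
  have all : ∀ v, Γ.Reachable (Sum.inl ((1 : X) : X ⧸ M₁)) v := by
    rintro (a | a) <;> induction a using QuotientGroup.induction_on with | H g => ?_
    · exact base g
    · exact (base g).trans (cosetGraph_adj_mk g).reachable
  exact { preconnected := fun u v => (all u).symm.trans (all v),
          nonempty := ⟨Sum.inl ((1 : X) : X ⧸ M₁)⟩ }

theorem exists_smul_neighbour {δ μ μ' : Cfsg.CosetVertex M₁ M₂}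
    (hμ : (Cfsg.cosetGraph M₁ M₂).Adj δ μ) (hμ' : (Cfsg.cosetGraph M₁ M₂).Adj δ μ') :
    ∃ g ∈ MulAction.stabilizer X δ, g • μ = μ' := by
  have aux : ∀ {x y : X} (M : Subgroup X), (x : X ⧸ M) = (y : X ⧸ M) →
      y * x⁻¹ ∈ M.map (MulAut.conj x).toMonoidHom := by
    intro x y M h
    rw [QuotientGroup.eq] at h
    refine ⟨x⁻¹ * y, h, ?_⟩
    simp [mul_assoc]
  obtain ⟨x, hx⟩ := cosetGraph_adj_cases hμ
  obtain ⟨y, hy⟩ := cosetGraph_adj_cases hμ'
  refine ⟨y * x⁻¹, ?_, ?_⟩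
  · rcases hx with ⟨hd, -⟩ | ⟨hd, -⟩ <;> rcases hy with ⟨hd', -⟩ | ⟨hd', -⟩
    · rw [hd, stabilizer_inl]; exact aux M₁ (Sum.inl.inj (hd.symm.trans hd'))
    · exact absurd (hd.symm.trans hd') (by simp)
    · exact absurd (hd.symm.trans hd') (by simp)
    · rw [hd, stabilizer_inr]; exact aux M₂ (Sum.inr.inj (hd.symm.trans hd'))
  · rcases hx with ⟨hd, hm⟩ | ⟨hd, hm⟩ <;> rcases hy with ⟨hd', hm'⟩ | ⟨hd', hm'⟩
    · rw [hm, hm']; simp [MulAction.Quotient.smul_coe]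
    · exact absurd (hd.symm.trans hd') (by simp)
    · exact absurd (hd.symm.trans hd') (by simp)
    · rw [hm, hm']; simp [MulAction.Quotient.smul_coe]

/-- A subgroup fixing an edge whose normalizer is locally transitive at both ends fixes everything. -/
theorem edge_subgroup_fixes_all (hgen : M₁ ⊔ M₂ = ⊤) {δ μ : Cfsg.CosetVertex M₁ M₂}
    (hμ : (Cfsg.cosetGraph M₁ M₂).Adj δ μ) (T : Subgroup X) (hT : T ≤ Cfsg.edgeStabilizer δ μ)
    (hδ : ∀ ν ν', (Cfsg.cosetGraph M₁ M₂).Adj δ ν → (Cfsg.cosetGraph M₁ M₂).Adj δ ν' →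
      ∃ g ∈ Subgroup.normalizer (T : Set X) ⊓ MulAction.stabilizer X δ, g • ν = ν')
    (hμ' : ∀ ν ν', (Cfsg.cosetGraph M₁ M₂).Adj μ ν → (Cfsg.cosetGraph M₁ M₂).Adj μ ν' →
      ∃ g ∈ Subgroup.normalizer (T : Set X) ⊓ MulAction.stabilizer X μ, g • ν = ν') :
    ∀ v : Cfsg.CosetVertex M₁ M₂, T ≤ MulAction.stabilizer X v := by
  set H := Subgroup.normalizer (T : Set X) with hH
  have key : ∀ v, ∃ h ∈ H, v = h • δ ∨ v = h • μ := by
    intro v
    obtain ⟨w⟩ := (cosetGraph_connected hgen) δ v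
    suffices hs : ∀ {a b} (_ : (Cfsg.cosetGraph M₁ M₂).Walk a b),
        (∃ h ∈ H, a = h • δ ∨ a = h • μ) → ∃ h ∈ H, b = h • δ ∨ b = h • μ from
      hs w ⟨1, H.one_mem, Or.inl (one_smul X δ).symm⟩
    intro a b w
    induction w with
    | nil => exact id
    | @cons a c b hac _ ih =>
      rintro ⟨h, hh, rfl | rfl⟩
      all_goals
        have hc := cosetGraph_adj_smul h⁻¹ hac
        rw [inv_smul_smul] at hc
        apply ih
      · obtain ⟨k, hk, hkk⟩ := hδ μ (h⁻¹ • c) hμ hc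
        exact ⟨h * k, H.mul_mem hh hk.1, Or.inr (by rw [mul_smul, hkk, smul_inv_smul])⟩
      · obtain ⟨k, hk, hkk⟩ := hμ' δ (h⁻¹ • c) hμ.symm hc
        exact ⟨h * k, H.mul_mem hh hk.1, Or.inl (by rw [mul_smul, hkk, smul_inv_smul])⟩
  intro v t ht
  obtain ⟨h, hh, hv⟩ := key v
  have ht' : h⁻¹ * t * h ∈ T := by
    have := (Subgroup.mem_normalizer_iff.1 (H.inv_mem hh) t).1 ht
    simpa using this
  have h1 := hT ht'
  rw [Subgroup.mem_inf, MulAction.mem_stabilizer_iff, MulAction.mem_stabilizer_iff] at h1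
  rw [MulAction.mem_stabilizer_iff]
  rcases hv with rfl | rfl
  · have := congrArg (fun z => h • z) h1.1
    simpa [smul_smul, mul_assoc] using this
  · have := congrArg (fun z => h • z) h1.2
    simpa [smul_smul, mul_assoc] using this

/-- The kernel of the action on the coset graph meets the faithfulness hypothesis. -/
theorem eq_bot_of_fixes_all (h : ∀ N : Subgroup X, N ≤ M₁ ⊓ M₂ → N.Normal → N = ⊥)
    (T : Subgroup X) (hT : ∀ v : Cfsg.CosetVertex M₁ M₂, T ≤ MulAction.stabilizer X v) :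
    T = ⊥ := by
  have hle : (⨅ v : Cfsg.CosetVertex M₁ M₂, MulAction.stabilizer X v) = ⊥ := by
    refine h _ (le_inf ?_ ?_) ⟨fun n hn g => ?_⟩
    · refine (iInf_le _ (Sum.inl ((1 : X) : X ⧸ M₁))).trans ?_
      rw [stabilizer_inl]
      simp [SetLike.le_def]
    · refine (iInf_le _ (Sum.inr ((1 : X) : X ⧸ M₂))).trans ?_
      rw [stabilizer_inr]
      simp [SetLike.le_def]
    · simp only [Subgroup.mem_iInf, MulAction.mem_stabilizer_iff] at hn ⊢
      intro v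
      rw [mul_smul, mul_smul, hn, smul_inv_smul]
  exact le_bot_iff.1 (hle ▸ le_iInf hT)

theorem eq_bot_of_locally_transitive (h : Cfsg.IsAmalgamPair M₁ M₂)
    {δ μ : Cfsg.CosetVertex M₁ M₂}
    (hμ : (Cfsg.cosetGraph M₁ M₂).Adj δ μ) (T : Subgroup X) (hT : T ≤ Cfsg.edgeStabilizer δ μ)
    (hδ : ∀ ν ν', (Cfsg.cosetGraph M₁ M₂).Adj δ ν → (Cfsg.cosetGraph M₁ M₂).Adj δ ν' →
      ∃ g ∈ Subgroup.normalizer (T : Set X) ⊓ MulAction.stabilizer X δ, g • ν = ν')
    (hμ' : ∀ ν ν', (Cfsg.cosetGraph M₁ M₂).Adj μ ν → (Cfsg.cosetGraph M₁ M₂).Adj μ ν' →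
      ∃ g ∈ Subgroup.normalizer (T : Set X) ⊓ MulAction.stabilizer X μ, g • ν = ν') :
    T = ⊥ :=
  eq_bot_of_fixes_all h.2.2.2 T (edge_subgroup_fixes_all h.1 hμ T hT hδ hμ')

end Cfsg.Agent.LocalEven61
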