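import Cfsg.Agent.LocalEven61.Involves
import Cfsg.Agent.LocalEven61.Conj
import Cfsg.Agent.Lib.Involution.Dihedral

/-!
Involving a dihedral group of order `2p`.
-/

set_option autoImplicit false
set_option linter.style.haveILetI false

namespace Cfsg.Agent.LocalEven61

variable {G : Type*} [Group G] [Finite G] {p : ℕ}

/-- An element with `2`-part: some odd power is a `2`-element. -/
theorem exists_pow_two_element (n : G) : ∃ m : ℕ, Odd m ∧ ∃ k : ℕ, orderOf (n ^ m) = 2 ^ k := by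
  have h0 : orderOf n ≠ 0 := (orderOf_pos n).ne'
  refine ⟨orderOf n / 2 ^ (orderOf n).factorization 2, ?_, (orderOf n).factorization 2, ?_⟩
  · exact Nat.odd_iff.2 (Nat.two_dvd_ne_zero.1 (Nat.not_dvd_ordCompl Nat.prime_two h0))
  · have hd : 2 ^ (orderOf n).factorization 2 ∣ orderOf n := Nat.ordProj_dvd _ _
    rw [orderOf_pow' _ (Nat.ordCompl_pos 2 h0).ne', Nat.gcd_eq_right (Nat.ordCompl_dvd _ _),
      Nat.div_div_self hd h0]

theorem pow_odd_of_sq {M : Type*} [Group M] {s : M} (hs : s ^ 2 = 1) {m : ℕ} (hm : Odd m) :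
    s ^ m = s := by
  obtain ⟨k, rfl⟩ := hm
  rw [pow_succ, pow_mul, hs, one_pow, one_mul]

/-- A `2`-element normalizing but not centralizing a `p`-subgroup has a power inverting one of its
nonidentity elements. -/
theorem exists_inverted [hp : Fact p.Prime] {x : G} {P : Subgroup G} (hx : ∃ k : ℕ, orderOf x = 2 ^ k)
    (hP : IsPGroup p ↥P) (hN : x ∈ Subgroup.normalizer (P : Set G))
    (hC : x ∉ Subgroup.centralizer (P : Set G)) :
    ∃ x' y : G, (∃ k : ℕ, orderOf x' = 2 ^ k) ∧ (∃ k : ℕ, orderOf y = p ^ k) ∧ y ≠ 1 ∧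
      x' * y * x'⁻¹ = y⁻¹ := by
  classical
  obtain ⟨k, hk⟩ := hx
  have hex : ∃ i, x ^ 2 ^ i ∈ Subgroup.centralizer (P : Set G) :=
    ⟨k, by rw [← hk, pow_orderOf_eq_one]; exact one_mem _⟩
  obtain ⟨i, hi⟩ := Nat.exists_eq_succ_of_ne_zero (n := Nat.find hex) fun h0 =>
    hC (by simpa [h0] using Nat.find_spec hex)
  set t := x ^ 2 ^ i with ht
  have ht1 : t ∉ Subgroup.centralizer (P : Set G) := Nat.find_min hex (by omega)
  have ht2 : t * t ∈ Subgroup.centralizer (P : Set G) := by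
    have := Nat.find_spec hex
    rwa [hi, pow_succ, pow_mul, ← ht, pow_two] at this
  have htN : t ∈ Subgroup.normalizer (P : Set G) := pow_mem hN _
  obtain ⟨a, ha, hta⟩ : ∃ a ∈ P, t * a * t⁻¹ ≠ a := by
    by_contra! hall
    exact ht1 (Subgroup.mem_centralizer_iff.2 fun a ha => (mul_inv_eq_iff_eq_mul.1 (hall a ha)).symm)
  set y := a⁻¹ * (t * a * t⁻¹) with hy
  have hyP : y ∈ P := P.mul_mem (P.inv_mem ha) ((Subgroup.mem_normalizer_iff.1 htN a).1 ha)
  refine ⟨t, y, ?_, ?_, fun h0 => hta (inv_mul_eq_one.1 h0).symm, ?_⟩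
  · have hd : orderOf t ∣ 2 ^ k := hk ▸ orderOf_pow_dvd _
    obtain ⟨j, -, hj⟩ := (Nat.dvd_prime_pow Nat.prime_two).1 hd
    exact ⟨j, hj⟩
  · obtain ⟨j, hj⟩ := IsPGroup.iff_orderOf.1 hP ⟨y, hyP⟩
    exact ⟨j, by rw [← hj]; exact (Subgroup.orderOf_coe (⟨y, hyP⟩ : ↥P))⟩
  · have h2 : (t * t) * a * (t * t)⁻¹ = a := by
      rw [mul_inv_eq_iff_eq_mul]; exact (Subgroup.mem_centralizer_iff.1 ht2 a ha).symm
    calc t * y * t⁻¹ = (t * a * t⁻¹)⁻¹ * ((t * t) * a * (t * t)⁻¹) := by rw [hy]; group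
      _ = y⁻¹ := by rw [h2, hy]; group

theorem ne_inv_of_pow [hp : Fact p.Prime] (hp2 : p ≠ 2) {y : G} (hy : ∃ k : ℕ, orderOf y = p ^ k)
    (h1 : y ≠ 1) : y⁻¹ ≠ y := by
  intro h
  obtain ⟨k, hk⟩ := hy
  have h2 : orderOf y ∣ 2 := orderOf_dvd_of_pow_eq_one (by
    rw [pow_two]
    conv_lhs => rw [← h]
    conv_lhs => arg 2; rw [h]
    exact inv_mul_cancel y)
  rcases Nat.eq_zero_or_pos k with rfl | hk0
  · exact h1 (orderOf_eq_one_iff.1 (by simpa using hk))
  · have : p ∣ 2 := ((dvd_pow_self p hk0.ne').trans hk.symm.dvd).trans h2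
    exact hp2 ((Nat.prime_dvd_prime_iff_eq hp.out Nat.prime_two).1 this)

theorem involves_dihedral_of_inverts [hp : Fact p.Prime] (hp2 : p ≠ 2) {x y : G}
    (hx : ∃ k : ℕ, orderOf x = 2 ^ k) (hy : ∃ k : ℕ, orderOf y = p ^ k) (hy1 : y ≠ 1)
    (h : x * y * x⁻¹ = y⁻¹) : Cfsg.Involves (DihedralGroup p) G := by
  classical
  obtain ⟨k, hk⟩ := hy
  obtain ⟨k, rfl⟩ := Nat.exists_eq_succ_of_ne_zero (n := k) fun h0 =>
    hy1 (orderOf_eq_one_iff.1 (by simp [hk, h0]))
  set z := y ^ p ^ k with hz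
  have hzo : orderOf z = p := by
    rw [hz, orderOf_pow' _ (pow_ne_zero _ hp.out.ne_zero), hk,
      Nat.gcd_eq_right (pow_dvd_pow p (Nat.le_succ k)), Nat.pow_div (Nat.le_succ k) hp.out.pos]
    simp
  have hzi : x * z * x⁻¹ = z⁻¹ := by rw [hz, ← conj_pow, h, inv_pow]
  have hz1 : z ≠ 1 := fun h0 => hp.out.one_lt.ne (by rw [← hzo, h0, orderOf_one])
  set K := Subgroup.closure ({x, z} : Set G) with hK
  let X : ↥K := ⟨x, Subgroup.subset_closure (by simp)⟩
  let Z : ↥K := ⟨z, Subgroup.subset_closure (by simp)⟩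
  have hZ : X * Z * X⁻¹ = Z⁻¹ := Subtype.ext hzi
  set R := Subgroup.zpowers (X * X) with hR
  have hcomm : ∀ c : ↥K, Commute (X * X) c := by
    intro c
    have hc : K ≤ Subgroup.centralizer ({x * x} : Set G) := by
      rw [hK, Subgroup.closure_le]
      rintro _ (rfl | rfl) <;> refine Subgroup.mem_centralizer_iff.2 ?_ <;>
        rintro _ rfl
      · exact mul_assoc _ _ _
      · calc x * x * z = x * (x * z * x⁻¹) * x := by group
          _ = x * z⁻¹ * x⁻¹ * (x * x) := by rw [hzi]; group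
          _ = z * (x * x) := by rw [← conj_inv, hzi, inv_inv]
    exact Subtype.ext (Subgroup.mem_centralizer_iff.1 (hc c.2) _ rfl)
  haveI : R.Normal := ⟨fun a ha g => by
    obtain ⟨j, rfl⟩ := Subgroup.mem_zpowers_iff.1 ha
    rw [((hcomm g).symm.zpow_right j).eq, mul_inv_cancel_right]
    exact zpow_mem (Subgroup.mem_zpowers _) j⟩
  let π := QuotientGroup.mk' R
  have hX2 : π X * π X = 1 := by
    rw [← map_mul]; exact (QuotientGroup.eq_one_iff _).2 (Subgroup.mem_zpowers _)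
  have hZp : π Z ^ p = 1 := by
    rw [← map_pow, show Z ^ p = 1 from Subtype.ext (orderOf_dvd_iff_pow_eq_one.1 hzo.dvd), map_one]
  have hXZ : π X * π Z * (π X)⁻¹ = (π Z)⁻¹ := by
    rw [← map_inv, ← map_mul, ← map_mul, hZ, map_inv]
  let f : DihedralGroup p →* ↥K ⧸ R :=
    Involution.dihedralHom (π X) (π Z) hX2 hZp hXZ
  have hZc : ¬ (π Z)⁻¹ = π Z := fun h0 => by
    have hmem : Z * Z ∈ R := by
      refine (QuotientGroup.eq_one_iff _).1 ?_
      show π (Z * Z) = 1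
      rw [map_mul]
      conv_lhs => arg 1; rw [← h0]
      exact inv_mul_cancel _
    obtain ⟨j, hj⟩ := Subgroup.mem_zpowers_iff.1 hmem
    have hc1 : X * (Z * Z) * X⁻¹ = Z * Z := by
      rw [← hj, ((Commute.refl X).mul_right (Commute.refl X)).zpow_right j |>.eq,
        mul_inv_cancel_right]
    have hc2 : X * (Z * Z) * X⁻¹ = (Z * Z)⁻¹ := by
      rw [show X * (Z * Z) * X⁻¹ = (X * Z * X⁻¹) * (X * Z * X⁻¹) from by group, hZ, mul_inv_rev]
    have hd : orderOf (z * z) ∣ p ^ 1 := orderOf_dvd_of_pow_eq_one (by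
      rw [pow_one, ← pow_two, ← pow_mul, mul_comm, pow_mul,
        orderOf_dvd_iff_pow_eq_one.1 hzo.dvd, one_pow])
    obtain ⟨i, -, hi⟩ := (Nat.dvd_prime_pow hp.out).1 hd
    refine ne_inv_of_pow hp2 ⟨i, hi⟩ ?_ (congrArg Subtype.val (hc2.symm.trans hc1))
    intro h0
    exact ne_inv_of_pow hp2 ⟨1, by rw [hzo, pow_one]⟩ hz1 (inv_eq_of_mul_eq_one_left h0)
  have hinj : Function.Injective f := by
    rw [injective_iff_map_eq_one]
    rintro (i | i) hi
    · rw [Involution.dihedralHom_r, ← orderOf_dvd_iff_zpow_eq_one] at hi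
      have ho : orderOf (π Z) = p := orderOf_eq_prime hZp fun h0 => hZc (by rw [h0, inv_one])
      rw [ho] at hi
      have : ((ZMod.cast i : ℤ) : ZMod p) = 0 := (ZMod.intCast_zmod_eq_zero_iff_dvd _ _).mpr hi
      rw [ZMod.intCast_zmod_cast] at this
      rw [this, DihedralGroup.r_zero]
    · exfalso
      rw [Involution.dihedralHom_sr, mul_eq_one_iff_eq_inv, ← zpow_neg] at hi
      refine hZc ?_
      rw [← hXZ, hi, ((Commute.refl (π Z)).zpow_left _).eq, mul_inv_cancel_right]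
  have hsurj : Function.Surjective f := by
    intro q
    induction q using QuotientGroup.induction_on with | H c => ?_
    have hle : K ≤ (f.range.comap π).map K.subtype := by
      refine hK.le.trans ((Subgroup.closure_le _).2 ?_)
      rintro _ (rfl | rfl)
      · exact ⟨X, ⟨.sr 0, by simp [f, Involution.dihedralHom_sr]⟩, rfl⟩
      · refine ⟨Z, ⟨.r ((1 : ℤ) : ZMod p), ?_⟩, rfl⟩
        rw [Involution.dihedralHom_r]
        have : π Z ^ ((ZMod.cast ((1 : ℤ) : ZMod p) : ℤ)) = π Z ^ (1 : ℤ) := by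
          rw [zpow_eq_zpow_iff_modEq]
          have hd : orderOf (π Z) ∣ p := orderOf_dvd_of_pow_eq_one hZp
          refine (Int.ModEq.of_dvd (Int.natCast_dvd_natCast.2 hd) ?_)
          rw [← ZMod.intCast_eq_intCast_iff, ZMod.intCast_zmod_cast]
        rw [this, zpow_one]
    obtain ⟨c', hc', hcc⟩ := hle c.2
    obtain rfl : c' = c := Subtype.ext hcc
    exact hc'
  exact involves_of_subgroup K (involves_congr (MulEquiv.ofBijective f ⟨hinj, hsurj⟩).symm
    (involves_quotient R))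

theorem exists_normalizing_of_involves [hp : Fact p.Prime] (hp2 : p ≠ 2)
    (h : Cfsg.Involves (DihedralGroup p) G) :
    ∃ (x : G) (P : Subgroup G), (∃ k : ℕ, orderOf x = 2 ^ k) ∧ IsPGroup p ↥P ∧
      x ∈ Subgroup.normalizer (P : Set G) ∧ x ∉ Subgroup.centralizer (P : Set G) := by
  obtain ⟨K, f, hf⟩ := exists_surjective_of_involves h
  set Rot := Subgroup.zpowers (DihedralGroup.r 1 : DihedralGroup p) with hRot
  set N := Rot.comap f with hN
  haveI : NeZero p := ⟨hp.out.ne_zero⟩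
  have hrot : ∀ a : ZMod p, DihedralGroup.r a ∈ Rot := fun a =>
    Subgroup.mem_zpowers_iff.2 ⟨(ZMod.cast a : ℤ), by
      rw [DihedralGroup.r_one_zpow, ZMod.intCast_zmod_cast]⟩
  haveI hRn : Rot.Normal := ⟨fun a ha g => by
    obtain ⟨j, rfl⟩ := Subgroup.mem_zpowers_iff.1 ha
    rw [DihedralGroup.r_one_zpow]
    rcases g with i | i <;>
      simp only [DihedralGroup.inv_r, DihedralGroup.inv_sr, DihedralGroup.r_mul_r,
        DihedralGroup.sr_mul_r, DihedralGroup.sr_mul_sr] <;>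
      exact hrot _⟩
  obtain ⟨P⟩ := (inferInstance : Nonempty (Sylow p ↥N))
  have hfr := Sylow.normalizer_sup_eq_top P
  set PK := (P : Subgroup ↥N).map N.subtype with hPK
  have hnot : ¬ Subgroup.normalizer (PK : Set ↥K) ≤ N := by
    intro hle
    rw [sup_eq_right.2 hle] at hfr
    obtain ⟨c, hc⟩ := hf (DihedralGroup.sr 0)
    have : f c ∈ Rot := (hfr.ge (Subgroup.mem_top c) : c ∈ N)
    rw [hc, Subgroup.mem_zpowers_iff] at this
    obtain ⟨j, hj⟩ := this
    rw [DihedralGroup.r_one_zpow] at hj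
    cases hj
  obtain ⟨n, hn, hnN⟩ := SetLike.not_le_iff_exists.1 hnot
  obtain ⟨i, hi⟩ : ∃ i, f n = DihedralGroup.sr i := by
    rcases hfn : f n with i | i
    · refine absurd ?_ hnN
      show f n ∈ Rot
      rw [hfn]
      exact Subgroup.mem_zpowers_iff.2 ⟨(ZMod.cast i : ℤ),
        by rw [DihedralGroup.r_one_zpow, ZMod.intCast_zmod_cast]⟩
    · exact ⟨i, rfl⟩
  obtain ⟨m, hm, k, hk⟩ := exists_pow_two_element n
  -- the image of `P` is the rotation group
  obtain ⟨v, hv, hvr⟩ : ∃ v ∈ PK, f v = DihedralGroup.r 1 := by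
    let g : ↥N →* ↥Rot := f.subgroupComap Rot
    have hg : Function.Surjective g := fun a => by
      obtain ⟨c, hc⟩ := hf (a : DihedralGroup p)
      exact ⟨⟨c, show f c ∈ Rot from hc ▸ a.2⟩, Subtype.ext hc⟩
    have hRp : IsPGroup p ↥Rot :=
      IsPGroup.of_card (n := 1) (by rw [pow_one, hRot, Nat.card_zpowers, DihedralGroup.orderOf_r_one])
    have htop : ((P.mapSurjective hg : Sylow p ↥Rot) : Subgroup ↥Rot) = ⊤ :=
      ((P.mapSurjective hg).is_maximal' (hRp.to_subgroup ⊤) le_top).symm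
    obtain ⟨w, hw, hwr⟩ : (⟨_, Subgroup.mem_zpowers _⟩ : ↥Rot) ∈
        ((P.mapSurjective hg : Sylow p ↥Rot) : Subgroup ↥Rot) := by
      rw [htop]; exact Subgroup.mem_top _
    exact ⟨(w : ↥K), ⟨w, hw, rfl⟩, congrArg Subtype.val hwr⟩
  refine ⟨((n ^ m : ↥K) : G), PK.map K.subtype, ⟨k, (Subgroup.orderOf_coe _).trans hk⟩,
    (P.isPGroup'.map _).map _, ?_, ?_⟩
  · exact Subgroup.le_normalizer_map K.subtype ⟨n ^ m, pow_mem hn m, rfl⟩
  · intro hc
    have h1 := Subgroup.mem_centralizer_iff.1 hc v ⟨v, hv, rfl⟩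
    have h2 : v * n ^ m = n ^ m * v := Subtype.ext h1
    have h3 := congrArg f h2
    rw [map_mul, map_mul, map_pow, hi, hvr,
      pow_odd_of_sq (by rw [pow_two, DihedralGroup.sr_mul_self]) hm] at h3
    rw [DihedralGroup.r_mul_sr, DihedralGroup.sr_mul_r] at h3
    have h4 : i - 1 = i + 1 := by simpa using h3
    have h5 : ((2 : ℕ) : ZMod p) = 0 := by push_cast; linear_combination -h4
    rw [ZMod.natCast_eq_zero_iff] at h5
    exact hp2 ((Nat.prime_dvd_prime_iff_eq hp.out Nat.prime_two).1 h5)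

theorem involves_dihedral_iff [hp : Fact p.Prime] (hp2 : p ≠ 2) :
    Cfsg.Involves (DihedralGroup p) G ↔
      ∃ x y : G, (∃ k : ℕ, orderOf x = 2 ^ k) ∧ (∃ k : ℕ, orderOf y = p ^ k) ∧ y ≠ 1 ∧
        x * y * x⁻¹ = y⁻¹ := by
  constructor
  · intro h
    obtain ⟨x, P, hx, hP, hN, hC⟩ := exists_normalizing_of_involves hp2 h
    exact exists_inverted hx hP hN hC
  · rintro ⟨x, y, hx, hy, hy1, h⟩
    exact involves_dihedral_of_inverts hp2 hx hy hy1 h

end Cfsg.Agent.LocalEven61
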