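import Cfsg.Agent.AutPSL.Basic
import Cfsg.Agent.AutPSL.FiniteField

/-!
Reflections and transvections of hermitian, symmetric and alternating forms in odd characteristic:
a group of similitudes normalised by all isometries, each element having an odd power scalar,
consists of scalars; semilinear maps commuting with half-turns or transvections are scalar.
-/

set_option autoImplicit false

namespace Cfsg.Agent.LocalEven61.FormGeom

open Matrix Cfsg.Agent.AutPSL

universe u v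

variable {n : ℕ} {F : Type u} [Field F]

/-- The form `xᵀ H τ(y)`. -/
def bf (H : Matrix (Fin n) (Fin n) F) (τ : F ≃+* F) (x y : Fin n → F) : F :=
  x ⬝ᵥ (H *ᵥ (⇑τ ∘ y))

variable {H : Matrix (Fin n) (Fin n) F} {τ : F ≃+* F}

theorem bf_add_left (x x' y : Fin n → F) : bf H τ (x + x') y = bf H τ x y + bf H τ x' y :=
  add_dotProduct _ _ _

theorem bf_sub_left (x x' y : Fin n → F) : bf H τ (x - x') y = bf H τ x y - bf H τ x' y :=
  sub_dotProduct _ _ _

theorem bf_smul_left (c : F) (x y : Fin n → F) : bf H τ (c • x) y = c * bf H τ x y := by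
  rw [bf, smul_dotProduct, smul_eq_mul]; rfl

theorem bf_add_right (x y y' : Fin n → F) : bf H τ x (y + y') = bf H τ x y + bf H τ x y' := by
  have h : ⇑τ ∘ (y + y') = ⇑τ ∘ y + ⇑τ ∘ y' := funext fun i => map_add τ _ _
  rw [bf, h, mulVec_add, dotProduct_add]; rfl

theorem bf_smul_right (c : F) (x y : Fin n → F) : bf H τ x (c • y) = τ c * bf H τ x y := by
  have h : ⇑τ ∘ (c • y) = τ c • (⇑τ ∘ y) := funext fun i => map_mul τ _ _
  rw [bf, h, mulVec_smul, dotProduct_smul, smul_eq_mul]; rfl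

theorem bf_sub_right (x y y' : Fin n → F) : bf H τ x (y - y') = bf H τ x y - bf H τ x y' := by
  rw [eq_sub_iff_add_eq, ← bf_add_right, sub_add_cancel]

theorem bf_zero_left (y : Fin n → F) : bf H τ 0 y = 0 := zero_dotProduct _

theorem bf_swap (hH : (H.map τ)ᵀ = H) (hτ : ∀ a, τ (τ a) = a) (x y : Fin n → F) :
    bf H τ y x = τ (bf H τ x y) := by
  have h1 : ∀ i j, τ (H i j) = H j i := fun i j => congrFun (congrFun hH j) i
  simp only [bf, dotProduct, mulVec, Function.comp_apply, map_sum, map_mul, Finset.mul_sum]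
  rw [Finset.sum_comm]
  refine Finset.sum_congr rfl fun i _ => Finset.sum_congr rfl fun j _ => ?_
  rw [h1, hτ]; ring

theorem bf_alt (hH : Hᵀ = -H) (x y : Fin n → F) :
    bf H (1 : F ≃+* F) y x = -bf H (1 : F ≃+* F) x y := by
  have h1 : ∀ i j, H i j = -H j i := fun i j => congrFun (congrFun hH j) i
  simp only [bf, dotProduct, mulVec, Function.comp_apply, RingAut.one_apply, Finset.mul_sum,
    ← Finset.sum_neg_distrib]
  rw [Finset.sum_comm]
  refine Finset.sum_congr rfl fun i _ => Finset.sum_congr rfl fun j _ => ?_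
  rw [h1 j i]; ring

/-- Nondegeneracy, on the left. -/
theorem exists_bf_eq (hdet : IsUnit H.det) {y : Fin n → F} (hy : y ≠ 0) (c : F) :
    ∃ x, bf H τ x y = c := by
  have hz : H *ᵥ (⇑τ ∘ y) ≠ 0 := by
    intro h
    refine hy (funext fun i => τ.injective ?_)
    rw [Pi.zero_apply, map_zero]
    exact congrFun (Matrix.mulVec_injective_iff_isUnit.mpr ((isUnit_iff_isUnit_det H).mpr hdet)
      (h.trans (mulVec_zero H).symm)) i
  obtain ⟨i, hi⟩ : ∃ i, (H *ᵥ (⇑τ ∘ y)) i ≠ 0 := Function.ne_iff.1 hz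
  refine ⟨Pi.single i (c / (H *ᵥ (⇑τ ∘ y)) i), ?_⟩
  rw [bf, single_dotProduct, div_mul_cancel₀ _ hi]

theorem eq_zero_of_bf (hdet : IsUnit H.det) {y : Fin n → F} (h : ∀ x, bf H τ x y = 0) : y = 0 := by
  by_contra hy
  obtain ⟨x, hx⟩ := exists_bf_eq (τ := τ) hdet hy 1
  exact one_ne_zero (hx.symm.trans (h x))

/-- The functional `x ↦ B(x, y)`. -/
def bfL (H : Matrix (Fin n) (Fin n) F) (τ : F ≃+* F) (y : Fin n → F) : (Fin n → F) →ₗ[F] F where
  toFun x := bf H τ x y
  map_add' x x' := bf_add_left x x' y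
  map_smul' c x := bf_smul_left c x y

theorem exists_ne_zero_orth_two (hn : 3 ≤ n) (v u : Fin n → F) :
    ∃ w : Fin n → F, w ≠ 0 ∧ bf H τ w v = 0 ∧ bf H τ w u = 0 := by
  have h : ((bfL H τ v).prod (bfL H τ u)).ker ≠ ⊥ :=
    LinearMap.ker_ne_bot_of_finrank_lt (by
      rw [Module.finrank_prod, Module.finrank_self, Module.finrank_fin_fun]; omega)
  obtain ⟨w, hw, hw0⟩ := Submodule.exists_mem_ne_zero_of_ne_bot h
  rw [LinearMap.mem_ker, LinearMap.prod_apply, Function.prod_apply, Prod.mk_eq_zero] at hw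
  exact ⟨w, hw0, hw.1, hw.2⟩

/-- Similitudes. -/
def IsSimil (H : Matrix (Fin n) (Fin n) F) (τ : F ≃+* F) (g : GL (Fin n) F) (μ : F) : Prop :=
  ∀ x y, bf H τ ((g : Matrix (Fin n) (Fin n) F) *ᵥ x) ((g : Matrix (Fin n) (Fin n) F) *ᵥ y) =
    μ * bf H τ x y

theorem isSimil_of_mat {g : GL (Fin n) F} {μ : F}
    (h : (g : Matrix (Fin n) (Fin n) F)ᵀ * H * (g : Matrix (Fin n) (Fin n) F).map τ = μ • H) :
    IsSimil H τ g μ := by
  intro x y
  have hc : ⇑τ ∘ ((g : Matrix (Fin n) (Fin n) F) *ᵥ y) =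
      (g : Matrix (Fin n) (Fin n) F).map τ *ᵥ (⇑τ ∘ y) :=
    funext fun i => RingHom.map_mulVec (τ : F →+* F) _ y i
  rw [bf, hc, mulVec_mulVec, dotProduct_comm, dotProduct_mulVec, ← mulVec_transpose,
    mulVec_mulVec, dotProduct_comm]
  have hg : (g : Matrix (Fin n) (Fin n) F)ᵀ * (H * (g : Matrix (Fin n) (Fin n) F).map τ) = μ • H := by
    rw [← Matrix.mul_assoc, h]
  rw [hg, smul_mulVec, dotProduct_smul]; rfl

theorem mat_of_isSimil {g : GL (Fin n) F} {μ : F} (h : IsSimil H τ g μ) :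
    (g : Matrix (Fin n) (Fin n) F)ᵀ * H * (g : Matrix (Fin n) (Fin n) F).map τ = μ • H := by
  ext i j
  have := h (Pi.single i 1) (Pi.single j 1)
  have e1 : ⇑τ ∘ ((g : Matrix (Fin n) (Fin n) F) *ᵥ Pi.single j 1) =
      (g : Matrix (Fin n) (Fin n) F).map τ *ᵥ Pi.single j 1 := by
    funext k; simp
  have e2 : ⇑τ ∘ (Pi.single j (1 : F) : Fin n → F) = Pi.single j 1 := by
    funext k; by_cases hk : k = j <;> simp [hk]
  rw [bf, bf, e1, e2, single_dotProduct, one_mul] at this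
  rw [Matrix.smul_apply, smul_eq_mul, Matrix.mul_assoc]
  rw [mulVec_single_one, mulVec_single_one, mulVec_single_one] at this
  refine Eq.trans ?_ this
  simp [Matrix.mul_apply, dotProduct, mulVec]

theorem mulVec_ne_zero (g : GL (Fin n) F) {x : Fin n → F} (hx : x ≠ 0) :
    (g : Matrix (Fin n) (Fin n) F) *ᵥ x ≠ 0 := fun h =>
  hx (Matrix.mulVec_injective_iff_isUnit.mpr g.isUnit (h.trans (mulVec_zero _).symm))

theorem inv_mulVec (g : GL (Fin n) F) (x : Fin n → F) :
    (g : Matrix (Fin n) (Fin n) F) *ᵥ ((↑g⁻¹ : Matrix (Fin n) (Fin n) F) *ᵥ x) = x := by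
  rw [mulVec_mulVec, ← Units.val_mul, mul_inv_cancel, Units.val_one, one_mulVec]

theorem inv_mulVec' (g : GL (Fin n) F) (x : Fin n → F) :
    (↑g⁻¹ : Matrix (Fin n) (Fin n) F) *ᵥ ((g : Matrix (Fin n) (Fin n) F) *ᵥ x) = x := by
  rw [mulVec_mulVec, ← Units.val_mul, inv_mul_cancel, Units.val_one, one_mulVec]

theorem IsSimil.ne_zero (hdet : IsUnit H.det) [NeZero n] {g : GL (Fin n) F} {μ : F}
    (h : IsSimil H τ g μ) : μ ≠ 0 := by
  intro h0
  have hy : (g : Matrix (Fin n) (Fin n) F) *ᵥ Pi.single 0 1 ≠ 0 :=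
    mulVec_ne_zero g (by simp)
  obtain ⟨x, hx⟩ := exists_bf_eq (τ := τ) hdet hy 1
  rw [← inv_mulVec g x, h, h0, zero_mul] at hx
  exact zero_ne_one hx

theorem IsSimil.mul {g h : GL (Fin n) F} {μ ν : F} (hg : IsSimil H τ g μ) (hh : IsSimil H τ h ν) :
    IsSimil H τ (g * h) (μ * ν) := by
  intro x y
  rw [Units.val_mul, ← mulVec_mulVec, ← mulVec_mulVec, hg, hh, mul_assoc]

theorem IsSimil.inv (hdet : IsUnit H.det) [NeZero n] {g : GL (Fin n) F} {μ : F}
    (hg : IsSimil H τ g μ) : IsSimil H τ g⁻¹ μ⁻¹ := by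
  intro x y
  conv_rhs => rw [← inv_mulVec g x, ← inv_mulVec g y, hg]
  rw [← mul_assoc, inv_mul_cancel₀ (hg.ne_zero hdet), one_mul]

theorem isScalar_iff_forall {g : GL (Fin n) F} {c : F}
    (h : ∀ x, (g : Matrix (Fin n) (Fin n) F) *ᵥ x = c • x) :
    (g : Matrix (Fin n) (Fin n) F) = c • 1 :=
  Matrix.ext_of_mulVec_single fun i => by rw [h, smul_mulVec, one_mulVec]

theorem gl_ext {g h : GL (Fin n) F}
    (e : ∀ x, (g : Matrix (Fin n) (Fin n) F) *ᵥ x = (h : Matrix (Fin n) (Fin n) F) *ᵥ x) : g = h :=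
  Units.ext (Matrix.ext_of_mulVec_single fun i => e _)

/-! ### Semilinear maps with many eigenvectors -/

/-- The semilinear map `x ↦ g σ(x)`. -/
abbrev app (g : GL (Fin n) F) (σ : F ≃+* F) (x : Fin n → F) : Fin n → F :=
  (g : Matrix (Fin n) (Fin n) F) *ᵥ (⇑σ ∘ x)

theorem app_add (g : GL (Fin n) F) (σ : F ≃+* F) (x y : Fin n → F) :
    app g σ (x + y) = app g σ x + app g σ y := by
  have h : ⇑σ ∘ (x + y) = ⇑σ ∘ x + ⇑σ ∘ y := funext fun i => map_add σ _ _
  rw [app, h, mulVec_add]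

theorem app_smul (g : GL (Fin n) F) (σ : F ≃+* F) (c : F) (x : Fin n → F) :
    app g σ (c • x) = σ c • app g σ x := by
  have h : ⇑σ ∘ (c • x) = σ c • (⇑σ ∘ x) := funext fun i => map_mul σ _ _
  rw [app, h, mulVec_smul]

theorem app_ne_zero (g : GL (Fin n) F) (σ : F ≃+* F) {x : Fin n → F} (hx : x ≠ 0) :
    app g σ x ≠ 0 :=
  mulVec_ne_zero g fun h => hx (funext fun i => σ.injective ((congrFun h i).trans (map_zero σ).symm))

section lines

variable {F₀ : Type v} [Field F₀] (i : F₀ →+* F)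

theorem comp_add (x y : Fin n → F₀) : ⇑i ∘ (x + y) = ⇑i ∘ x + ⇑i ∘ y :=
  funext fun k => map_add i _ _

theorem comp_smul (c : F₀) (x : Fin n → F₀) : ⇑i ∘ (c • x) = i c • (⇑i ∘ x) :=
  funext fun k => map_mul i _ _

/-- A semilinear map fixing every rational line is scalar and fixes the small field. -/
theorem scalar_of_lines (hn : 2 ≤ n) (g : GL (Fin n) F) (σ : F ≃+* F)
    (h : ∀ x : Fin n → F₀, ∃ ν : F, app g σ (⇑i ∘ x) = ν • (⇑i ∘ x)) :
    (∃ c : F, c ≠ 0 ∧ (g : Matrix (Fin n) (Fin n) F) = c • 1) ∧ ∀ y, σ (i y) = i y := by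
  classical
  haveI : NeZero n := ⟨by omega⟩
  have hsingle : ∀ k, ⇑i ∘ (Pi.single k (1 : F₀) : Fin n → F₀) = Pi.single k 1 := by
    intro k; funext l; by_cases hl : l = k <;> simp [hl]
  choose lam hlam using fun k => h (Pi.single k 1)
  simp only [hsingle] at hlam
  have heq : ∀ k l, k ≠ l → ∀ y : F₀, σ (i y) * lam k = lam l * i y ∧ (y ≠ 0 → lam l * σ (i y) = σ (i y) * lam k) := by
    intro k l hkl y
    obtain ⟨ν, hν⟩ := h (y • Pi.single k 1 + Pi.single l 1)
    rw [comp_add, comp_smul, hsingle, hsingle, app_add, app_smul, hlam, hlam] at hν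
    have e1 := congrFun hν k
    have e2 := congrFun hν l
    simp [hkl, Ne.symm hkl] at e1 e2
    subst e2
    refine ⟨by linear_combination e1, fun hy => ?_⟩
    have hy' : σ (i y) * lam k = lam l * i y := by linear_combination e1
    have h1 : lam k = lam l := by
      obtain ⟨ν', hν'⟩ := h (Pi.single k 1 + Pi.single l 1)
      rw [comp_add, hsingle, hsingle, app_add, hlam, hlam] at hν'
      have e1 := congrFun hν' k
      have e2 := congrFun hν' l
      simp [hkl, Ne.symm hkl] at e1 e2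
      rw [e1, e2]
    rw [h1, mul_comm]
  have hlam0 : ∀ k, lam k = lam 0 := by
    intro k
    by_cases hk : k = 0
    · rw [hk]
    · have := (heq 0 k (Ne.symm hk) 1).1
      simpa using this.symm
  have hc : lam 0 ≠ 0 := fun h0 => app_ne_zero g σ (x := Pi.single (0 : Fin n) 1) (by simp)
    (by rw [hlam, h0, zero_smul])
  refine ⟨⟨lam 0, hc, ?_⟩, fun y => ?_⟩
  · refine Matrix.ext_of_mulVec_single fun k => ?_
    have hs : ⇑σ ∘ (Pi.single k (1 : F) : Fin n → F) = Pi.single k 1 := by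
      funext l; by_cases hl : l = k <;> simp [hl]
    have := hlam k
    rw [app, hs] at this
    rw [this, hlam0 k, smul_mulVec, one_mulVec]
  · obtain ⟨l, hl⟩ : ∃ l : Fin n, l ≠ 0 := by
      haveI : Nontrivial (Fin n) := Fin.nontrivial_iff_two_le.mpr hn
      exact exists_ne 0
    have := (heq 0 l (Ne.symm hl) y).1
    rw [hlam0 l, mul_comm (lam 0)] at this
    exact mul_right_cancel₀ hc this

/-- Commuting with a transvection forces an eigenvector. -/
theorem line_of_comm_tau (g : GL (Fin n) F) (σ : F ≃+* F) {a b : Fin n → F₀} (hb : b ≠ 0)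
    (hc : ∀ x, app g σ (tauM (⇑i ∘ a) (⇑i ∘ b) *ᵥ x) = tauM (⇑i ∘ a) (⇑i ∘ b) *ᵥ app g σ x) :
    ∃ ν : F, app g σ (⇑i ∘ a) = ν • (⇑i ∘ a) := by
  obtain ⟨k, hk⟩ : ∃ k, b k ≠ 0 := Function.ne_iff.1 hb
  have hx : (⇑i ∘ b) ⬝ᵥ Pi.single k (i (b k))⁻¹ = 1 := by
    rw [dotProduct_single, Function.comp_apply, mul_inv_cancel₀ ((map_ne_zero i).2 hk)]
  have h := hc (Pi.single k (i (b k))⁻¹)
  rw [tauM_mulVec, tauM_mulVec, hx, one_smul, app_add, add_right_inj] at h
  exact ⟨_, h⟩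

end lines

/-! ### Reflections -/

/-- The reflection matrix in an anisotropic vector. -/
def rflM (H : Matrix (Fin n) (Fin n) F) (τ : F ≃+* F) (v : Fin n → F) : Matrix (Fin n) (Fin n) F :=
  tauM v ((-2 / bf H τ v v) • (H *ᵥ (⇑τ ∘ v)))

theorem rflM_mulVec (v x : Fin n → F) :
    rflM H τ v *ᵥ x = x - (2 * bf H τ x v / bf H τ v v) • v := by
  rw [rflM, tauM_mulVec, smul_dotProduct, dotProduct_comm, smul_eq_mul, sub_eq_add_neg, ← neg_smul]
  congr 2
  show -2 / bf H τ v v * bf H τ x v = _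
  ring

theorem rflM_apply_self {v : Fin n → F} (hv : bf H τ v v ≠ 0) : rflM H τ v *ᵥ v = -v := by
  rw [rflM_mulVec, mul_div_assoc, div_self hv, mul_one]
  module

theorem rflM_apply_orth {v x : Fin n → F} (hx : bf H τ x v = 0) : rflM H τ v *ᵥ x = x := by
  rw [rflM_mulVec, hx, mul_zero, zero_div, zero_smul, sub_zero]

theorem rflM_sq {v : Fin n → F} (hv : bf H τ v v ≠ 0) : rflM H τ v * rflM H τ v = 1 := by
  refine Matrix.ext_of_mulVec_single fun k => ?_
  rw [← mulVec_mulVec, one_mulVec, rflM_mulVec v (Pi.single k 1), mulVec_sub, mulVec_smul,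
    rflM_mulVec, rflM_apply_self hv]
  module

theorem rflM_det {v : Fin n → F} (hv : bf H τ v v ≠ 0) : (rflM H τ v).det = -1 := by
  rw [rflM, tauM, vecMulVec_eq Unit, det_one_add_replicateCol_mul_replicateRow, smul_dotProduct,
    dotProduct_comm, smul_eq_mul]
  show 1 + -2 / bf H τ v v * bf H τ v v = -1
  rw [div_mul_cancel₀ _ hv]; ring

/-- The reflection. -/
def rfl' (H : Matrix (Fin n) (Fin n) F) (τ : F ≃+* F) (v : Fin n → F) (hv : bf H τ v v ≠ 0) :
    GL (Fin n) F :=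
  ⟨rflM H τ v, rflM H τ v, rflM_sq hv, rflM_sq hv⟩

theorem rfl'_isSimil (hH : (H.map τ)ᵀ = H) (hτ : ∀ a, τ (τ a) = a) {v : Fin n → F}
    (hv : bf H τ v v ≠ 0) : IsSimil H τ (rfl' H τ v hv) 1 := by
  intro x y
  show bf H τ (rflM H τ v *ᵥ x) (rflM H τ v *ᵥ y) = _
  have hd : τ (bf H τ v v) = bf H τ v v := (bf_swap hH hτ v v).symm
  rw [rflM_mulVec, rflM_mulVec, bf_sub_left, bf_sub_right, bf_sub_right, bf_smul_left, bf_smul_left,
    bf_smul_right, bf_smul_right, map_div₀, map_mul, map_ofNat, hd, ← bf_swap hH hτ y v]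
  field_simp
  ring

theorem conj_rfl' {g : GL (Fin n) F} {μ : F} (hg : IsSimil H τ g μ) (hμ : μ ≠ 0) {v : Fin n → F}
    (hv : bf H τ v v ≠ 0) (hw : bf H τ ((g : Matrix (Fin n) (Fin n) F) *ᵥ v) ((g : Matrix (Fin n) (Fin n) F) *ᵥ v) ≠ 0) :
    g * rfl' H τ v hv * g⁻¹ = rfl' H τ _ hw := by
  refine gl_ext fun x => ?_
  rw [Units.val_mul, Units.val_mul, ← mulVec_mulVec, ← mulVec_mulVec]
  show (g : Matrix (Fin n) (Fin n) F) *ᵥ (rflM H τ v *ᵥ _) = rflM H τ _ *ᵥ x
  rw [rflM_mulVec, rflM_mulVec, mulVec_sub, mulVec_smul, inv_mulVec]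
  have hx : bf H τ x ((g : Matrix (Fin n) (Fin n) F) *ᵥ v) =
      μ * bf H τ ((↑g⁻¹ : Matrix (Fin n) (Fin n) F) *ᵥ x) v := by
    rw [← hg, inv_mulVec]
  rw [hx, hg v v]
  congr 2
  field_simp

section orth

variable (hH : (H.map τ)ᵀ = H) (hτ : ∀ a, τ (τ a) = a) (hdet : IsUnit H.det) (h2 : (2 : F) ≠ 0)
  (hn : 3 ≤ n)

include hH hτ hdet hn

omit h2 in
/-- A vector orthogonal to two orthogonal anisotropic vectors, anisotropic. -/
theorem exists_orth_pair (h2 : (2 : F) ≠ 0) {v u : Fin n → F} (hv : bf H τ v v ≠ 0)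
    (hu : bf H τ u u ≠ 0) (huv : bf H τ u v = 0) :
    ∃ z, bf H τ z v = 0 ∧ bf H τ z u = 0 ∧ bf H τ z z ≠ 0 := by
  by_contra hcon
  push Not at hcon
  obtain ⟨w, hw0, hwv, hwu⟩ := exists_ne_zero_orth_two (H := H) (τ := τ) hn v u
  have hvu : bf H τ v u = 0 := by rw [bf_swap hH hτ, huv, map_zero]
  -- the orthogonal complement is totally isotropic
  have hW : ∀ y, bf H τ y v = 0 → bf H τ y u = 0 → ∀ c : F, c * bf H τ y w + τ c * bf H τ w y = 0 := by
    intro y hyv hyu c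
    have h3 := hcon (c • y + w) (by rw [bf_add_left, bf_smul_left, hyv, hwv, mul_zero, add_zero])
      (by rw [bf_add_left, bf_smul_left, hyu, hwu, mul_zero, add_zero])
    rw [bf_add_left, bf_add_right, bf_add_right, bf_smul_left, bf_smul_right, bf_smul_left,
      bf_smul_right, hcon y hyv hyu, hcon w hwv hwu] at h3
    linear_combination h3
  refine hw0 (eq_zero_of_bf (τ := τ) hdet fun y => ?_)
  obtain ⟨y', hy'⟩ : ∃ y', y' = y - (bf H τ y v / bf H τ v v) • v - (bf H τ y u / bf H τ u u) • u :=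
    ⟨_, rfl⟩
  have e1 : bf H τ y' v = 0 := by
    rw [hy', bf_sub_left, bf_sub_left, bf_smul_left, bf_smul_left, huv, div_mul_cancel₀ _ hv]; ring
  have e2 : bf H τ y' u = 0 := by
    rw [hy', bf_sub_left, bf_sub_left, bf_smul_left, bf_smul_left, hvu, div_mul_cancel₀ _ hu]; ring
  have hvw : bf H τ v w = 0 := by rw [bf_swap hH hτ, hwv, map_zero]
  have huw : bf H τ u w = 0 := by rw [bf_swap hH hτ, hwu, map_zero]
  have e3 : bf H τ y' w = bf H τ y w := by
    rw [hy', bf_sub_left, bf_sub_left, bf_smul_left, bf_smul_left, hvw, huw]; ring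
  by_contra hne
  rw [← e3] at hne
  have h3 := hW y' e1 e2 (bf H τ y' w)⁻¹
  rw [inv_mul_cancel₀ hne, bf_swap hH hτ y' w, ← map_mul, inv_mul_cancel₀ hne, map_one,
    one_add_one_eq_two] at h3
  exact h2 h3

include h2

theorem exists_aniso : ∃ v, bf H τ v v ≠ 0 := by
  classical
  by_contra hcon
  push Not at hcon
  haveI : NeZero n := ⟨by omega⟩
  obtain ⟨x, hx⟩ := exists_bf_eq (τ := τ) hdet (y := Pi.single (0 : Fin n) 1) (by simp) 1
  have h := hcon (x + Pi.single 0 1)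
  rw [bf_add_left, bf_add_right, bf_add_right, hcon, hcon, hx, bf_swap hH hτ x, hx, map_one] at h
  exact h2 (by linear_combination h)

/-- An anisotropic vector orthogonal to a given vector. -/
theorem exists_aniso_orth {x : Fin n → F} : ∃ v, bf H τ v v ≠ 0 ∧ bf H τ v x = 0 := by
  classical
  by_cases hx : bf H τ x x = 0
  swap
  · obtain ⟨w, hw⟩ := exists_aniso hH hτ hdet h2 hn
    by_contra hcon
    push Not at hcon
    obtain ⟨z, hz0, hz, -⟩ := exists_ne_zero_orth_two (H := H) (τ := τ) hn x x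
    have hW : ∀ y, bf H τ y x = 0 → bf H τ y y = 0 := fun y hy => by
      by_contra h; exact hcon y h hy
    have hy : ∀ y, bf H τ y z = 0 := by
      intro y
      obtain ⟨y', hy'⟩ : ∃ y', y' = y - (bf H τ y x / bf H τ x x) • x := ⟨_, rfl⟩
      have e1 : bf H τ y' x = 0 := by
        rw [hy', bf_sub_left, bf_smul_left, div_mul_cancel₀ _ hx, sub_self]
      have e2 : bf H τ y' z = bf H τ y z := by
        rw [hy', bf_sub_left, bf_smul_left, bf_swap hH hτ z x, hz, map_zero, mul_zero, sub_zero]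
      by_contra hne
      rw [← e2] at hne
      have h3 := hW ((bf H τ y' z)⁻¹ • y' + z) (by
        rw [bf_add_left, bf_smul_left, e1, hz, mul_zero, add_zero])
      rw [bf_add_left, bf_add_right, bf_add_right, bf_smul_left, bf_smul_right, bf_smul_left,
        bf_smul_right, hW y' e1, hW z hz, inv_mul_cancel₀ hne, bf_swap hH hτ y' z, ← map_mul,
        inv_mul_cancel₀ hne, map_one] at h3
      exact h2 (by linear_combination h3)
    exact hz0 (eq_zero_of_bf hdet hy)
  · by_contra hcon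
    push Not at hcon
    have hW : ∀ y, bf H τ y x = 0 → bf H τ y y = 0 := fun y hy => by
      by_contra h; exact hcon y h hy
    -- vectors orthogonal to `x` pair to zero
    have hpair : ∀ y z, bf H τ y x = 0 → bf H τ z x = 0 → bf H τ y z = 0 := by
      intro y z hy hz
      by_contra hne
      have h3 := hW ((bf H τ y z)⁻¹ • y + z) (by
        rw [bf_add_left, bf_smul_left, hy, hz, mul_zero, add_zero])
      rw [bf_add_left, bf_add_right, bf_add_right, bf_smul_left, bf_smul_right, bf_smul_left,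
        bf_smul_right, hW y hy, hW z hz, inv_mul_cancel₀ hne, bf_swap hH hτ y z, ← map_mul,
        inv_mul_cancel₀ hne, map_one] at h3
      exact h2 (by linear_combination h3)
    by_cases hx0 : x = 0
    · obtain ⟨v, hv⟩ := exists_aniso hH hτ hdet h2 hn
      refine hv (hW v ?_)
      rw [hx0, bf_swap hH hτ, bf_zero_left, map_zero]
    obtain ⟨k, hk⟩ := exists_bf_eq (τ := τ) hdet hx0 1
    obtain ⟨z, hz0, hzx, hzk⟩ := exists_ne_zero_orth_two (H := H) (τ := τ) hn x k
    refine hz0 (eq_zero_of_bf (τ := τ) hdet fun y => ?_)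
    have e1 : bf H τ (y - bf H τ y x • k) x = 0 := by
      rw [bf_sub_left, bf_smul_left, hk, mul_one, sub_self]
    have e2 := hpair _ z e1 hzx
    rwa [bf_sub_left, bf_smul_left, bf_swap hH hτ z k, hzk, map_zero, mul_zero, sub_zero] at e2

/-- A semilinear map fixing all rational anisotropic lines fixes all rational lines. -/
theorem lines_of_aniso {E : Type v} [Field E] (i : F →+* E) (g : GL (Fin n) E) (σ : E ≃+* E)
    (h : ∀ x : Fin n → F, bf H τ x x ≠ 0 → ∃ ν : E, app g σ (⇑i ∘ x) = ν • (⇑i ∘ x))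
    (x : Fin n → F) : ∃ ν : E, app g σ (⇑i ∘ x) = ν • (⇑i ∘ x) := by
  by_cases hx : bf H τ x x = 0
  swap
  · exact h x hx
  by_cases hx0 : x = 0
  · refine ⟨0, ?_⟩
    have e : ⇑i ∘ x = 0 := funext fun k => by rw [hx0]; exact map_zero i
    rw [zero_smul, e]
    exact (congrArg _ (funext fun k => map_zero σ)).trans (mulVec_zero _)
  obtain ⟨v, hv, hvx⟩ := exists_aniso_orth hH hτ hdet h2 hn (x := x)
  have hxv : bf H τ x v = 0 := by rw [bf_swap hH hτ, hvx, map_zero]
  have hq : ∀ t : F, bf H τ (x + t • v) (x + t • v) = t * τ t * bf H τ v v := fun t => by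
    rw [bf_add_left, bf_add_right, bf_add_right, bf_smul_left, bf_smul_left, bf_smul_right,
      bf_smul_right, hx, hxv, hvx]
    ring
  have hτ0 : ∀ t : F, t ≠ 0 → τ t ≠ 0 := fun t ht => (map_ne_zero τ).2 ht
  obtain ⟨lam, hlam⟩ := h v hv
  obtain ⟨ν₁, h1⟩ := h (x + (1 : F) • v) (by
    rw [hq]; exact mul_ne_zero (mul_ne_zero one_ne_zero (hτ0 1 one_ne_zero)) hv)
  obtain ⟨ν₂, h3⟩ := h (x + (2 : F) • v) (by rw [hq]; exact mul_ne_zero (mul_ne_zero h2 (hτ0 2 h2)) hv)
  rw [comp_add, comp_smul, map_one, one_smul, app_add, hlam] at h1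
  rw [comp_add, comp_smul, map_ofNat, app_add, app_smul, map_ofNat, hlam] at h3
  refine ⟨ν₁, ?_⟩
  have hind : ∀ a b : E, a • (⇑i ∘ x) + b • (⇑i ∘ v) = 0 → a = 0 ∧ b = 0 := by
    intro a b hab
    obtain ⟨k, hk⟩ : ∃ k, v k ≠ 0 := Function.ne_iff.1 (fun e => hv (by rw [e]; exact bf_zero_left _))
    obtain ⟨l, hl⟩ : ∃ l, x l * v k - x k * v l ≠ 0 := by
      by_contra hc
      push Not at hc
      have hxe : x = (x k / v k) • v := funext fun l => by
        rw [Pi.smul_apply, smul_eq_mul, div_mul_eq_mul_div, eq_div_iff hk]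
        exact sub_eq_zero.1 (hc l)
      rw [hxe, bf_smul_left, bf_smul_right, ← mul_assoc, mul_eq_zero, mul_eq_zero] at hx
      rcases hx with (h' | h') | h'
      · exact hx0 (by rw [hxe, h', zero_smul])
      · exact hx0 (by rw [hxe, (map_eq_zero τ).1 h', zero_smul])
      · exact hv h'
    have e1 := congrFun hab k
    have e2 := congrFun hab l
    simp only [Pi.add_apply, Pi.smul_apply, smul_eq_mul, Function.comp_apply, Pi.zero_apply] at e1 e2
    have hd : i (x l * v k - x k * v l) ≠ 0 := (map_ne_zero i).2 hl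
    rw [map_sub, map_mul, map_mul] at hd
    exact ⟨mul_right_cancel₀ hd (by linear_combination (i (v k)) * e2 - (i (v l)) * e1),
      mul_right_cancel₀ hd (by linear_combination (i (x l)) * e1 - (i (x k)) * e2)⟩
  have hTx : app g σ (⇑i ∘ x) = ν₁ • (⇑i ∘ x) + (ν₁ - lam) • (⇑i ∘ v) := by
    rw [eq_sub_of_add_eq h1]; module
  rw [hTx] at h3
  obtain ⟨e1, e2⟩ := hind (ν₁ - ν₂) (ν₁ - lam + 2 * lam - ν₂ * 2)
    (by linear_combination (norm := module) h3)
  have hlam1 : ν₁ - lam = 0 := by linear_combination -e2 + 2 * e1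
  rw [hTx, hlam1, zero_smul, add_zero]

end orth

end Cfsg.Agent.LocalEven61.FormGeom
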