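import Cfsg.Agent.LocalEven61.FormGeom

/-!
Similitude groups of an alternating form, of odd order modulo scalars and normalised by the
isometries, are scalar.
-/

set_option autoImplicit false

namespace Cfsg.Agent.LocalEven61.FormGeom

open Matrix Cfsg.Agent.AutPSL

universe u

variable {n : ℕ} {F : Type u} [Field F] {H : Matrix (Fin n) (Fin n) F}

/-- The transvection matrix of an alternating form. -/
def trM (H : Matrix (Fin n) (Fin n) F) (v : Fin n → F) (c : F) : Matrix (Fin n) (Fin n) F :=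
  tauM v (c • (H *ᵥ (⇑(1 : F ≃+* F) ∘ v)))

theorem trM_mulVec (v x : Fin n → F) (c : F) :
    trM H v c *ᵥ x = x + (c * bf H 1 x v) • v := by
  rw [trM, tauM_mulVec, smul_dotProduct, dotProduct_comm]
  rfl

section alt

variable (hH : Hᵀ = -H) (h2 : (2 : F) ≠ 0)

include hH h2

theorem bf_self_alt (x : Fin n → F) : bf H (1 : F ≃+* F) x x = 0 := by
  have := bf_alt hH x x
  exact (mul_eq_zero.1 (show (2 : F) * bf H (1 : F ≃+* F) x x = 0 by linear_combination this)).resolve_left h2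

theorem trM_mul (v : Fin n → F) (c d : F) : trM H v c * trM H v d = trM H v (c + d) := by
  refine Matrix.ext_of_mulVec_single fun k => ?_
  rw [← mulVec_mulVec, trM_mulVec, trM_mulVec, trM_mulVec, bf_add_left, bf_smul_left,
    bf_self_alt hH h2]
  module

theorem trM_zero (v : Fin n → F) : trM H v 0 = 1 := by
  refine Matrix.ext_of_mulVec_single fun k => ?_
  rw [trM_mulVec, one_mulVec, zero_mul, zero_smul, add_zero]

theorem trM_det (v : Fin n → F) (c : F) : (trM H v c).det = 1 := by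
  refine tauM_det ?_
  rw [smul_dotProduct, dotProduct_comm]
  show c * bf H (1 : F ≃+* F) v v = 0
  rw [bf_self_alt hH h2, mul_zero]

/-- The transvection. -/
def tr (v : Fin n → F) (c : F) : GL (Fin n) F :=
  ⟨trM H v c, trM H v (-c), by rw [trM_mul hH h2, add_neg_cancel, trM_zero hH h2],
    by rw [trM_mul hH h2, neg_add_cancel, trM_zero hH h2]⟩

theorem tr_mul (v : Fin n → F) (c d : F) : tr hH h2 v c * tr hH h2 v d = tr hH h2 v (c + d) :=
  Units.ext (trM_mul hH h2 v c d)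

theorem tr_inv (v : Fin n → F) (c : F) : (tr hH h2 v c)⁻¹ = tr hH h2 v (-c) :=
  inv_eq_of_mul_eq_one_right (by
    rw [tr_mul, add_neg_cancel]; exact Units.ext (trM_zero hH h2 v))

theorem tr_smul (v : Fin n → F) (l c : F) : tr hH h2 (l • v) c = tr hH h2 v (l * l * c) := by
  refine gl_ext fun x => ?_
  show trM H (l • v) c *ᵥ x = trM H v (l * l * c) *ᵥ x
  rw [trM_mulVec, trM_mulVec, bf_smul_right, RingAut.one_apply]
  module

theorem tr_isSimil (v : Fin n → F) (c : F) : IsSimil H (1 : F ≃+* F) (tr hH h2 v c) 1 := by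
  intro x y
  show bf H 1 (trM H v c *ᵥ x) (trM H v c *ᵥ y) = _
  rw [trM_mulVec, trM_mulVec, bf_add_left, bf_add_right, bf_add_right, bf_smul_left, bf_smul_left,
    bf_smul_right, bf_smul_right, bf_self_alt hH h2, bf_alt hH y v]
  simp only [RingAut.one_apply]
  ring

theorem conj_tr {g : GL (Fin n) F} {μ : F} (hg : IsSimil H (1 : F ≃+* F) g μ) (hμ : μ ≠ 0)
    (v : Fin n → F) (c : F) :
    g * tr hH h2 v c * g⁻¹ = tr hH h2 ((g : Matrix (Fin n) (Fin n) F) *ᵥ v) (c / μ) := by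
  refine gl_ext fun x => ?_
  rw [Units.val_mul, Units.val_mul, ← mulVec_mulVec, ← mulVec_mulVec]
  show (g : Matrix (Fin n) (Fin n) F) *ᵥ (trM H v c *ᵥ _) = trM H _ (c / μ) *ᵥ x
  rw [trM_mulVec, trM_mulVec, mulVec_add, mulVec_smul, inv_mulVec]
  have hx : bf H 1 x ((g : Matrix (Fin n) (Fin n) F) *ᵥ v) =
      μ * bf H 1 ((↑g⁻¹ : Matrix (Fin n) (Fin n) F) *ᵥ x) v := by
    rw [← hg, inv_mulVec]
  rw [hx]
  congr 2
  field_simp

variable (hdet : IsUnit H.det) (hn : 3 ≤ n)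

include hdet hn

omit h2 hn in
theorem exists_pairing {v w : Fin n → F} (hv : v ≠ 0) (hw : ∀ k : F, w ≠ k • v) (a b : F) :
    ∃ y, bf H (1 : F ≃+* F) y v = a ∧ bf H (1 : F ≃+* F) y w = b := by
  obtain ⟨z, hz⟩ := exists_bf_eq (τ := (1 : F ≃+* F)) hdet hv 1
  obtain ⟨u, hu0, hu1⟩ : ∃ u, bf H (1 : F ≃+* F) u v = 0 ∧ bf H (1 : F ≃+* F) u w ≠ 0 := by
    by_contra hcon
    push Not at hcon
    refine hw (bf H 1 z w) (sub_eq_zero.1 (eq_zero_of_bf (τ := (1 : F ≃+* F)) hdet fun y => ?_))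
    have := hcon (y - bf H 1 y v • z) (by rw [bf_sub_left, bf_smul_left, hz]; ring)
    rw [bf_sub_left, bf_smul_left] at this
    rw [bf_sub_right, bf_smul_right, RingAut.one_apply]
    linear_combination this
  refine ⟨a • z + ((b - a * bf H 1 z w) / bf H 1 u w) • u, ?_, ?_⟩
  · rw [bf_add_left, bf_smul_left, bf_smul_left, hz, hu0]; ring
  · rw [bf_add_left, bf_smul_left, bf_smul_left, div_mul_cancel₀ _ hu1]; ring

/-- An element of order four on a hyperbolic plane has no scalar odd power. -/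
theorem odd_pow_ne_scalar {e f : Fin n → F} {c d : F} (hef : bf H (1 : F ≃+* F) e f = 1)
    (hcd : c * d = 2) {k : ℕ} (hk : Odd k) (s : F) :
    (((tr hH h2 f c * tr hH h2 e d) ^ k : GL (Fin n) F) : Matrix (Fin n) (Fin n) F) ≠ s • 1 := by
  intro hs
  set X := tr hH h2 f c * tr hH h2 e d with hX
  have hfe : bf H (1 : F ≃+* F) f e = -1 := by rw [bf_alt hH, hef]
  have happ : ∀ x, (X : Matrix (Fin n) (Fin n) F) *ᵥ x = trM H f c *ᵥ (trM H e d *ᵥ x) := fun x => by
    rw [hX, Units.val_mul, ← mulVec_mulVec]; rfl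
  have hXe : (X : Matrix (Fin n) (Fin n) F) *ᵥ e = e + c • f := by
    rw [happ, trM_mulVec e, bf_self_alt hH h2, mul_zero, zero_smul, add_zero, trM_mulVec, hef, mul_one]
  have hXf : (X : Matrix (Fin n) (Fin n) F) *ᵥ f = -f - d • e := by
    rw [happ, trM_mulVec e, hfe, trM_mulVec, bf_add_left, bf_smul_left, bf_self_alt hH h2, hef]
    linear_combination (norm := module) (-hcd) • f
  obtain ⟨w, hw0, hwe, hwf⟩ := exists_ne_zero_orth_two (H := H) (τ := (1 : F ≃+* F)) hn e f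
  have hXw : (X : Matrix (Fin n) (Fin n) F) *ᵥ w = w := by
    rw [happ, trM_mulVec e, hwe, mul_zero, zero_smul, add_zero, trM_mulVec, hwf, mul_zero, zero_smul,
      add_zero]
  have hY : ((X * X : GL (Fin n) F) : Matrix (Fin n) (Fin n) F) *ᵥ e = -e ∧
      ((X * X : GL (Fin n) F) : Matrix (Fin n) (Fin n) F) *ᵥ w = w := by
    rw [Units.val_mul, ← mulVec_mulVec, ← mulVec_mulVec, hXw, hXw, hXe, mulVec_add, mulVec_smul,
      hXe, hXf]
    exact ⟨by linear_combination (norm := module) (-hcd) • e, rfl⟩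
  have hpow : ∀ j, (((X * X) ^ j : GL (Fin n) F) : Matrix (Fin n) (Fin n) F) *ᵥ e = (-1 : F) ^ j • e ∧
      (((X * X) ^ j : GL (Fin n) F) : Matrix (Fin n) (Fin n) F) *ᵥ w = w := by
    intro j
    induction j with
    | zero => simp
    | succ j ih =>
      rw [pow_succ' (X * X), Units.val_mul (X * X) _, ← mulVec_mulVec, ← mulVec_mulVec, ih.1, ih.2,
        mulVec_smul, hY.1, hY.2, smul_neg, pow_succ, mul_neg_one, neg_smul]
      exact ⟨rfl, rfl⟩
  obtain ⟨e1, e2⟩ := hpow k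
  have hval : (((X * X) ^ k : GL (Fin n) F) : Matrix (Fin n) (Fin n) F) = (s * s) • 1 := by
    rw [← pow_two, ← pow_mul, mul_comm, pow_mul, pow_two, Units.val_mul, hs, Matrix.smul_mul,
      Matrix.mul_smul, smul_smul, Matrix.one_mul]
  rw [hval, smul_mulVec, one_mulVec] at e1 e2
  rw [hk.neg_one_pow] at e1
  have ec : s * s = 1 := by
    by_contra hc1
    have : (s * s - 1) • w = 0 := by rw [sub_smul, e2, one_smul, sub_self]
    exact (smul_eq_zero.1 this).elim (fun h => hc1 (sub_eq_zero.1 h)) hw0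
  rw [ec, one_smul] at e1
  have : (2 : F) • e = 0 := by linear_combination (norm := module) e1
  rcases smul_eq_zero.1 this with h | h
  · exact h2 h
  · rw [h, bf_zero_left] at hef; exact zero_ne_one hef

omit hH h2 in
theorem exists_hyperbolic : ∃ e f, bf H (1 : F ≃+* F) e f = 1 ∧ e ≠ 0 ∧ f ≠ 0 := by
  classical
  haveI : NeZero n := ⟨by omega⟩
  obtain ⟨e, he⟩ := exists_bf_eq (τ := (1 : F ≃+* F)) hdet (y := Pi.single (0 : Fin n) 1) (by simp) 1
  refine ⟨e, _, he, fun h => ?_, by simp⟩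
  rw [h, bf_zero_left] at he
  exact zero_ne_one he

/-- A group of similitudes of odd order modulo scalars, normalised by the isometries, is scalar. -/
theorem scalar_of_odd_alt (M : Subgroup (GL (Fin n) F))
    (hsim : ∀ m ∈ M, ∃ μ, IsSimil H (1 : F ≃+* F) m μ)
    (hnorm : ∀ h, IsSimil H (1 : F ≃+* F) h 1 → ∀ m ∈ M, h * m * h⁻¹ ∈ M)
    (hodd : ∀ m ∈ M, ∃ k, Odd k ∧ ∃ c : F, ((m ^ k : GL (Fin n) F) : Matrix (Fin n) (Fin n) F) = c • 1) :
    ∀ m ∈ M, ∃ c : F, (m : Matrix (Fin n) (Fin n) F) = c • 1 := by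
  classical
  haveI : NeZero n := ⟨by omega⟩
  set T := tr hH h2 with hT
  -- a nonscalar element moves a line
  have move : ∀ g : GL (Fin n) F, (∀ c : F, (g : Matrix (Fin n) (Fin n) F) ≠ c • 1) →
      ∃ v, v ≠ 0 ∧ ∀ k : F, (g : Matrix (Fin n) (Fin n) F) *ᵥ v ≠ k • v := by
    intro g hg
    by_contra hc
    push Not at hc
    obtain ⟨⟨c, -, hc'⟩, -⟩ := scalar_of_lines (RingHom.id F) (by omega) g 1 fun x => by
      by_cases hx : x = 0
      · exact ⟨0, by subst hx; rw [zero_smul]; exact (mulVec_zero _)⟩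
      · exact hc x hx
    exact hg c hc'
  have gen : ∀ g ∈ M, ∀ μ, IsSimil H (1 : F ≃+* F) g μ → ∀ v c,
      T ((g : Matrix (Fin n) (Fin n) F) *ᵥ v) (c / μ) * T v (-c) ∈ M := by
    intro g hg μ hμ v c
    have h := M.mul_mem hg (hnorm _ (tr_isSimil hH h2 v c) _ (M.inv_mem hg))
    rw [hT, ← conj_tr hH h2 hμ (hμ.ne_zero hdet), ← tr_inv]
    simpa only [mul_assoc] using h
  intro m hm
  by_contra hcon
  push Not at hcon
  obtain ⟨v₀, hv₀, hw₀⟩ := move m hcon
  obtain ⟨μ, hμ⟩ := hsim m hm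
  have hμ0 := hμ.ne_zero hdet
  obtain ⟨w₀, hw₀d⟩ : ∃ w₀, w₀ = (m : Matrix (Fin n) (Fin n) F) *ᵥ v₀ := ⟨_, rfl⟩
  rw [← hw₀d] at hw₀
  obtain ⟨ρ, hρd⟩ : ∃ ρ, ρ = T w₀ (1 / μ) * T v₀ (-1) := ⟨_, rfl⟩
  have hρM : ρ ∈ M := by rw [hρd, hw₀d]; exact gen m hm μ hμ v₀ 1
  have hρ1 : IsSimil H (1 : F ≃+* F) ρ 1 := by
    rw [hρd]
    have := (tr_isSimil hH h2 w₀ (1 / μ)).mul (tr_isSimil hH h2 v₀ (-1))
    rwa [one_mul] at this
  have hρns : ∀ c : F, (ρ : Matrix (Fin n) (Fin n) F) ≠ c • 1 := by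
    intro c hc
    obtain ⟨y, hy0, hyv, hyw⟩ := exists_ne_zero_orth_two (H := H) (τ := (1 : F ≃+* F)) hn v₀ w₀
    have happ : ∀ x, c • x = trM H w₀ (1 / μ) *ᵥ (trM H v₀ (-1) *ᵥ x) := fun x => by
      rw [mulVec_mulVec]
      have h' : (ρ : Matrix (Fin n) (Fin n) F) = trM H w₀ (1 / μ) * trM H v₀ (-1) := by rw [hρd]; rfl
      rw [← h', hc, smul_mulVec, one_mulVec]
    have hy := happ y
    rw [trM_mulVec v₀, hyv, mul_zero, zero_smul, add_zero, trM_mulVec, hyw, mul_zero, zero_smul,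
      add_zero] at hy
    have hc1 : c = 1 := by
      by_contra h
      have : (c - 1) • y = 0 := by rw [sub_smul, hy, one_smul, sub_self]
      exact (smul_eq_zero.1 this).elim (fun h' => h (sub_eq_zero.1 h')) hy0
    obtain ⟨x, hx⟩ := exists_bf_eq (τ := (1 : F ≃+* F)) hdet hv₀ 1
    have hxx := happ x
    rw [hc1, one_smul, trM_mulVec v₀, hx, trM_mulVec] at hxx
    generalize 1 / μ * bf H (1 : F ≃+* F) (x + (-1 * 1 : F) • v₀) w₀ = κ at hxx
    by_cases hκ : κ = 0
    · rw [hκ, zero_smul, add_zero] at hxx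
      exact hv₀ (by linear_combination (norm := module) hxx)
    · refine hw₀ κ⁻¹ ?_
      rw [eq_inv_smul_iff₀ hκ]
      linear_combination (norm := module) -hxx
  obtain ⟨v, hv, hw⟩ := move ρ hρns
  obtain ⟨w, hwd⟩ : ∃ w, w = (ρ : Matrix (Fin n) (Fin n) F) *ᵥ v := ⟨_, rfl⟩
  rw [← hwd] at hw
  obtain ⟨rel, hrel⟩ : ∃ rel : (Fin n → F) → (Fin n → F) → Prop,
      ∀ a b, rel a b ↔ ∀ c, T b c * T a (-c) ∈ M := ⟨_, fun a b => Iff.rfl⟩
  have hvw : rel v w := (hrel v w).2 fun c => by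
    have := gen ρ hρM 1 hρ1 v c
    rwa [div_one, ← hwd] at this
  have symm : ∀ a b, rel a b → rel b a := fun a b h => (hrel b a).2 fun c => by
    have := M.inv_mem ((hrel a b).1 h c)
    rwa [_root_.mul_inv_rev, hT, tr_inv, tr_inv, neg_neg] at this
  have trans : ∀ a b d, rel a b → rel b d → rel a d := fun a b d h h' => (hrel a d).2 fun c => by
    have := M.mul_mem ((hrel b d).1 h' c) ((hrel a b).1 h c)
    rwa [mul_assoc, ← mul_assoc (T b (-c)), hT, tr_mul, neg_add_cancel, show tr hH h2 b 0 = 1 from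
      Units.ext (trM_zero hH h2 b), one_mul] at this
  have inv : ∀ a b z l, rel a b → rel (trM H z l *ᵥ a) (trM H z l *ᵥ b) := fun a b z l h =>
    (hrel _ _).2 fun c => by
      have hh := tr_isSimil hH h2 z l
      have := hnorm _ hh _ ((hrel a b).1 h c)
      rw [hT] at this ⊢
      rw [show tr hH h2 z l * (tr hH h2 b c * tr hH h2 a (-c)) * (tr hH h2 z l)⁻¹ =
        (tr hH h2 z l * tr hH h2 b c * (tr hH h2 z l)⁻¹) *
          (tr hH h2 z l * tr hH h2 a (-c) * (tr hH h2 z l)⁻¹) by group,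
        conj_tr hH h2 hh one_ne_zero, conj_tr hH h2 hh one_ne_zero, div_one, div_one] at this
      exact this
  -- moving the second vector parallel to the orthogonal complement of the first
  have move1 : ∀ a b x, rel a b → bf H (1 : F ≃+* F) x a = 0 → bf H (1 : F ≃+* F) b x ≠ 0 →
      rel a (b + x) := by
    intro a b x h hxa hbx
    have := inv a b x (bf H 1 b x)⁻¹ h
    rwa [trM_mulVec, trM_mulVec, bf_alt hH x a, hxa, neg_zero, mul_zero, zero_smul, add_zero,
      inv_mul_cancel₀ hbx, one_smul] at this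
  have move2 : ∀ a b x, rel a b → a ≠ 0 → (∀ k : F, b ≠ k • a) → (∀ k : F, b + x ≠ k • a) →
      bf H (1 : F ≃+* F) x a = 0 → rel a (b + x) := by
    intro a b x h ha hb hbx hxa
    by_cases h0 : bf H (1 : F ≃+* F) b x = 0
    swap
    · exact move1 a b x h hxa h0
    obtain ⟨y₁, hy₁a, hy₁⟩ := exists_pairing hH hdet ha hb 0 1
    obtain ⟨y₂, hy₂a, hy₂⟩ := exists_pairing hH hdet ha hbx 0 1
    obtain ⟨z, hza, hzb, hzx⟩ : ∃ z, bf H (1 : F ≃+* F) z a = 0 ∧ bf H (1 : F ≃+* F) b z ≠ 0 ∧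
        bf H (1 : F ≃+* F) (b + x) z ≠ 0 := by
      have e1 : bf H (1 : F ≃+* F) b y₁ ≠ 0 := by rw [bf_alt hH, hy₁]; exact neg_ne_zero.2 one_ne_zero
      have e2 : bf H (1 : F ≃+* F) (b + x) y₂ ≠ 0 := by
        rw [bf_alt hH, hy₂]; exact neg_ne_zero.2 one_ne_zero
      by_cases f1 : bf H (1 : F ≃+* F) (b + x) y₁ = 0
      swap
      · exact ⟨y₁, hy₁a, e1, f1⟩
      by_cases f2 : bf H (1 : F ≃+* F) b y₂ = 0
      swap
      · exact ⟨y₂, hy₂a, f2, e2⟩
      refine ⟨y₁ + y₂, by rw [bf_add_left, hy₁a, hy₂a, add_zero], ?_, ?_⟩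
      · rw [bf_add_right, f2, add_zero]; exact e1
      · rw [bf_add_right, f1, zero_add]; exact e2
    have h1 := move1 a b z h hza hzb
    have h2' := move1 a (b + z) (x - z) h1 (by rw [bf_sub_left, hxa, hza, sub_zero]) (by
      rw [bf_add_left, bf_sub_right, bf_sub_right, h0, bf_self_alt hH h2]
      rw [bf_add_left, bf_alt hH z x] at hzx
      intro h3
      exact hzx (by linear_combination -h3))
    rwa [show b + z + (x - z) = b + x by module] at h2'
  have indep : ∀ a b, bf H (1 : F ≃+* F) b a ≠ 0 → ∀ k : F, b ≠ k • a := fun a b h k e => h (by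
    rw [e, bf_smul_left, bf_self_alt hH h2, mul_zero])
  -- a non-orthogonal pair reaches everything
  have reach : ∀ a b, rel a b → bf H (1 : F ≃+* F) b a ≠ 0 → ∀ x, (∀ k : F, x ≠ k • a) → rel a x := by
    intro a b h hba x hx
    have ha : a ≠ 0 := fun e => hba (by rw [e, bf_alt hH, bf_zero_left, neg_zero])
    obtain ⟨y, hya, hyx⟩ := exists_pairing hH hdet ha hx (bf H 1 b a) (bf H 1 b a)
    have h1 : rel a y := by
      have := move2 a b (y - b) h ha (indep a b hba) (by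
        rw [add_sub_cancel]; exact indep a y (by rw [hya]; exact hba))
        (by rw [bf_sub_left, hya, sub_self])
      rwa [add_sub_cancel] at this
    have hy0 : y ≠ 0 := fun e => hba (by rw [← hya, e, bf_zero_left])
    have h2' := move2 y a (x - a) (symm a y h1) hy0
      (indep y a (by rw [bf_alt hH, hya]; exact neg_ne_zero.2 hba))
      (by rw [add_sub_cancel]; exact indep y x (by rw [bf_alt hH, hyx]; exact neg_ne_zero.2 hba))
      (by rw [bf_sub_left, bf_alt hH y x, bf_alt hH y a, hya, hyx, sub_self])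
    rw [add_sub_cancel] at h2'
    exact trans a y x h1 h2'
  have reach' : ∀ a b, rel a b → bf H (1 : F ≃+* F) b a ≠ 0 → ∀ x, x ≠ 0 → rel a x := by
    intro a b h hba x hx
    by_cases hk : ∀ k : F, x ≠ k • a
    · exact reach a b h hba x hk
    push Not at hk
    obtain ⟨k, rfl⟩ := hk
    have hab : bf H (1 : F ≃+* F) a b ≠ 0 := by rw [bf_alt hH]; exact neg_ne_zero.2 hba
    refine trans a b _ h (reach b a (symm a b h) hab _ fun l e => ?_)
    have := congrArg (fun z => bf H (1 : F ≃+* F) z a) e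
    simp only [bf_smul_left, bf_self_alt hH h2, mul_zero] at this
    have hl : l = 0 := (mul_eq_zero.1 this.symm).resolve_right hba
    exact hx (by rw [e, hl, zero_smul])
  have all : ∀ a b, a ≠ 0 → b ≠ 0 → rel a b := by
    have key : ∃ a b, rel a b ∧ bf H (1 : F ≃+* F) b a ≠ 0 := by
      by_cases hs : bf H (1 : F ≃+* F) w v = 0
      swap
      · exact ⟨v, w, hvw, hs⟩
      obtain ⟨y, hyv, hyw⟩ := exists_pairing hH hdet hv hw 0 1
      refine ⟨w, y, ?_, by rw [hyw]; exact one_ne_zero⟩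
      have h1 := move2 v w (y - w) hvw hv hw (fun k e => by
        rw [add_sub_cancel] at e
        rw [e, bf_smul_left, bf_alt hH w v, hs, neg_zero, mul_zero] at hyw
        exact zero_ne_one hyw) (by rw [bf_sub_left, hyv, hs, sub_self])
      rw [add_sub_cancel] at h1
      exact trans w v y (symm v w hvw) h1
    obtain ⟨a₀, b₀, h₀, hb₀⟩ := key
    intro a b ha hb
    exact trans a a₀ b (symm _ _ (reach' a₀ b₀ h₀ hb₀ a ha)) (reach' a₀ b₀ h₀ hb₀ b hb)
  obtain ⟨e, f, hef, he, hf⟩ := exists_hyperbolic hdet hn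
  obtain ⟨c, d, hcd, hX⟩ : ∃ c d : F, c * d = 2 ∧ T f c * T e d ∈ M := by
    by_cases hl : ∃ l : F, l ≠ 0 ∧ l * l ≠ 1
    · obtain ⟨l, hl0, hl1⟩ := hl
      have hall : ∀ a, a ≠ 0 → ∀ x, T a x ∈ M := by
        intro a ha x
        have := (hrel a (l • a)).1 (all a _ ha (smul_ne_zero hl0 ha)) (x / (l * l - 1))
        rw [hT, tr_smul, tr_mul] at this
        rw [← sub_eq_add_neg, ← sub_one_mul, mul_div_cancel₀ _ (sub_ne_zero.2 hl1)] at this
        rw [hT]
        exact this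
      exact ⟨2, 1, mul_one 2, M.mul_mem (hall f hf 2) (hall e he 1)⟩
    · push Not at hl
      refine ⟨1, -1, ?_, (hrel e f).1 (all e f he hf) 1⟩
      have := hl 2 h2
      linear_combination -this
  obtain ⟨k, hk, s, hs⟩ := hodd _ hX
  exact odd_pow_ne_scalar hH h2 hdet hn hef hcd hk s hs

end alt

end Cfsg.Agent.LocalEven61.FormGeom
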