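import Cfsg.Agent.LocalEven61.FormGeomOdd

/-!
Semilinear maps commuting with the half-turns in pairs of orthogonal vectors of equal value.
-/

set_option autoImplicit false

namespace Cfsg.Agent.LocalEven61.FormGeom

open Matrix Cfsg.Agent.AutPSL

universe u

variable {n : ℕ} {F : Type u} [Field F] [Fintype F] {H : Matrix (Fin n) (Fin n) F}

variable (hH : (H.map (1 : F ≃+* F))ᵀ = H) (hdet : IsUnit H.det) (h2 : (2 : F) ≠ 0)

include hH

omit [Fintype F] in
theorem bf_symm (x y : Fin n → F) : bf H (1 : F ≃+* F) y x = bf H (1 : F ≃+* F) x y :=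
  bf_swap hH (fun _ => rfl) x y

omit [Fintype F] in
include hdet h2 in
/-- An anisotropic vector orthogonal to three orthogonal anisotropic vectors. -/
theorem exists_orth_triple (hn : 4 ≤ n) {v u w : Fin n → F} (hv : bf H (1 : F ≃+* F) v v ≠ 0)
    (hu : bf H (1 : F ≃+* F) u u ≠ 0) (hw : bf H (1 : F ≃+* F) w w ≠ 0)
    (huv : bf H (1 : F ≃+* F) u v = 0) (hwv : bf H (1 : F ≃+* F) w v = 0)
    (hwu : bf H (1 : F ≃+* F) w u = 0) :
    ∃ z, bf H (1 : F ≃+* F) z v = 0 ∧ bf H (1 : F ≃+* F) z u = 0 ∧ bf H (1 : F ≃+* F) z w = 0 ∧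
      bf H (1 : F ≃+* F) z z ≠ 0 := by
  set B := bf H (1 : F ≃+* F)
  by_contra hcon
  push Not at hcon
  have hker : (((bfL H (1 : F ≃+* F) v).prod (bfL H 1 u)).prod (bfL H 1 w)).ker ≠ ⊥ :=
    LinearMap.ker_ne_bot_of_finrank_lt (by
      rw [Module.finrank_prod, Module.finrank_prod, Module.finrank_self, Module.finrank_fin_fun]; omega)
  obtain ⟨z, hz, hz0⟩ := Submodule.exists_mem_ne_zero_of_ne_bot hker
  simp only [LinearMap.mem_ker, LinearMap.prod_apply, Function.prod_apply, Prod.mk_eq_zero] at hz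
  obtain ⟨⟨hzv, hzu⟩, hzw⟩ := hz
  change B z v = 0 at hzv
  change B z u = 0 at hzu
  change B z w = 0 at hzw
  refine hz0 (eq_zero_of_bf (τ := (1 : F ≃+* F)) hdet fun y => ?_)
  obtain ⟨y', hy'⟩ : ∃ y', y' = y - (B y v / B v v) • v - (B y u / B u u) • u - (B y w / B w w) • w :=
    ⟨_, rfl⟩
  have hvu : B v u = 0 := (bf_symm hH u v).trans huv
  have hvw : B v w = 0 := (bf_symm hH w v).trans hwv
  have huw : B u w = 0 := (bf_symm hH w u).trans hwu
  have e : ∀ a, B y' a = B y a - B y v / B v v * B v a - B y u / B u u * B u a - B y w / B w w * B w a :=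
    fun a => by simp only [B, hy', bf_sub_left, bf_smul_left]
  have e1 : B y' v = 0 := by rw [e, huv, hwv, div_mul_cancel₀ _ hv]; ring
  have e2 : B y' u = 0 := by rw [e, hvu, hwu, div_mul_cancel₀ _ hu]; ring
  have e3 : B y' w = 0 := by rw [e, hvw, huw, div_mul_cancel₀ _ hw]; ring
  have e4 : B y' z = B y z := by
    rw [e, show B v z = B z v from bf_symm hH z v, show B u z = B z u from bf_symm hH z u,
      show B w z = B z w from bf_symm hH z w]
    rw [hzv, hzu, hzw]; ring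
  by_contra hne
  have ha : ∀ p q, B p v = 0 → B q v = 0 → B p u = 0 → B q u = 0 → B p w = 0 → B q w = 0 →
      B (p + q) (p + q) = 0 := fun p q a b c d e f => hcon (p + q)
        (by simp only [B, bf_add_left] at *; rw [a, b, add_zero])
        (by simp only [B, bf_add_left] at *; rw [c, d, add_zero])
        (by simp only [B, bf_add_left] at *; rw [e, f, add_zero])
  have h3 := ha y' z e1 hzv e2 hzu e3 hzw
  simp only [B, bf_add_left, bf_add_right] at h3
  rw [show bf H (1 : F ≃+* F) y' y' = 0 from hcon y' e1 e2 e3,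
    show bf H (1 : F ≃+* F) z z = 0 from hcon z hzv hzu hzw, bf_symm hH y' z] at h3
  refine hne ?_
  show B y z = 0
  rw [← e4]
  exact (mul_eq_zero.1 (show (2 : F) * B y' z = 0 by linear_combination h3)).resolve_left h2

include hdet h2

/-- A plane spanned by orthogonal anisotropic vectors represents every scalar. -/
theorem exists_value {u₁ u₂ : Fin n → F} (hu₁ : bf H (1 : F ≃+* F) u₁ u₁ ≠ 0)
    (hu₂ : bf H (1 : F ≃+* F) u₂ u₂ ≠ 0) (h12 : bf H (1 : F ≃+* F) u₂ u₁ = 0) (T : F) :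
    ∃ α β : F, bf H (1 : F ≃+* F) (α • u₁ + β • u₂) (α • u₁ + β • u₂) = T := by
  obtain ⟨α, β, h, -⟩ := exists_norm_sum (τ := (1 : F ≃+* F)) (fun _ => rfl) h2 (d := bf H 1 u₁ u₁)
    (c := bf H 1 u₂ u₂) (T := T) 0 hu₁ hu₂ rfl rfl
  refine ⟨α, β, ?_⟩
  simp only [bf_add_left, bf_add_right, bf_smul_left, bf_smul_right, RingAut.one_apply] at h ⊢
  rw [h12, bf_symm hH u₂ u₁, h12]
  linear_combination h

/-- A vector of given value orthogonal to an anisotropic vector. -/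
theorem exists_orth_value (hn : 3 ≤ n) {v : Fin n → F} (hv : bf H (1 : F ≃+* F) v v ≠ 0) (T : F) :
    ∃ u, bf H (1 : F ≃+* F) u v = 0 ∧ bf H (1 : F ≃+* F) u u = T := by
  obtain ⟨u₁, hu₁, hu₁v⟩ := exists_aniso_orth hH (fun _ => rfl) hdet h2 hn (x := v)
  obtain ⟨u₂, hu₂v, hu₂u₁, hu₂⟩ := exists_orth_pair hH (fun _ => rfl) hdet hn h2 hv hu₁ hu₁v
  obtain ⟨α, β, h⟩ := exists_value hH hdet h2 hu₁ hu₂ hu₂u₁ T
  exact ⟨_, by rw [bf_add_left, bf_smul_left, bf_smul_left, hu₁v, hu₂v]; ring, h⟩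

omit hdet in
/-- A map commuting with a half-turn keeps its plane. -/
theorem span_of_comm (g : GL (Fin n) F) (σ : F ≃+* F) {u v : Fin n → F}
    (hv : bf H (1 : F ≃+* F) v v ≠ 0) (huv : bf H (1 : F ≃+* F) u v = 0)
    (h : ∀ x, app g σ ((rflM H (1 : F ≃+* F) u * rflM H 1 v) *ᵥ x) =
      (rflM H (1 : F ≃+* F) u * rflM H 1 v) *ᵥ app g σ x) :
    ∃ a b : F, app g σ v = a • u + b • v := by
  have e := h v
  rw [← mulVec_mulVec, rflM_apply_self hv, mulVec_neg, rflM_apply_orth (by rw [bf_symm hH u v]; exact huv),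
    ← mulVec_mulVec] at e
  have hneg : app g σ (-v) = -app g σ v := by
    rw [← neg_one_smul F v, app_smul, map_neg, map_one, neg_one_smul]
  rw [hneg] at e
  generalize app g σ v = X at e ⊢
  rw [rflM_mulVec, rflM_mulVec] at e
  obtain ⟨A, hA⟩ : ∃ A : F, 2 * bf H (1 : F ≃+* F) (X - (2 * bf H 1 X v / bf H 1 v v) • v) u /
      bf H 1 u u = A := ⟨_, rfl⟩
  rw [hA] at e
  obtain ⟨B, hB⟩ : ∃ B : F, 2 * bf H (1 : F ≃+* F) X v / bf H 1 v v = B := ⟨_, rfl⟩
  rw [hB] at e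
  refine ⟨A / 2, B / 2, ?_⟩
  rw [← smul_right_injective (Fin n → F) h2 |>.eq_iff, smul_add, smul_smul, smul_smul,
    mul_div_cancel₀ _ h2, mul_div_cancel₀ _ h2]
  linear_combination (norm := module) -e

/-- A semilinear map commuting with the half-turns of pairs of equal value is scalar. -/
theorem scalar_of_equal_turns (hn : 4 ≤ n) (g : GL (Fin n) F) (σ : F ≃+* F)
    (h : ∀ u v : Fin n → F, bf H (1 : F ≃+* F) v v ≠ 0 →
      bf H (1 : F ≃+* F) u u = bf H (1 : F ≃+* F) v v → bf H (1 : F ≃+* F) u v = 0 →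
      ∀ x, app g σ ((rflM H (1 : F ≃+* F) u * rflM H 1 v) *ᵥ x) =
        (rflM H (1 : F ≃+* F) u * rflM H 1 v) *ᵥ app g σ x) :
    σ = 1 ∧ ∃ c : F, c ≠ 0 ∧ (g : Matrix (Fin n) (Fin n) F) = c • 1 := by
  have hlines : ∀ v : Fin n → F, bf H (1 : F ≃+* F) v v ≠ 0 →
      ∃ ν : F, app g σ (⇑(RingHom.id F) ∘ v) = ν • (⇑(RingHom.id F) ∘ v) := by
    intro v hv
    obtain ⟨u, huv, hu⟩ := exists_orth_value hH hdet h2 (by omega) hv (bf H (1 : F ≃+* F) v v)
    have hu0 : bf H (1 : F ≃+* F) u u ≠ 0 := by rw [hu]; exact hv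
    obtain ⟨z₁, hz₁v, hz₁u, hz₁⟩ := exists_orth_pair hH (fun _ => rfl) hdet (by omega) h2 hv hu0 huv
    obtain ⟨z₂, hz₂v, hz₂u, hz₂z₁, hz₂⟩ := exists_orth_triple hH hdet h2 hn hv hu0 hz₁ huv hz₁v hz₁u
    obtain ⟨α, β, hu'⟩ := exists_value hH hdet h2 hz₁ hz₂ hz₂z₁ (bf H (1 : F ≃+* F) v v)
    obtain ⟨u', hu'd⟩ : ∃ u', u' = α • z₁ + β • z₂ := ⟨_, rfl⟩
    rw [← hu'd] at hu'
    have hu'v : bf H (1 : F ≃+* F) u' v = 0 := by
      rw [hu'd, bf_add_left, bf_smul_left, bf_smul_left, hz₁v, hz₂v]; ring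
    have hu'u : bf H (1 : F ≃+* F) u' u = 0 := by
      rw [hu'd, bf_add_left, bf_smul_left, bf_smul_left, hz₁u, hz₂u]; ring
    obtain ⟨a, b, e1⟩ := span_of_comm hH h2 g σ hv huv (h u v hv hu huv)
    obtain ⟨a', b', e2⟩ := span_of_comm hH h2 g σ hv hu'v (h u' v hv hu' hu'v)
    refine ⟨b, ?_⟩
    show app g σ v = b • v
    rw [e1] at e2 ⊢
    have := congrArg (fun z => bf H (1 : F ≃+* F) z u) e2
    simp only [bf_add_left, bf_smul_left, bf_symm hH u v, huv, hu'u, hu, mul_zero, add_zero] at this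
    rw [(mul_eq_zero.1 this).resolve_right hv, zero_smul, zero_add]
  obtain ⟨hc, hσ⟩ := scalar_of_lines (RingHom.id F) (by omega) g σ
    (lines_of_aniso hH (fun _ => rfl) hdet h2 (by omega) (RingHom.id F) g σ hlines)
  exact ⟨RingEquiv.ext hσ, hc⟩

end Cfsg.Agent.LocalEven61.FormGeom
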