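import Cfsg.Agent.LocalEven61.FormGeom

/-!
Similitude groups of odd order modulo scalars normalised by all isometries; half-turns.
-/

set_option autoImplicit false

namespace Cfsg.Agent.LocalEven61.FormGeom

open Matrix Cfsg.Agent.AutPSL

universe u v

variable {n : ℕ} {F : Type u} [Field F] [Fintype F]
  {H : Matrix (Fin n) (Fin n) F} {τ : F ≃+* F}

/-- Representation of an element of the fixed field by a binary hermitian form. -/
theorem exists_norm_sum (hτ : ∀ a, τ (τ a) = a) (h2 : (2 : F) ≠ 0) {d c T : F} (a : F) (hd : d ≠ 0)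
    (hc : c ≠ 0) (hdf : τ d = d) (hT : τ T = T) :
    ∃ α β, α * τ α * d + β * τ β * c = T ∧ α * τ β * τ a = τ α * β * a := by
  classical
  by_cases h1 : τ = 1
  · subst h1
    have hodd : Fintype.card F % 2 = 1 := by
      refine FiniteField.odd_card_of_char_ne_two fun h => h2 ?_
      haveI := ringChar.of_eq h
      exact CharTwo.two_eq_zero
    obtain ⟨α, β, h⟩ := FiniteField.exists_root_sum_quadratic
      (f := Polynomial.C d * Polynomial.X ^ 2) (g := Polynomial.C c * Polynomial.X ^ 2 - Polynomial.C T)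
      (Polynomial.degree_C_mul_X_pow 2 hd)
      (by
        rw [Polynomial.degree_sub_eq_left_of_degree_lt, Polynomial.degree_C_mul_X_pow 2 hc]
        · rfl
        · rw [Polynomial.degree_C_mul_X_pow 2 hc]
          exact lt_of_le_of_lt Polynomial.degree_C_le (by decide)) hodd
    refine ⟨α, β, ?_, by simp⟩
    simp at h ⊢
    linear_combination h
  · refine (Classical.em (T = 0)).elim (fun h0 => ⟨0, 0, by simp [h0]⟩) fun h0 => ?_
    have ho : orderOf τ = 2 := orderOf_eq_prime (RingEquiv.ext fun a => by rw [pow_two]; exact hτ a) h1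
    obtain ⟨e, he⟩ := exists_norm_eq τ (Units.mk0 (T / d) (div_ne_zero h0 hd))
      (by rw [Units.val_mk0, map_div₀, hT, hdf])
    refine ⟨e, 0, ?_, by simp⟩
    have := congrArg Units.val he
    rw [ho, normU_two, Units.val_mk0] at this
    rw [this, div_mul_cancel₀ _ hd]; simp

section orth

variable (hH : (H.map τ)ᵀ = H) (hτ : ∀ a, τ (τ a) = a) (hdet : IsUnit H.det) (h2 : (2 : F) ≠ 0)
  (hn : 3 ≤ n)

include hH hτ hdet h2 hn

/-- The product of two reflections moves some anisotropic vector to an orthogonal one. -/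
theorem exists_orth_image {v w : Fin n → F} (hv : bf H τ v v ≠ 0) (hw : bf H τ w w ≠ 0)
    (hne : ∀ a : F, w ≠ a • v) :
    ∃ y, bf H τ y y ≠ 0 ∧ bf H τ (rflM H τ w *ᵥ (rflM H τ v *ᵥ y)) y = 0 := by
  obtain ⟨a, ha⟩ : ∃ a, a = bf H τ w v / bf H τ v v := ⟨_, rfl⟩
  obtain ⟨u, hu⟩ : ∃ u, u = w - a • v := ⟨_, rfl⟩
  have huv : bf H τ u v = 0 := by rw [hu, bf_sub_left, bf_smul_left, ha, div_mul_cancel₀ _ hv, sub_self]
  have hvu : bf H τ v u = 0 := by rw [bf_swap hH hτ, huv, map_zero]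
  have hu0 : u ≠ 0 := fun h => hne a (sub_eq_zero.1 (hu ▸ h))
  have hwe : w = a • v + u := by rw [hu]; module
  have hd : τ (bf H τ v v) = bf H τ v v := (bf_swap hH hτ v v).symm
  have hcf : τ (bf H τ u u) = bf H τ u u := (bf_swap hH hτ u u).symm
  have hvw : bf H τ v w = τ a * bf H τ v v := by
    rw [hwe, bf_add_right, bf_smul_right, hvu, add_zero]
  have he : bf H τ w w = a * τ a * bf H τ v v + bf H τ u u := by
    rw [hwe, bf_add_left, bf_add_right, bf_add_right, bf_smul_left, bf_smul_left, bf_smul_right,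
      bf_smul_right, huv, hvu]
    ring
  -- the value of `B(ρ y, y)`
  have key : ∀ y, bf H τ (rflM H τ w *ᵥ (rflM H τ v *ᵥ y)) y =
      bf H τ y y - 2 * bf H τ y v / bf H τ v v * bf H τ v y -
        2 * (bf H τ y w - 2 * bf H τ y v / bf H τ v v * bf H τ v w) / bf H τ w w * bf H τ w y := by
    intro y
    rw [rflM_mulVec w, rflM_mulVec v, bf_sub_left, bf_sub_left, bf_smul_left, bf_smul_left,
      bf_sub_left, bf_smul_left]
  by_cases hc : bf H τ u u = 0
  · obtain ⟨y₀, hy₀⟩ := exists_bf_eq (τ := τ) hdet hu0 1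
    obtain ⟨k, hk⟩ : ∃ k, k = y₀ - (bf H τ y₀ v / bf H τ v v) • v := ⟨_, rfl⟩
    have hkv : bf H τ k v = 0 := by
      rw [hk, bf_sub_left, bf_smul_left, div_mul_cancel₀ _ hv, sub_self]
    have hku : bf H τ k u = 1 := by rw [hk, bf_sub_left, bf_smul_left, hvu, mul_zero, sub_zero, hy₀]
    have huk : bf H τ u k = 1 := by rw [bf_swap hH hτ k u, hku, map_one]
    obtain ⟨γ, hγ⟩ : ∃ γ, γ = (2 / bf H τ w w - bf H τ k k) / 2 := ⟨_, rfl⟩
    have hγf : τ γ = γ := by
      rw [hγ, map_div₀, map_sub, map_div₀, map_ofNat, ← bf_swap hH hτ, ← bf_swap hH hτ]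
    have hyy : bf H τ (k + γ • u) (k + γ • u) = 2 / bf H τ w w := by
      rw [bf_add_left, bf_add_right, bf_add_right, bf_smul_left, bf_smul_left, bf_smul_right,
        bf_smul_right, hku, huk, hc, hγf, hγ]
      field_simp
      ring
    have hyv : bf H τ (k + γ • u) v = 0 := by rw [bf_add_left, bf_smul_left, hkv, huv]; ring
    have hyw : bf H τ (k + γ • u) w = 1 := by
      rw [hwe, bf_add_right, bf_smul_right, hyv, bf_add_left, bf_smul_left, hku, hc]; ring
    refine ⟨k + γ • u, by rw [hyy]; exact div_ne_zero h2 hw, ?_⟩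
    rw [key, hyv, hyw, hyy, bf_swap hH hτ (k + γ • u) w, hyw, map_one]
    ring
  · by_cases hC : a * τ a * bf H τ v v - bf H τ u u = 0
    · refine ⟨v, hv, ?_⟩
      rw [key, hvw, bf_swap hH hτ v w, hvw, map_mul, hd, hτ]
      field_simp
      linear_combination -(bf H τ v v) * he + (bf H τ v v) * hC
    · obtain ⟨z, hzv, hzu, hz⟩ := exists_orth_pair hH hτ hdet hn h2 hv hc huv
      have hvz : bf H τ v z = 0 := by rw [bf_swap hH hτ, hzv, map_zero]
      have huz : bf H τ u z = 0 := by rw [bf_swap hH hτ, hzu, map_zero]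
      obtain ⟨T, hT⟩ : ∃ T, T = -bf H τ z z * bf H τ w w / (a * τ a * bf H τ v v - bf H τ u u) :=
        ⟨_, rfl⟩
      have hTf : τ T = T := by
        rw [hT, map_div₀, map_mul, map_neg, map_sub, map_mul, map_mul, hτ, hd, hcf,
          ← bf_swap hH hτ, ← bf_swap hH hτ, mul_comm (τ a) a]
      obtain ⟨α, β, h1, h1'⟩ := exists_norm_sum hτ h2 a hv hc hd hTf
      obtain ⟨y, hy⟩ : ∃ y, y = z + α • v + β • u := ⟨_, rfl⟩
      have hyv : bf H τ y v = α * bf H τ v v := by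
        rw [hy, bf_add_left, bf_add_left, bf_smul_left, bf_smul_left, hzv, huv]; ring
      have hyu : bf H τ y u = β * bf H τ u u := by
        rw [hy, bf_add_left, bf_add_left, bf_smul_left, bf_smul_left, hzu, hvu]; ring
      have hyw : bf H τ y w = τ a * (α * bf H τ v v) + β * bf H τ u u := by
        rw [hwe, bf_add_right, bf_smul_right, hyv, hyu]
      have hzy : bf H τ z y = bf H τ z z := by
        rw [hy, bf_add_right, bf_add_right, bf_smul_right, bf_smul_right, hzv, hzu]; ring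
      have hvy : bf H τ v y = τ α * bf H τ v v := by rw [bf_swap hH hτ y v, hyv, map_mul, hd]
      have hwy : bf H τ w y = a * (τ α * bf H τ v v) + τ β * bf H τ u u := by
        rw [bf_swap hH hτ y w, hyw, map_add, map_mul, map_mul, map_mul, hτ, hd, hcf]
      have hyy : bf H τ y y = bf H τ z z + T := by
        rw [← h1]
        nth_rw 1 [hy]
        rw [bf_add_left, bf_add_left, bf_smul_left, bf_smul_left, hzy, hvy,
          bf_swap hH hτ y u, hyu, map_mul, hcf]
        ring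
      refine ⟨y, ?_, ?_⟩
      · rw [hyy, hT]
        intro h0
        field_simp at h0
        have : bf H τ z z * (-2 * bf H τ u u) = 0 := by linear_combination h0 + bf H τ z z * he
        rcases mul_eq_zero.1 this with h' | h'
        · exact hz h'
        · rcases mul_eq_zero.1 h' with h'' | h''
          · exact h2 (neg_eq_zero.1 h'')
          · exact hc h''
      · rw [key, hyy, hyv, hyw, hvw, hvy, hwy]
        have hTC : T * (a * τ a * bf H τ v v - bf H τ u u) = -bf H τ z z * bf H τ w w := by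
          rw [hT, div_mul_cancel₀ _ hC]
        field_simp
        linear_combination hTC + (-2 * bf H τ u u) * h1
          + (2 * bf H τ v v * bf H τ u u) * h1' + (T - α * τ α * bf H τ v v * 2) * he

/-- A group of similitudes of odd order modulo scalars, normalised by the isometries, is scalar. -/
theorem scalar_of_odd_orth (M : Subgroup (GL (Fin n) F))
    (hsim : ∀ m ∈ M, ∃ μ, IsSimil H τ m μ)
    (hnorm : ∀ h, IsSimil H τ h 1 → ∀ m ∈ M, h * m * h⁻¹ ∈ M)
    (hodd : ∀ m ∈ M, ∃ k, Odd k ∧ ∃ c : F, ((m ^ k : GL (Fin n) F) : Matrix (Fin n) (Fin n) F) = c • 1) :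
    ∀ m ∈ M, ∃ c : F, (m : Matrix (Fin n) (Fin n) F) = c • 1 := by
  haveI : NeZero n := ⟨by omega⟩
  -- `g R g⁻¹ R = R' R` lies in `M`
  have step : ∀ g ∈ M, ∀ v (hv : bf H τ v v ≠ 0),
      ∃ hw : bf H τ ((g : Matrix (Fin n) (Fin n) F) *ᵥ v) ((g : Matrix (Fin n) (Fin n) F) *ᵥ v) ≠ 0,
        rfl' H τ _ hw * rfl' H τ v hv ∈ M := by
    intro g hg v hv
    obtain ⟨μ, hμ⟩ := hsim g hg
    have hμ0 := hμ.ne_zero hdet
    have hw : bf H τ ((g : Matrix (Fin n) (Fin n) F) *ᵥ v) ((g : Matrix (Fin n) (Fin n) F) *ᵥ v) ≠ 0 := by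
      rw [hμ]; exact mul_ne_zero hμ0 hv
    refine ⟨hw, ?_⟩
    have hinv : (rfl' H τ v hv)⁻¹ = rfl' H τ v hv := inv_eq_of_mul_eq_one_right (Units.ext (rflM_sq hv))
    have h := M.mul_mem hg (hnorm _ (rfl'_isSimil hH hτ hv) _ (M.inv_mem hg))
    rw [← conj_rfl' hμ hμ0 hv hw]
    rw [hinv] at h
    simpa only [mul_assoc] using h
  intro m hm
  by_contra hcon
  push Not at hcon
  obtain ⟨v, hv, hne⟩ : ∃ v, bf H τ v v ≠ 0 ∧ ∀ a : F, (m : Matrix (Fin n) (Fin n) F) *ᵥ v ≠ a • v := by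
    by_contra hc
    push Not at hc
    have hl : ∀ x, ∃ ν : F, app m 1 (⇑(RingHom.id F) ∘ x) = ν • (⇑(RingHom.id F) ∘ x) := fun x =>
      lines_of_aniso hH hτ hdet h2 hn (RingHom.id F) m 1 (fun y hy => hc y hy) x
    obtain ⟨⟨c, -, hc'⟩, -⟩ := scalar_of_lines (RingHom.id F) (by omega) m 1 hl
    exact hcon c hc'
  obtain ⟨hw, hρ⟩ := step m hm v hv
  obtain ⟨y, hy, hyo⟩ := exists_orth_image hH hτ hdet h2 hn hv hw hne
  obtain ⟨hz, hx⟩ := step _ hρ y hy
  have hzy : ((rfl' H τ _ hw * rfl' H τ v hv : GL (Fin n) F) : Matrix (Fin n) (Fin n) F) *ᵥ y =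
      rflM H τ ((m : Matrix (Fin n) (Fin n) F) *ᵥ v) *ᵥ (rflM H τ v *ᵥ y) := by
    rw [Units.val_mul, ← mulVec_mulVec]; rfl
  generalize hzdef : ((rfl' H τ _ hw * rfl' H τ v hv : GL (Fin n) F) : Matrix (Fin n) (Fin n) F) *ᵥ y = z at hz hx hzy
  rw [← hzy] at hyo
  have hyz : bf H τ y z = 0 := by rw [bf_swap hH hτ, hyo, map_zero]
  obtain ⟨t, htz, hty, ht⟩ := exists_orth_pair hH hτ hdet hn h2 hz hy hyz
  obtain ⟨k, hk, c, hkc⟩ := hodd _ hx
  set X := rfl' H τ z hz * rfl' H τ y hy with hX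
  have hXy : (X : Matrix (Fin n) (Fin n) F) *ᵥ y = -y := by
    rw [hX, Units.val_mul, ← mulVec_mulVec]
    show rflM H τ z *ᵥ (rflM H τ y *ᵥ y) = _
    rw [rflM_apply_self hy, mulVec_neg, rflM_apply_orth hyz]
  have hXt : (X : Matrix (Fin n) (Fin n) F) *ᵥ t = t := by
    rw [hX, Units.val_mul, ← mulVec_mulVec]
    show rflM H τ z *ᵥ (rflM H τ y *ᵥ t) = _
    rw [rflM_apply_orth hty, rflM_apply_orth htz]
  have hpow : ∀ j, ((X ^ j : GL (Fin n) F) : Matrix (Fin n) (Fin n) F) *ᵥ y = (-1 : F) ^ j • y ∧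
      ((X ^ j : GL (Fin n) F) : Matrix (Fin n) (Fin n) F) *ᵥ t = t := by
    intro j
    induction j with
    | zero => simp
    | succ j ih =>
      rw [pow_succ' X, Units.val_mul, ← mulVec_mulVec, ← mulVec_mulVec, ih.1, ih.2, mulVec_smul, hXy,
        hXt, smul_neg, pow_succ, mul_neg_one, neg_smul]
      exact ⟨rfl, rfl⟩
  obtain ⟨e1, e2⟩ := hpow k
  rw [hkc, smul_mulVec, one_mulVec] at e1 e2
  rw [hk.neg_one_pow] at e1
  have ec : c = 1 := by
    by_contra hc1
    have : (c - 1) • t = 0 := by rw [sub_smul, e2, one_smul, sub_self]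
    rcases smul_eq_zero.1 this with h | h
    · exact hc1 (sub_eq_zero.1 h)
    · exact ht (by rw [h, bf_zero_left])
  rw [ec, one_smul] at e1
  have : (2 : F) • y = 0 := by rw [two_smul]; nth_rw 1 [e1]; module
  rcases smul_eq_zero.1 this with h | h
  · exact h2 h
  · exact hy (by rw [h, bf_zero_left])

/-- A half-turn commuting up to sign with a semilinear map of odd order commutes with it. -/
theorem lines_of_half_turns {E : Type v} [Field E] (i : F →+* E) (g : GL (Fin n) E) (σ : E ≃+* E)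
    (h : ∀ u v : Fin n → F, bf H τ u u ≠ 0 → bf H τ v v ≠ 0 → bf H τ u v = 0 → ∀ x : Fin n → E,
      app g σ ((rflM H τ u * rflM H τ v).map i *ᵥ x) = (rflM H τ u * rflM H τ v).map i *ᵥ app g σ x)
    (x : Fin n → F) : ∃ ν : E, app g σ (⇑i ∘ x) = ν • (⇑i ∘ x) := by
  refine lines_of_aniso hH hτ hdet h2 hn i g σ (fun v hv => ?_) x
  -- the image of `v` is negated by each half-turn through `v`
  have span : ∀ u : Fin n → F, bf H τ u u ≠ 0 → bf H τ u v = 0 →
      ∃ a b : E, app g σ (⇑i ∘ v) = a • (⇑i ∘ u) + b • (⇑i ∘ v) := by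
    intro u hu huv
    have e := h u v hu hv huv (⇑i ∘ v)
    have hneg : (rflM H τ u * rflM H τ v).map i *ᵥ (⇑i ∘ v) = -(⇑i ∘ v) := by
      funext k
      rw [← RingHom.map_mulVec i _ v k, ← mulVec_mulVec, rflM_apply_self hv, mulVec_neg,
        rflM_apply_orth (by rw [bf_swap hH hτ, huv, map_zero]), Pi.neg_apply, map_neg]
      rfl
    rw [hneg] at e
    have hnegT : app g σ (-(⇑i ∘ v)) = -app g σ (⇑i ∘ v) := by
      rw [← neg_one_smul E (⇑i ∘ v), app_smul, map_neg, map_one, neg_one_smul]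
    rw [hnegT] at e
    generalize app g σ (⇑i ∘ v) = X at e ⊢
    obtain ⟨A, hA⟩ : ∃ A : Fin n → E, A = ⇑i ∘ ((-2 / bf H τ u u) • (H *ᵥ (⇑τ ∘ u))) := ⟨_, rfl⟩
    obtain ⟨B, hB⟩ : ∃ B : Fin n → E, B = ⇑i ∘ ((-2 / bf H τ v v) • (H *ᵥ (⇑τ ∘ v))) := ⟨_, rfl⟩
    have hmap : ∀ (a b : Fin n → F), (tauM a b).map i = tauM (⇑i ∘ a) (⇑i ∘ b) := fun a b => by
      ext k l
      simp [tauM, vecMulVec_apply, Matrix.one_apply, apply_ite i]
    rw [Matrix.map_mul, ← mulVec_mulVec, rflM, rflM, hmap, hmap, tauM_mulVec, tauM_mulVec,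
      ← hA, ← hB] at e
    refine ⟨-(A ⬝ᵥ (X + (B ⬝ᵥ X) • (⇑i ∘ v))) / 2, -(B ⬝ᵥ X) / 2, ?_⟩
    have h2E : (2 : E) ≠ 0 := by
      rw [← map_ofNat i]; exact (map_ne_zero i).2 h2
    have e' : (2 : E) • X = -(A ⬝ᵥ (X + (B ⬝ᵥ X) • (⇑i ∘ v))) • (⇑i ∘ u) + -(B ⬝ᵥ X) • (⇑i ∘ v) := by
      linear_combination (norm := module) -e
    rw [← smul_right_injective (Fin n → E) h2E |>.eq_iff, e', smul_add, smul_smul, smul_smul,
      mul_div_cancel₀ _ h2E, mul_div_cancel₀ _ h2E]
  obtain ⟨u, hu, huv⟩ := exists_aniso_orth hH hτ hdet h2 hn (x := v)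
  have hvu : bf H τ v u = 0 := by rw [bf_swap hH hτ, huv, map_zero]
  obtain ⟨u', hu'v, hu'u, hu'⟩ := exists_orth_pair hH hτ hdet hn h2 hv hu huv
  obtain ⟨a, b, e1⟩ := span u hu huv
  obtain ⟨a', b', e2⟩ := span u' hu' hu'v
  refine ⟨b, ?_⟩
  rw [e1] at e2 ⊢
  suffices ha : a = 0 by rw [ha, zero_smul, zero_add]
  -- apply the functional of `u`
  obtain ⟨A, hA⟩ : ∃ A : Fin n → E, A = ⇑i ∘ (H *ᵥ (⇑τ ∘ u)) := ⟨_, rfl⟩
  have hval : ∀ z : Fin n → F, A ⬝ᵥ (⇑i ∘ z) = i (bf H τ z u) := fun z => by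
    rw [hA, bf, dotProduct_comm z, RingHom.map_dotProduct]
  have := congrArg (A ⬝ᵥ ·) e2
  simp only [dotProduct_add, dotProduct_smul, smul_eq_mul, hval, hvu, hu'u, map_zero, mul_zero,
    add_zero] at this
  exact (mul_eq_zero.1 this).resolve_right ((map_ne_zero i).2 hu)

end orth

end Cfsg.Agent.LocalEven61.FormGeom
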