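import Mathlib.GroupTheory.GroupAction.Quotient
import Mathlib.GroupTheory.PGroup
import Mathlib.GroupTheory.Index
import Mathlib.GroupTheory.OrderOfElement
import Mathlib.Data.Set.Card

/-!
A free orbit count: an element of prime power order `r` acting on a `p`-group forces `r ∣ p ^ k - 1`.
-/

set_option autoImplicit false
set_option linter.style.haveILetI false

namespace Cfsg.Agent.LocalEven61

variable {G : Type*} [Group G] [Finite G]

theorem dvd_pow_relIndex_sub_one {p ℓ e : ℕ} [Fact p.Prime] (hℓ : ℓ.Prime) (hne : ℓ ≠ p)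
    (V : Subgroup G) (hV : IsPGroup p ↥V) (y : G) (hyV : y ∈ Subgroup.normalizer (V : Set G))
    (hord : orderOf y = ℓ ^ (e + 1))
    (hz : y ^ (ℓ ^ e) ∉ Subgroup.centralizer (V : Set G)) :
    ∃ k, 0 < k ∧ (V ⊓ Subgroup.centralizer ({y ^ (ℓ ^ e)} : Set G)).relIndex V = p ^ k ∧
      ℓ ^ (e + 1) ∣ p ^ k - 1 := by
  classical
  set z := y ^ (ℓ ^ e) with hzdef
  set W := V ⊓ Subgroup.centralizer ({z} : Set G) with hW
  obtain ⟨k, hk⟩ := hV.index (W.subgroupOf V)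
  have hk' : W.relIndex V = p ^ k := hk
  have hWV : W ≤ V := inf_le_left
  have hkpos : 0 < k := by
    rcases Nat.eq_zero_or_pos k with h0 | h0
    · exfalso
      apply hz
      rw [h0, pow_zero, Subgroup.relIndex_eq_one] at hk'
      exact Subgroup.mem_centralizer_iff.2 fun v hv =>
        (Subgroup.mem_centralizer_singleton_iff.1 (hk' hv).2).symm ▸ rfl
    · exact h0
  refine ⟨k, hkpos, hk', ?_⟩
  set X : Set G := (V : Set G) \ (W : Set G) with hX
  have hzy : y * z = z * y := (Commute.self_pow y (ℓ ^ e)).eq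
  have hWy : ∀ g ∈ Subgroup.zpowers y, ∀ x, x ∈ X → g * x * g⁻¹ ∈ X := by
    intro g hg x hx
    have hgV : g ∈ Subgroup.normalizer (V : Set G) := Subgroup.zpowers_le.2 hyV hg
    refine ⟨((Subgroup.mem_normalizer_iff.1 hgV) x).1 hx.1, fun hW' => hx.2 ⟨hx.1, ?_⟩⟩
    have h1 := Subgroup.mem_centralizer_singleton_iff.1 hW'.2
    obtain ⟨j, rfl⟩ := Subgroup.mem_zpowers_iff.1 hg
    have hzj : Commute (y ^ j) z := (Commute.self_pow y (ℓ ^ e)).zpow_left j
    refine Subgroup.mem_centralizer_singleton_iff.2 (Eq.symm ?_)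
    calc z * x = (y ^ j)⁻¹ * ((y ^ j) * z) * x := by group
      _ = (y ^ j)⁻¹ * (z * (y ^ j)) * x := by rw [hzj.eq]
      _ = (y ^ j)⁻¹ * (z * (y ^ j * x * (y ^ j)⁻¹)) * y ^ j := by group
      _ = (y ^ j)⁻¹ * (y ^ j * x * (y ^ j)⁻¹ * z) * y ^ j := by rw [h1]
      _ = x * ((y ^ j)⁻¹ * (z * y ^ j)) := by group
      _ = x * ((y ^ j)⁻¹ * (y ^ j * z)) := by rw [hzj.eq]
      _ = x * z := by group
  letI act : MulAction ↥(Subgroup.zpowers y) ↥X :=
    { smul := fun g x => ⟨(g : G) * x * (g : G)⁻¹, hWy g g.2 x x.2⟩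
      one_smul := fun x => Subtype.ext (show ((1 : ↥(Subgroup.zpowers y)) : G) * x * _ = x by simp)
      mul_smul := fun g h x => Subtype.ext (show ((g * h : ↥(Subgroup.zpowers y)) : G) * x * _ =
        (g : G) * ((h : G) * x * (h : G)⁻¹) * (g : G)⁻¹ by simp [mul_assoc]) }
  have hfree : ∀ x : ↥X, MulAction.stabilizer ↥(Subgroup.zpowers y) x = ⊥ := by
    intro x
    rw [Subgroup.eq_bot_iff_forall]
    rintro ⟨g, hg⟩ hgx
    obtain ⟨j, rfl⟩ := Subgroup.mem_zpowers_iff.1 hg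
    by_contra hne1
    have hfix : Commute (y ^ j) (x : G) := by
      have h1 : y ^ j * (x : G) * (y ^ j)⁻¹ = x := congrArg Subtype.val hgx
      exact mul_inv_eq_iff_eq_mul.1 h1
    have hj : ¬ ((ℓ ^ (e + 1) : ℕ) : ℤ) ∣ j := fun hd => hne1 (Subtype.ext (by
      rw [← hord] at hd
      simpa using orderOf_dvd_iff_zpow_eq_one.1 hd))
    obtain ⟨i, hi, hgcd⟩ := (Nat.dvd_prime_pow hℓ).1 (Int.gcd_dvd_natAbs_right j (ℓ ^ (e + 1) : ℕ))
    have hie : i ≤ e := by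
      by_contra hlt
      apply hj
      have := Int.gcd_dvd_left j ((ℓ ^ (e + 1) : ℕ) : ℤ)
      rwa [show Int.gcd j ((ℓ ^ (e + 1) : ℕ) : ℤ) = ℓ ^ (e + 1) by rw [hgcd]; congr 1; omega] at this
    apply x.2.2
    refine ⟨x.2.1, Subgroup.mem_centralizer_singleton_iff.2 ?_⟩
    have hbez : y ^ (ℓ ^ i) = (y ^ j) ^ (Int.gcdA j ((ℓ ^ (e + 1) : ℕ) : ℤ)) := by
      have h1 := Int.gcd_eq_gcd_ab j ((ℓ ^ (e + 1) : ℕ) : ℤ)
      rw [hgcd] at h1
      rw [← zpow_natCast, h1, zpow_add, zpow_mul, zpow_mul, zpow_natCast, ← hord, pow_orderOf_eq_one]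
      simp
    have hzi : z = (y ^ (ℓ ^ i)) ^ (ℓ ^ (e - i)) := by
      rw [hzdef, ← pow_mul, ← pow_add, Nat.add_sub_cancel' hie]
    rw [hzi, hbez]
    exact ((hfix.zpow_left _).pow_left _).eq.symm
  have hcard : ℓ ^ (e + 1) ∣ Nat.card ↥X := by
    rw [Nat.card_congr (MulAction.selfEquivOrbitsQuotientProd hfree), Nat.card_prod,
      Nat.card_zpowers, hord]
    exact dvd_mul_left _ _
  have hX' : Nat.card ↥X = Nat.card ↥W * (p ^ k - 1) := by
    have h1 : Nat.card ↥W * p ^ k = Nat.card ↥V := by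
      rw [← hk', ← Subgroup.relIndex_bot_left, ← Subgroup.relIndex_bot_left,
        Subgroup.relIndex_mul_relIndex _ _ _ bot_le hWV]
    rw [hX, Nat.card_coe_set_eq, Set.ncard_sdiff (SetLike.coe_subset_coe.2 hWV),
      ← Nat.card_coe_set_eq, ← Nat.card_coe_set_eq, SetLike.coe_sort_coe, SetLike.coe_sort_coe,
      Nat.mul_sub, mul_one, h1]
  obtain ⟨w, hw⟩ := IsPGroup.iff_card.1 (hV.to_le hWV)
  rw [hX', hw] at hcard
  exact (Nat.Coprime.pow _ _ ((Nat.coprime_primes hℓ Fact.out).2 hne)).dvd_of_dvd_mul_left hcard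

end Cfsg.Agent.LocalEven61
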