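import Cfsg.Agent.LocalEven61.FreeOrbit
import Mathlib.GroupTheory.GroupAction.Quotient

/-!
The orbit count for an element whose image in a quotient has prime power order.
-/

set_option autoImplicit false
set_option linter.style.haveILetI false

namespace Cfsg.Agent.LocalEven61

variable {G : Type*} [Group G] [Finite G]

/-- If `y` maps to an element of order `ℓ ^ (e + 1)` in `G / K` and `C(V) ≤ K`, then `ℓ ^ (e + 1)`
divides `p ^ k - 1`, where `p ^ k` is the index of the fixed points of some power of `y`. -/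
theorem dvd_pow_relIndex_sub_one_of_image {p ℓ e : ℕ} [Fact p.Prime] (hℓ : ℓ.Prime) (hne : ℓ ≠ p)
    (V : Subgroup G) [V.Normal] (hV : IsPGroup p ↥V) {K : Subgroup G} [K.Normal]
    (hK : Subgroup.centralizer (V : Set G) ≤ K) {y : G}
    (hord : ℓ ^ (e + 1) ∣ orderOf (QuotientGroup.mk y : G ⧸ K)) :
    ∃ k j, 0 < k ∧ ℓ ^ (e + 1) ∣ p ^ k - 1 ∧
      (V ⊓ Subgroup.centralizer ({y ^ j} : Set G)).relIndex V = p ^ k := by
  classical
  set r := orderOf (QuotientGroup.mk y : G ⧸ K) / ℓ ^ (e + 1)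
  set y₁ := y ^ r with hy₁
  have h1 : orderOf (QuotientGroup.mk y₁ : G ⧸ K) = ℓ ^ (e + 1) := by
    rw [hy₁, QuotientGroup.mk_pow]
    exact orderOf_pow_orderOf_div (orderOf_pos _).ne' hord
  set m := orderOf y₁ / ℓ ^ (orderOf y₁).factorization ℓ
  set w := y₁ ^ m with hw
  set i := (orderOf y₁).factorization ℓ
  have hwi : w ^ ℓ ^ i = 1 := by
    rw [hw, ← pow_mul, Nat.div_mul_cancel (Nat.ordProj_dvd _ _), pow_orderOf_eq_one]
  have h2 : orderOf (QuotientGroup.mk w : G ⧸ K) = ℓ ^ (e + 1) := by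
    rw [hw, QuotientGroup.mk_pow, Nat.Coprime.orderOf_pow, h1]
    rw [h1]
    exact Nat.Coprime.pow_left _ (Nat.coprime_ordCompl hℓ (orderOf_pos y₁).ne')
  set z := w ^ ℓ ^ e with hz
  set j := r * m * ℓ ^ e
  have hzj : y ^ j = z := by rw [hz, hw, hy₁, ← pow_mul, ← pow_mul, ← mul_assoc]
  set W := V ⊓ Subgroup.centralizer ({z} : Set G) with hW
  obtain ⟨k, hk⟩ := hV.index (W.subgroupOf V)
  have hk' : W.relIndex V = p ^ k := hk
  have hWV : W ≤ V := inf_le_left
  have hzK : z ∉ K := fun h => by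
    rw [← QuotientGroup.eq_one_iff, hz, QuotientGroup.mk_pow] at h
    have h3 := Nat.le_of_dvd (pow_pos hℓ.pos e) (h2 ▸ orderOf_dvd_of_pow_eq_one h)
    exact absurd h3 (not_le.2 (Nat.pow_lt_pow_right hℓ.one_lt (Nat.lt_succ_self e)))
  have hkpos : 0 < k := by
    rcases Nat.eq_zero_or_pos k with h0 | h0
    · exfalso
      apply hzK (hK ?_)
      rw [h0, pow_zero, Subgroup.relIndex_eq_one] at hk'
      exact Subgroup.mem_centralizer_iff.2 fun v hv =>
        Subgroup.mem_centralizer_singleton_iff.1 (hk' hv).2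
    · exact h0
  refine ⟨k, j, hkpos, ?_, by rw [hzj]; exact hk'⟩
  set X : Set G := (V : Set G) \ (W : Set G) with hX
  have hWy : ∀ g ∈ Subgroup.zpowers w, ∀ x, x ∈ X → g * x * g⁻¹ ∈ X := by
    intro g hg x hx
    refine ⟨(inferInstance : V.Normal).conj_mem x hx.1 g, fun hW' => hx.2 ⟨hx.1, ?_⟩⟩
    obtain ⟨t, rfl⟩ := Subgroup.mem_zpowers_iff.1 hg
    have hzt : Commute (w ^ t) z := (Commute.self_pow w (ℓ ^ e)).zpow_left t
    have h3 : Commute (w ^ t * x * (w ^ t)⁻¹) z := Subgroup.mem_centralizer_singleton_iff.1 hW'.2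
    exact Subgroup.mem_centralizer_singleton_iff.2
      (by simpa [mul_assoc] using (hzt.inv_left.mul_left (h3.mul_left hzt)).eq)
  letI act : MulAction ↥(Subgroup.zpowers w) ↥X :=
    { smul := fun g x => ⟨(g : G) * x * (g : G)⁻¹, hWy g g.2 x x.2⟩
      one_smul := fun x => Subtype.ext (show ((1 : ↥(Subgroup.zpowers w)) : G) * x * _ = x by simp)
      mul_smul := fun g h x => Subtype.ext (show ((g * h : ↥(Subgroup.zpowers w)) : G) * x * _ =
        (g : G) * ((h : G) * x * (h : G)⁻¹) * (g : G)⁻¹ by simp [mul_assoc]) }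
  have horb : ∀ x : ↥X, ℓ ^ (e + 1) ∣ Nat.card (MulAction.orbit ↥(Subgroup.zpowers w) x) := by
    intro x
    rw [Nat.card_congr (MulAction.orbitEquivQuotientStabilizer _ x), ← Subgroup.index_eq_card]
    set St := MulAction.stabilizer ↥(Subgroup.zpowers w) x
    have h3 : St.index ∣ ℓ ^ i := (Subgroup.index_dvd_card St).trans (by
      rw [Nat.card_zpowers]; exact orderOf_dvd_of_pow_eq_one hwi)
    obtain ⟨a, -, ha⟩ := (Nat.dvd_prime_pow hℓ).1 h3
    rw [ha]
    refine pow_dvd_pow _ (Nat.lt_iff_add_one_le.1 (lt_of_not_ge fun hae => x.2.2 ?_))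
    haveI : IsMulCommutative ↥(Subgroup.zpowers w) := inferInstance
    have h4 : (⟨w, Subgroup.mem_zpowers w⟩ : ↥(Subgroup.zpowers w)) ^ ℓ ^ e ∈ St := by
      rw [show ℓ ^ e = ℓ ^ a * ℓ ^ (e - a) by rw [← pow_add, Nat.add_sub_cancel' hae], pow_mul]
      refine pow_mem ?_ _
      rw [← ha]
      haveI : St.Normal := ⟨fun s hs g => by rwa [mul_comm' g s, mul_inv_cancel_right]⟩
      exact Subgroup.pow_index_mem St _
    refine ⟨x.2.1, Subgroup.mem_centralizer_singleton_iff.2 ?_⟩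
    have h5 : z * (x : G) * z⁻¹ = x := by
      rw [hz]
      exact congrArg Subtype.val (MulAction.mem_stabilizer_iff.1 h4)
    exact (mul_inv_eq_iff_eq_mul.1 h5).symm
  have hcard : ℓ ^ (e + 1) ∣ Nat.card ↥X := by
    letI : Fintype (Quotient (MulAction.orbitRel ↥(Subgroup.zpowers w) ↥X)) := Fintype.ofFinite _
    rw [Nat.card_congr (MulAction.selfEquivSigmaOrbits' ↥(Subgroup.zpowers w) ↥X), Nat.card_sigma]
    refine Finset.dvd_sum fun q _ => ?_
    induction q using Quotient.inductionOn with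
    | h x => exact horb x
  have hX' : Nat.card ↥X = Nat.card ↥W * (p ^ k - 1) := by
    have h3 : Nat.card ↥W * p ^ k = Nat.card ↥V := by
      rw [← hk', ← Subgroup.relIndex_bot_left, ← Subgroup.relIndex_bot_left,
        Subgroup.relIndex_mul_relIndex _ _ _ bot_le hWV]
    rw [hX, Nat.card_coe_set_eq, Set.ncard_sdiff (SetLike.coe_subset_coe.2 hWV),
      ← Nat.card_coe_set_eq, ← Nat.card_coe_set_eq, SetLike.coe_sort_coe, SetLike.coe_sort_coe,
      Nat.mul_sub, mul_one, h3]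
  obtain ⟨d, hd⟩ := IsPGroup.iff_card.1 (hV.to_le hWV)
  rw [hX', hd] at hcard
  exact (Nat.Coprime.pow _ _ ((Nat.coprime_primes hℓ Fact.out).2 hne)).dvd_of_dvd_mul_left hcard

end Cfsg.Agent.LocalEven61
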