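import Cfsg.Agent.PLocalB.SL2Basic
import Cfsg.Agent.Lib.NumberTheory.Zsigmondy
import Mathlib.FieldTheory.IsAlgClosed.AlgebraicClosure
import Mathlib.RingTheory.Polynomial.Cyclotomic.Roots
import Mathlib.FieldTheory.Finite.Basic

/-!
Two conjugate transvections of `SL₂(p ^ n)` with a product of order divisible by a primitive prime
power divisor of `p ^ (2 n) - 1`.
-/

set_option autoImplicit false
set_option linter.style.haveILetI false

open scoped MatrixGroups

namespace Cfsg.Agent.LocalEven61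

open Cfsg.Agent.PLocalB (upper)

theorem exists_primitive_prime_power {p n : ℕ} (hp : p.Prime) (hn : 2 ≤ n) :
    ∃ ℓ e : ℕ, ℓ.Prime ∧ ℓ ≠ 2 ∧ ℓ ≠ p ∧ ℓ ^ (e + 1) ∣ p ^ n + 1 ∧
      ∀ k, 0 < k → ℓ ^ (e + 1) ∣ p ^ k - 1 → 2 * n ≤ k := by
  by_cases h6 : p = 2 ∧ 2 * n = 6
  · obtain ⟨rfl, hn3⟩ := h6
    obtain rfl : n = 3 := by omega
    refine ⟨3, 1, Nat.prime_three, by norm_num, by norm_num, by norm_num, fun k hk h => ?_⟩
    by_contra hlt
    rw [not_le] at hlt
    interval_cases k <;> revert h <;> decide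
  obtain ⟨r, hr⟩ := NumberTheory.exists_isPrimitivePrimeDivisor (a := p) (n := 2 * n) hp.one_lt
    (by omega) h6 (by omega)
  have hpos : 0 < 2 * n := by omega
  have hrp : r ≠ p := by
    rintro rfl
    have h1 : r ∣ r ^ (2 * n) := dvd_pow_self _ (by omega)
    have h2 := Nat.dvd_sub h1 hr.2.1
    rw [Nat.sub_sub_self (Nat.one_le_pow _ _ hp.pos)] at h2
    exact hp.one_lt.ne' (Nat.dvd_one.1 h2)
  have hr2 : r ≠ 2 := by
    have := hr.lt hp.pos hpos
    omega
  refine ⟨r, 0, hr.1, hr2, hrp, ?_, fun k hk h => ?_⟩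
  · rw [zero_add, pow_one]
    have h1 : r ∣ (p ^ n + 1) * (p ^ n - 1) := by
      rw [← Nat.sq_sub_sq, one_pow, ← pow_mul, mul_comm n 2]
      exact hr.2.1
    exact (hr.1.dvd_mul.1 h1).resolve_right (hr.2.2 n (by omega) (by omega))
  · rw [zero_add, pow_one] at h
    exact Nat.le_of_dvd hk ((hr.dvd_pow_sub_one_iff' hp.pos hpos).1 h)

variable {F : Type*} [Field F]

theorem mem_range_algebraMap_of_pow_card [Fintype F] {K : Type*} [Field K] [Algebra F K] {x : K}
    (hx : x ^ Fintype.card F = x) : x ∈ (algebraMap F K).range := by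
  classical
  by_contra h
  have hq : 1 < Fintype.card F := Fintype.one_lt_card
  set P : Polynomial K := Polynomial.X ^ Fintype.card F - Polynomial.X with hP
  have hP0 : P ≠ 0 := FiniteField.X_pow_card_sub_X_ne_zero K hq
  have hsub : insert x (Finset.univ.image (algebraMap F K)) ⊆ P.roots.toFinset := by
    intro z hz
    rw [Multiset.mem_toFinset, Polynomial.mem_roots hP0, Polynomial.IsRoot, hP]
    simp only [Polynomial.eval_sub, Polynomial.eval_pow, Polynomial.eval_X, sub_eq_zero]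
    rcases Finset.mem_insert.1 hz with rfl | hz
    · exact hx
    · obtain ⟨a, -, rfl⟩ := Finset.mem_image.1 hz
      rw [← map_pow, FiniteField.pow_card]
  have h1 := (Finset.card_le_card hsub).trans (Multiset.toFinset_card_le _) |>.trans
    (Polynomial.card_roots' P)
  rw [Finset.card_insert_of_notMem (fun hz => by
      obtain ⟨a, -, rfl⟩ := Finset.mem_image.1 hz
      exact h ⟨a, rfl⟩), Finset.card_image_of_injective _ (algebraMap F K).injective,
    Finset.card_univ, hP, FiniteField.X_pow_card_sub_X_natDegree_eq K hq] at h1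
  omega

theorem exists_conj_upper_product [Fintype F] {p n : ℕ} [Fact p.Prime] [CharP F p]
    (hF : Fintype.card F = p ^ n) {ℓ e : ℕ} (hℓ : ℓ.Prime) (hℓ2 : ℓ ≠ 2) (hℓp : ℓ ≠ p)
    (hdvd : ℓ ^ (e + 1) ∣ p ^ n + 1) {x : F} (hx : x ≠ 0) :
    ∃ M : SL(2, F), ℓ ^ (e + 1) ∣ orderOf (upper x * (M * upper x * M⁻¹)) := by
  classical
  let K := AlgebraicClosure F
  haveI : CharP K p := charP_of_injective_algebraMap (algebraMap F K).injective p
  set R := ℓ ^ (e + 1) with hR
  have hRpos : 0 < R := pow_pos hℓ.pos _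
  haveI : NeZero ((R : ℕ) : K) := ⟨fun h => hℓp ((Nat.prime_dvd_prime_iff_eq Fact.out hℓ).1
    ((Fact.out : p.Prime).dvd_of_dvd_pow ((CharP.cast_eq_zero_iff K p R).1 h))).symm⟩
  obtain ⟨η, hη⟩ := IsAlgClosed.exists_root (Polynomial.cyclotomic R K)
    (by rw [Polynomial.degree_cyclotomic]; exact_mod_cast (Nat.totient_pos.2 hRpos).ne')
  rw [Polynomial.isRoot_cyclotomic_iff] at hη
  have hη0 : η ≠ 0 := hη.ne_zero hRpos.ne'
  have hηq : η ^ (p ^ n) = η⁻¹ := by
    obtain ⟨c, hc⟩ := hdvd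
    refine eq_inv_of_mul_eq_one_left ?_
    rw [← pow_succ, hc, pow_mul, hη.pow_eq_one, one_pow]
  obtain ⟨s, hs⟩ : η + η⁻¹ ∈ (algebraMap F K).range := by
    refine mem_range_algebraMap_of_pow_card ?_
    rw [hF, add_pow_char_pow, inv_pow, hηq, inv_inv, add_comm]
  have hRodd : R.Coprime 2 :=
    Nat.Coprime.pow_left _ ((Nat.coprime_primes hℓ Nat.prime_two).2 hℓ2)
  have hR4 : R.Coprime 4 := by
    rw [show (4 : ℕ) = 2 ^ 2 from rfl]; exact hRodd.pow_right 2
  have hR1 : 1 < R := Nat.one_lt_pow (by omega) hℓ.one_lt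
  have hs0 : s ≠ 0 := by
    rintro rfl
    rw [map_zero] at hs
    have h2 : η ^ 4 = 1 := by
      have h3 : η * η = -1 := by
        have := congrArg (· * η) hs.symm
        simp [add_mul, inv_mul_cancel₀ hη0] at this
        exact eq_neg_of_add_eq_zero_left this
      calc η ^ 4 = (η * η) * (η * η) := by ring
        _ = 1 := by rw [h3]; ring
    have := Nat.dvd_one.1 (hR4.dvd_of_dvd_mul_left (m := 4) (n := 1) (by
      rw [mul_one]; exact hη.pow_eq_one_iff_dvd _ |>.1 h2))
    omega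
  set c := s / x with hc
  have hc0 : c ≠ 0 := div_ne_zero hs0 hx
  let M : SL(2, F) := ⟨!![0, -c⁻¹; c, 0], by simp [Matrix.det_fin_two, hc0]⟩
  refine ⟨M, ?_⟩
  set y := upper x * (M * upper x * M⁻¹) with hy
  have hcoe : (y : Matrix (Fin 2) (Fin 2) F) = !![1 - s * s, x; -(c * s), 1] := by
    have hMi : ((M⁻¹ : SL(2, F)) : Matrix (Fin 2) (Fin 2) F) = !![0, c⁻¹; -c, 0] := by
      rw [Matrix.SpecialLinearGroup.coe_inv]
      show Matrix.adjugate !![0, -c⁻¹; c, 0] = _
      simp [Matrix.adjugate_fin_two]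
    rw [hy, Matrix.SpecialLinearGroup.coe_mul, Matrix.SpecialLinearGroup.coe_mul,
      Matrix.SpecialLinearGroup.coe_mul, hMi, PLocalB.coe_upper]
    show !![1, x; 0, 1] * (!![0, -c⁻¹; c, 0] * !![1, x; 0, 1] * !![0, c⁻¹; -c, 0]) = _
    rw [Matrix.mul_fin_two, Matrix.mul_fin_two, Matrix.mul_fin_two]
    have hs' : s = c * x := by rw [hc, div_mul_cancel₀ _ hx]
    ext i j
    fin_cases i <;> fin_cases j <;> simp [hs', hc0] <;> ring
  set α : K := -(η * η) with hα
  let φ := (algebraMap F K)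
  set A : Matrix (Fin 2) (Fin 2) K := φ.mapMatrix (y : Matrix (Fin 2) (Fin 2) F) with hA
  set v : Fin 2 → K := ![φ x, α - φ (1 - s * s)] with hv
  have hs2 : φ s = η + η⁻¹ := hs
  have hAv : A.mulVec v = α • v := by
    have hsc : φ c * φ x = φ s := by rw [← map_mul, hc, div_mul_cancel₀ _ hx]
    funext i
    rw [hA, hcoe]
    fin_cases i
    · simp [hv, φ, Matrix.mulVec, dotProduct, Fin.sum_univ_two, RingHom.mapMatrix_apply]
      ring
    · simp [hv, Matrix.mulVec, dotProduct, Fin.sum_univ_two, RingHom.mapMatrix_apply]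
      simp only [φ] at hs2 hsc
      rw [hα]
      have e : algebraMap F K c * algebraMap F K s * algebraMap F K x = (η + η⁻¹) ^ 2 := by
        rw [mul_comm (algebraMap F K c), mul_assoc, hsc, hs2]; ring
      have e2 : η * η⁻¹ = 1 := mul_inv_cancel₀ hη0
      rw [hs2] at *
      linear_combination (-1 : K) * e + (2 * η ^ 2 + η * η⁻¹ + 1) * e2
  have hv0 : v ≠ 0 := fun h => hx ((algebraMap F K).injective (by
    rw [map_zero]; simpa [hv] using congrFun h 0))
  set m := orderOf y with hm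
  have hpowA : ∀ k : ℕ, (A ^ k).mulVec v = α ^ k • v := by
    intro k
    induction k with
    | zero => simp
    | succ k ih => rw [pow_succ, ← Matrix.mulVec_mulVec, hAv, Matrix.mulVec_smul, ih, smul_smul,
        mul_comm, ← pow_succ]
  have hαm : α ^ m = 1 := by
    have h1 : A ^ m = 1 := by
      rw [hA, ← map_pow, ← Matrix.SpecialLinearGroup.coe_pow, hm, pow_orderOf_eq_one,
        Matrix.SpecialLinearGroup.coe_one, map_one]
    have h2 := hpowA m
    rw [h1, Matrix.one_mulVec] at h2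
    obtain ⟨i, hi⟩ : ∃ i, v i ≠ 0 := Function.ne_iff.1 hv0
    have h3 := congrFun h2 i
    rw [Pi.smul_apply, smul_eq_mul] at h3
    exact mul_right_cancel₀ hi (by rw [one_mul]; exact h3.symm)
  have h4 : η ^ (4 * m) = 1 := by
    calc η ^ (4 * m) = (α ^ m) ^ 2 := by
          rw [← pow_mul, mul_comm m 2, pow_mul, pow_mul, hα, neg_sq]; congr 1; ring
      _ = 1 := by rw [hαm, one_pow]
  exact hR4.dvd_of_dvd_mul_left ((hη.pow_eq_one_iff_dvd _).1 h4)

end Cfsg.Agent.LocalEven61
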