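import Cfsg.Agent.LocalEven61.SL2Unipotent
import Cfsg.Agent.LocalEven61.SL2TorusElement
import Cfsg.Agent.LocalEven61.FreeOrbit
import Cfsg.Agent.Lib.Thompson.Cores
import Cfsg.Prelude.Def_Local

/-!
Lower bounds for faithful modules of groups with a `PSL₂(q)` quotient over a normal `p'`-subgroup,
by two conjugates of a `p`-element whose product has an order with a primitive prime divisor.
-/

set_option autoImplicit false
set_option linter.style.haveILetI false

open scoped MatrixGroups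

namespace Cfsg.Agent.LocalEven61

open Cfsg.Agent.PLocalB (upper)

variable {G : Type*} [Group G] [Finite G] {p : ℕ} [Fact p.Prime]

omit [Finite G] [Fact p.Prime] in
theorem isPGroup_of_elementary {V : Subgroup G} (hV : Cfsg.IsElementaryAbelian p V) :
    IsPGroup p ↥V := fun v => ⟨1, Subtype.ext (by simpa using hV.2 v v.2)⟩

/-- A conjugate pair with a product of suitable order bounds the module. -/
theorem pow_le_of_conj_product {V H : Subgroup G} (hV : IsPGroup p ↥V)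
    (hHV : H ≤ Subgroup.normalizer (V : Set G)) (hf : H ⊓ Subgroup.centralizer (V : Set G) = ⊥)
    {s m : G} (hs : s ∈ H) (hm : m ∈ H) {ℓ e d : ℕ} (hℓ : ℓ.Prime) (hℓp : ℓ ≠ p)
    (hord : ℓ ^ (e + 1) ∣ orderOf (s * (m * s * m⁻¹)))
    (hprim : ∀ k, 0 < k → ℓ ^ (e + 1) ∣ p ^ k - 1 → d ≤ k) :
    p ^ d ≤ ((V ⊓ Subgroup.centralizer ({s} : Set G)).relIndex V) ^ 2 ∧ p ^ d ≤ Nat.card ↥V := by
  have hp := (Fact.out : p.Prime)
  set y := s * (m * s * m⁻¹) with hy
  have hyH : y ∈ H := H.mul_mem hs (H.mul_mem (H.mul_mem hm hs) (H.inv_mem hm))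
  set y₁ := y ^ (orderOf y / ℓ ^ (e + 1)) with hy₁
  have hy₁ord : orderOf y₁ = ℓ ^ (e + 1) := orderOf_pow_orderOf_div (orderOf_pos _).ne' hord
  have hy₁H : y₁ ∈ H := H.pow_mem hyH _
  have hz : y₁ ^ ℓ ^ e ∉ Subgroup.centralizer (V : Set G) := by
    intro hc
    have h1 : y₁ ^ ℓ ^ e = 1 := Subgroup.mem_bot.1 (hf ▸ ⟨H.pow_mem hy₁H _, hc⟩)
    have h2 := Nat.le_of_dvd (pow_pos hℓ.pos e) (hy₁ord ▸ orderOf_dvd_of_pow_eq_one h1)
    exact absurd h2 (not_le.2 (Nat.pow_lt_pow_right hℓ.one_lt (Nat.lt_succ_self e)))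
  obtain ⟨k, hk0, hki, hkdvd⟩ :=
    dvd_pow_relIndex_sub_one hℓ hℓp V hV y₁ (hHV hy₁H) hy₁ord hz
  have hdk := hprim k hk0 hkdvd
  have hle : p ^ d ≤ (V ⊓ Subgroup.centralizer ({y₁ ^ ℓ ^ e} : Set G)).relIndex V := by
    rw [hki]; exact Nat.pow_le_pow_right hp.pos hdk
  refine ⟨hle.trans ?_, hle.trans (Nat.le_of_dvd Nat.card_pos ((Subgroup.index_dvd_card _)))⟩
  set Ca := V ⊓ Subgroup.centralizer ({s} : Set G) with hCa
  set b := m * s * m⁻¹ with hb
  set Cb := V ⊓ Subgroup.centralizer ({b} : Set G) with hCb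
  have hVm : V.map (MulAut.conj m).toMonoidHom = V := map_conj_of_mem_normalizer' (hHV hm)
  have hmap : Ca.map (MulAut.conj m).toMonoidHom = Cb := by
    rw [hCa, hCb, Subgroup.map_inf _ _ _ (MulAut.conj m).injective, hVm]
    congr 1
    ext w
    rw [mem_map_conj, Subgroup.mem_centralizer_singleton_iff,
      Subgroup.mem_centralizer_singleton_iff, hb]
    constructor <;> intro h
    · calc w * (m * s * m⁻¹) = m * ((m⁻¹ * w * m) * s) * m⁻¹ := by group
        _ = m * (s * (m⁻¹ * w * m)) * m⁻¹ := by rw [h]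
        _ = m * s * m⁻¹ * w := by group
    · calc m⁻¹ * w * m * s = m⁻¹ * (w * (m * s * m⁻¹)) * m := by group
        _ = m⁻¹ * (m * s * m⁻¹ * w) * m := by rw [h]
        _ = s * (m⁻¹ * w * m) := by group
  have hCbi : Cb.relIndex V = Ca.relIndex V := by
    rw [← hmap]
    conv_lhs => rw [← hVm]
    exact Subgroup.relIndex_map_map_of_injective _ _ (MulAut.conj m).injective
  have hinc : Ca ⊓ Cb ≤ V ⊓ Subgroup.centralizer ({y₁ ^ ℓ ^ e} : Set G) := by
    rintro v ⟨h1, h2⟩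
    refine ⟨h1.1, Subgroup.mem_centralizer_singleton_iff.2 ?_⟩
    have c1 : Commute v s := Subgroup.mem_centralizer_singleton_iff.1 h1.2
    have c2 : Commute v b := Subgroup.mem_centralizer_singleton_iff.1 h2.2
    exact (((c1.mul_right c2).pow_right _).pow_right _).eq
  refine le_trans (Nat.le_of_dvd ?_ (Subgroup.relIndex_dvd_of_le_left V hinc)) ?_
  · exact Nat.pos_of_ne_zero ((Ca ⊓ Cb).subgroupOf V).index_ne_zero_of_finite
  · refine (Subgroup.relIndex_inf_le (H := Ca) (K := Cb) (L := V)).trans ?_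
    rw [hCbi, sq]

variable {F : Type*} [Field F] [Fintype F]

/-- In `PSL₂(p ^ n)`, `n ≥ 2`, every nontrivial `p`-element has a conjugate with a product of
suitable order. -/
theorem exists_conj_product_psl [CharP F p] {n : ℕ} (hF : Fintype.card F = p ^ n) {ℓ e : ℕ}
    (hℓ : ℓ.Prime) (hℓ2 : ℓ ≠ 2) (hℓp : ℓ ≠ p) (hdvd : ℓ ^ (e + 1) ∣ p ^ n + 1)
    {u : Matrix.ProjectiveSpecialLinearGroup (Fin 2) F} (hu1 : u ≠ 1) {i : ℕ}
    (hu : u ^ p ^ i = 1) :
    ∃ m : Matrix.ProjectiveSpecialLinearGroup (Fin 2) F,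
      ℓ ^ (e + 1) ∣ orderOf (u * (m * u * m⁻¹)) := by
  have hp := (Fact.out : p.Prime)
  let π : SL(2, F) →* Matrix.ProjectiveSpecialLinearGroup (Fin 2) F := QuotientGroup.mk' _
  have hπ : Function.Surjective π := QuotientGroup.mk'_surjective _
  haveI : Finite (Matrix.ProjectiveSpecialLinearGroup (Fin 2) F) := Finite.of_surjective π hπ
  have hpp : IsPGroup p ↥(Subgroup.zpowers u) := by
    obtain ⟨j, -, hj⟩ := (Nat.dvd_prime_pow hp).1 (orderOf_dvd_of_pow_eq_one hu)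
    exact IsPGroup.of_card (by rw [Nat.card_zpowers, hj])
  obtain ⟨Q, hQ⟩ := hpp.exists_le_sylow
  obtain ⟨g, hg⟩ := MulAction.exists_smul_eq (Matrix.ProjectiveSpecialLinearGroup (Fin 2) F)
    ((upperSylow : Sylow p SL(2, F)).mapSurjective hπ) Q
  have hmem : g⁻¹ * u * g ∈ (upperGroup F).map π := by
    rw [← coe_upperSylow (p := p), ← Sylow.coe_mapSurjective hπ, ← mem_map_conj, ← sylow_smul_coe, hg]
    exact hQ (Subgroup.mem_zpowers _)
  obtain ⟨_, ⟨x, rfl⟩, hx⟩ := hmem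
  have hu' : u = g * π (upper x.toAdd) * g⁻¹ := by
    rw [show π (upper x.toAdd) = g⁻¹ * u * g from hx]; group
  have hx0 : x.toAdd ≠ 0 := by
    intro h0
    rw [h0, PLocalB.upper_zero, map_one, mul_one, mul_inv_cancel] at hu'
    exact hu1 hu'
  obtain ⟨M, hM⟩ := exists_conj_upper_product hF hℓ hℓ2 hℓp hdvd hx0
  refine ⟨g * π M * g⁻¹, ?_⟩
  set y := upper x.toAdd * (M * upper x.toAdd * M⁻¹) with hy
  have hconj : u * (g * π M * g⁻¹ * u * (g * π M * g⁻¹)⁻¹) = MulAut.conj g (π y) := by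
    rw [hu', hy, MulAut.conj_apply, map_mul, map_mul, map_mul, map_inv]; group
  rw [hconj, MulEquiv.orderOf_eq]
  have h2 : y ^ (2 * orderOf (π y)) = 1 := by
    have h1 : y ^ orderOf (π y) ∈ Subgroup.center SL(2, F) :=
      (QuotientGroup.eq_one_iff _).1 (show π (y ^ orderOf (π y)) = 1 by
        rw [map_pow, pow_orderOf_eq_one])
    obtain ⟨r, hr, hs⟩ := Matrix.SpecialLinearGroup.mem_center_iff.1 h1
    rw [Fintype.card_fin] at hr
    rw [mul_comm, pow_mul]
    apply Subtype.ext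
    rw [Matrix.SpecialLinearGroup.coe_pow, ← hs, ← map_pow, hr, map_one,
      Matrix.SpecialLinearGroup.coe_one]
  exact (Nat.Coprime.pow_left _ ((Nat.coprime_primes hℓ Nat.prime_two).2 hℓ2)).dvd_of_dvd_mul_left
    (hM.trans (orderOf_dvd_of_pow_eq_one h2))

/-- The bounds for `H` with `H / O_{p'}(H) ≅ PSL₂(p ^ n)`. -/
theorem psl_module_bounds [CharP F p] {n : ℕ} (hF : Fintype.card F = p ^ n)
    {V H : Subgroup G} (hV : IsPGroup p ↥V) (hHV : H ≤ Subgroup.normalizer (V : Set G))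
    (hf : H ⊓ Subgroup.centralizer (V : Set G) = ⊥)
    (e : ↥H ⧸ Cfsg.pPrimeCore p ↥H ≃* Matrix.ProjectiveSpecialLinearGroup (Fin 2) F)
    {s : G} (hsH : s ∈ H) (hs1 : s ≠ 1) {i : ℕ} (hsp : s ^ p ^ i = 1) :
    p ^ n ≤ (V ⊓ Subgroup.centralizer ({s} : Set G)).relIndex V ∧ p ^ (2 * n) ≤ Nat.card ↥V := by
  have hp := (Fact.out : p.Prime)
  set W := V ⊓ Subgroup.centralizer ({s} : Set G) with hW
  obtain ⟨r, hr⟩ := hV.index (W.subgroupOf V)
  have hr' : W.relIndex V = p ^ r := hr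
  have hr0 : 0 < r := by
    rcases Nat.eq_zero_or_pos r with h0 | h0
    · exfalso
      rw [h0, pow_zero, Subgroup.relIndex_eq_one] at hr'
      exact hs1 (Subgroup.mem_bot.1 (hf ▸ ⟨hsH, Subgroup.mem_centralizer_iff.2 fun v hv =>
        Subgroup.mem_centralizer_singleton_iff.1 (hr' hv).2⟩))
    · exact h0
  rcases Nat.lt_or_ge n 2 with hn | hn
  · refine ⟨by rw [hr']; exact Nat.pow_le_pow_right hp.pos (by omega), ?_⟩
    have hsn : s ∈ Subgroup.normalizer (V : Set G) := hHV hsH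
    have hWne : W ≠ ⊥ := by
      intro hbot
      let _ : MulAction ↥(Subgroup.zpowers s) ↥V :=
        { smul := fun g v => ⟨(g : G) * v * (g : G)⁻¹,
            ((Subgroup.mem_normalizer_iff.1 (Subgroup.zpowers_le.2 hsn g.2)) v).1 v.2⟩
          one_smul := fun v => Subtype.ext (show ((1 : ↥(Subgroup.zpowers s)) : G) * v * _ = v by simp)
          mul_smul := fun g h v => Subtype.ext (show ((g * h : ↥(Subgroup.zpowers s)) : G) * v * _ =
            (g : G) * ((h : G) * v * (h : G)⁻¹) * (g : G)⁻¹ by simp [mul_assoc]) }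
      have hzp : IsPGroup p ↥(Subgroup.zpowers s) := by
        obtain ⟨j, -, hj⟩ := (Nat.dvd_prime_pow hp).1 (orderOf_dvd_of_pow_eq_one hsp)
        exact IsPGroup.of_card (by rw [Nat.card_zpowers, hj])
      have hVne : Nontrivial ↥V := by
        rw [Subgroup.nontrivial_iff_ne_bot]
        rintro rfl
        exact hs1 (Subgroup.mem_bot.1 (hf ▸ ⟨hsH, Subgroup.mem_centralizer_iff.2 fun v hv => by
          rw [SetLike.mem_coe, Subgroup.mem_bot] at hv; simp [hv]⟩))
      obtain ⟨k, hk0, hk⟩ := hV.nontrivial_iff_card.1 hVne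
      obtain ⟨v, hv, hv1⟩ := hzp.exists_fixed_point_of_prime_dvd_card_of_fixed_point ↥V
        (hk ▸ dvd_pow_self p (Nat.pos_iff_ne_zero.1 hk0))
        (a := (1 : ↥V)) (fun g => Subtype.ext (show (g : G) * ((1 : ↥V) : G) * _ = _ by simp))
      apply hv1
      have h1 : (v : G) ∈ W := ⟨v.2, Subgroup.mem_centralizer_singleton_iff.2 (by
        have := congrArg Subtype.val (hv ⟨s, Subgroup.mem_zpowers s⟩)
        exact (mul_inv_eq_iff_eq_mul.1 (show s * (v : G) * s⁻¹ = v from this)).symm)⟩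
      rw [hbot, Subgroup.mem_bot] at h1
      exact Subtype.ext h1.symm
    have h1 : p ∣ Nat.card ↥W := by
      obtain ⟨j, hj⟩ := IsPGroup.iff_card.1 (hV.to_le (inf_le_left : W ≤ V))
      rcases Nat.eq_zero_or_pos j with h0 | h0
      · rw [h0, pow_zero] at hj
        exact absurd (Subgroup.card_eq_one.1 hj) hWne
      · exact hj ▸ dvd_pow_self p h0.ne'
    have h2 : Nat.card ↥W * W.relIndex V = Nat.card ↥V := by
      rw [← Subgroup.relIndex_bot_left W, ← Subgroup.relIndex_bot_left V,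
        Subgroup.relIndex_mul_relIndex _ _ _ bot_le inf_le_left]
    rw [← h2, hr']
    calc p ^ (2 * n) ≤ p * p ^ r := by
          rw [← pow_succ']; exact Nat.pow_le_pow_right hp.pos (by omega)
      _ ≤ _ := Nat.mul_le_mul_right _ (Nat.le_of_dvd Nat.card_pos h1)
  obtain ⟨ℓ, k, hℓ, hℓ2, hℓp, hdvd, hprim⟩ := exists_primitive_prime_power hp hn
  let ψ : ↥H →* Matrix.ProjectiveSpecialLinearGroup (Fin 2) F :=
    e.toMonoidHom.comp (QuotientGroup.mk' _)
  have hψ : Function.Surjective ψ := e.surjective.comp (QuotientGroup.mk'_surjective _)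
  have hs1' : ψ ⟨s, hsH⟩ ≠ 1 := by
    intro h0
    have h1 : (⟨s, hsH⟩ : ↥H) ∈ Cfsg.pPrimeCore p ↥H :=
      (QuotientGroup.eq_one_iff _).1 (e.injective (h0.trans e.map_one.symm))
    have h2 : orderOf (⟨s, hsH⟩ : ↥H) ∣ Nat.card ↥(Cfsg.pPrimeCore p ↥H) := by
      have := orderOf_dvd_natCard (⟨_, h1⟩ : ↥(Cfsg.pPrimeCore p ↥H))
      rwa [← Subgroup.orderOf_coe] at this
    have h3 : orderOf (⟨s, hsH⟩ : ↥H) ∣ p ^ i := orderOf_dvd_of_pow_eq_one (Subtype.ext (by simpa using hsp))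
    have h4 := Nat.eq_one_of_dvd_coprimes
      ((Thompson.card_pPrimeCore_coprime (p := p) (G := ↥H)).pow_right i) h2 h3
    exact hs1 (congrArg Subtype.val (orderOf_eq_one_iff.1 h4))
  obtain ⟨m, hm⟩ := exists_conj_product_psl hF hℓ hℓ2 hℓp hdvd hs1' (i := i)
    (by rw [← map_pow, show (⟨s, hsH⟩ : ↥H) ^ p ^ i = 1 from Subtype.ext (by simpa using hsp), map_one])
  obtain ⟨m, rfl⟩ := hψ m
  rw [← map_inv, ← map_mul, ← map_mul, ← map_mul] at hm
  have hord := hm.trans (orderOf_map_dvd ψ _)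
  rw [← Subgroup.orderOf_coe] at hord
  obtain ⟨h1, h2⟩ := pow_le_of_conj_product hV hHV hf hsH m.2 hℓ hℓp
    (by simpa using hord) hprim
  refine ⟨?_, h2⟩
  rw [pow_mul'] at h1
  exact Nat.pow_le_pow_iff_left (by norm_num) |>.1 h1

end Cfsg.Agent.LocalEven61
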