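import Cfsg.Agent.FieldAutGen.OrthBasic

/-!
Semilinear maps commuting with the rational Siegel transformations.
-/

set_option autoImplicit false

namespace Cfsg.Agent.LocalEven61.OrthRat

open Matrix QuadraticMap
open Cfsg.Agent.FieldAutGen.Orth

universe u

variable {ι : Type} [Fintype ι] [DecidableEq ι] {F : Type u} [Field F]

/-- Vectors with fixed coordinates. -/
def Rat (σ : F ≃+* F) (v : ι → F) : Prop := ∀ j, σ (v j) = v j

omit [Fintype ι] in
theorem rat_single (σ : F ≃+* F) (i : ι) : Rat σ (Pi.single i 1 : ι → F) := fun j => by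
  by_cases h : j = i <;> simp [h]

omit [Fintype ι] [DecidableEq ι] in
theorem Rat.add {σ : F ≃+* F} {v w : ι → F} (hv : Rat σ v) (hw : Rat σ w) : Rat σ (v + w) :=
  fun j => by simp [hv j, hw j]

omit [Fintype ι] [DecidableEq ι] in
theorem Rat.sub {σ : F ≃+* F} {v w : ι → F} (hv : Rat σ v) (hw : Rat σ w) : Rat σ (v - w) :=
  fun j => by simp [hv j, hw j]

omit [Fintype ι] [DecidableEq ι] in
theorem Rat.smul {σ : F ≃+* F} {v : ι → F} {t : F} (hv : Rat σ v) (ht : σ t = t) :
    Rat σ (t • v) := fun j => by simp [hv j, ht]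

omit [Fintype ι] [DecidableEq ι] in
theorem Rat.comp {σ : F ≃+* F} {v : ι → F} (hv : Rat σ v) : σ ∘ v = v := funext hv

omit [Fintype ι] [DecidableEq ι] in
theorem rat_sum {σ : F ≃+* F} {α : Type} {s : Finset α} {w : α → ι → F}
    (h : ∀ a ∈ s, Rat σ (w a)) : Rat σ (∑ a ∈ s, w a) := fun j => by
  rw [Finset.sum_apply, map_sum]
  exact Finset.sum_congr rfl fun a ha => h a ha j

variable {Q : QuadraticForm F (ι → F)} {k : ℕ}

/-- A semilinear map commuting with the Siegel transformations defined over a fixed field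
is a scalar. -/
theorem eq_scalar_of_commute_rat (hk : 3 ≤ k) (E : Frame Q k) (ρ : F ≃+* F)
    (hQρ : ∀ v : ι → F, Q (ρ ∘ v) = ρ (Q v)) (hre : ∀ i, Rat ρ (E.e i)) (hrf : ∀ i, Rat ρ (E.f i))
    (g : GL ι F) (σ : F ≃+* F)
    (hcomm : ∀ u v : ι → F, Rat ρ u → Rat ρ v → Q u = 0 → Q v = 0 → polar ⇑Q u v = 0 → ∀ x : ι → F,
      (g : Matrix ι ι F) *ᵥ (σ ∘ (Cfsg.siegelMatrix ⇑Q u v 1 *ᵥ x)) =
        Cfsg.siegelMatrix ⇑Q u v 1 *ᵥ ((g : Matrix ι ι F) *ᵥ (σ ∘ x))) :
    (∀ t, ρ t = t → σ t = t) ∧ ∃ c : F, c ≠ 0 ∧ (g : Matrix ι ι F) = c • 1 := by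
  classical
  set T : (ι → F) → (ι → F) := fun x => (g : Matrix ι ι F) *ᵥ (σ ∘ x) with hT
  have Tadd : ∀ x y, T (x + y) = T x + T y := fun x y => by
    show (g : Matrix ι ι F) *ᵥ _ = _
    rw [← mulVec_add]; congr 1; funext i; exact map_add σ _ _
  have Tsmul : ∀ (t : F) x, T (t • x) = σ t • T x := fun t x => by
    show (g : Matrix ι ι F) *ᵥ _ = _
    rw [← mulVec_smul]; congr 1; funext i; exact map_mul σ _ _
  have Tsub : ∀ x y, T (x - y) = T x - T y := fun x y => by
    have h := Tadd (x - y) y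
    rw [sub_add_cancel] at h
    rw [h, add_sub_cancel_right]
  have Tne : ∀ x, x ≠ 0 → T x ≠ 0 := fun x hx h => by
    have h1 := congrArg (((g⁻¹ : GL ι F) : Matrix ι ι F) *ᵥ ·) h
    simp only [hT, mulVec_mulVec, ← Units.val_mul, inv_mul_cancel, Units.val_one, one_mulVec,
      mulVec_zero] at h1
    exact hx (funext fun i => σ.injective ((congrFun h1 i).trans (map_zero σ).symm))
  have hne : ∀ {x y : ι → F}, polar ⇑Q x y ≠ 0 → x ≠ 0 := fun {x y} h e => h (by
    rw [e, QuadraticMap.polar_zero_left])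
  -- the image of a special singular vector lies in its two root lines
  have plane : ∀ u v d, Rat ρ u → Rat ρ v → Q u = 0 → Q v = 0 → polar ⇑Q u v = 0 → polar ⇑Q v d = 1 →
      polar ⇑Q u d = 0 → ∃ p q : F, T u = p • u + q • v := by
    intro u v d hru hrv hu hv huv hvd hud
    have h := hcomm u v hru hrv hu hv huv d
    rw [Reflections.siegel_mulVec, Reflections.siegel_mulVec, one_mul, one_mul, hvd, hud, zero_smul,
      add_zero, one_smul] at h
    change T (d - u) = T d + _ - _ at h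
    rw [Tsub] at h
    refine ⟨1 * polar ⇑Q v (T d), -(1 * polar ⇑Q u (T d)), ?_⟩
    linear_combination (norm := module) -h
  have line : ∀ (u : ι → F) (l : Fin k), Rat ρ u → Q u = 0 → polar ⇑Q u (E.e l) = 0 →
      polar ⇑Q u (E.f l) = 0 → ∃ a : F, T u = a • u := by
    intro u l hru hu hue huf
    obtain ⟨p, q, h1⟩ := plane u (E.e l) (E.f l) hru (hre l) hu (E.Qe l) hue (by rw [E.ef, if_pos rfl]) huf
    obtain ⟨p', q', h2⟩ := plane u (E.f l) (E.e l) hru (hrf l) hu (E.Qf l) huf (by rw [E.fe, if_pos rfl]) hue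
    have hq : q = 0 := by
      have h3 := congrArg (fun y => polar ⇑Q y (E.f l)) (h1.symm.trans h2)
      simp only [polar_add_left, polar_smul_left, huf, E.ef, E.ff', smul_eq_mul,
        if_true] at h3
      linear_combination h3
    exact ⟨p, by rw [h1, hq, zero_smul, add_zero]⟩
  have i₀ : Fin k := ⟨0, by omega⟩
  have he : ∀ i, ∃ a : F, a ≠ 0 ∧ T (E.e i) = a • E.e i := fun i => by
    obtain ⟨l, hl, -⟩ := exists_ne_ne hk i i
    obtain ⟨a, ha⟩ := line (E.e i) l (hre i) (E.Qe i) (E.ee' i l) (by rw [E.ef, if_neg (Ne.symm hl)])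
    refine ⟨a, fun h0 => Tne (E.e i) (hne (y := E.f i) (by simp [E.ef])) ?_, ha⟩
    rw [ha, h0, zero_smul]
  have hf : ∀ i, ∃ a : F, a ≠ 0 ∧ T (E.f i) = a • E.f i := fun i => by
    obtain ⟨l, hl, -⟩ := exists_ne_ne hk i i
    obtain ⟨a, ha⟩ := line (E.f i) l (hrf i) (E.Qf i) (by rw [E.fe, if_neg hl]) (E.ff' i l)
    refine ⟨a, fun h0 => Tne (E.f i) (hne (y := E.e i) (by simp [E.fe])) ?_, ha⟩
    rw [ha, h0, zero_smul]
  choose a ha0 ha using he
  choose b hb0 hb using hf
  have key : ∀ i j, i ≠ j → ∀ t : F, ρ t = t → σ t * a j = a i * t := by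
    intro i j hij t hrt
    obtain ⟨l, hli, hlj⟩ := exists_ne_ne hk i j
    have hu : Q (E.e i + t • E.e j) = 0 := by
      rw [Reflections.map_add', Reflections.map_smul', E.Qe, E.Qe, polar_smul_right, E.ee i j hij,
        smul_zero]
      ring
    obtain ⟨c, hc⟩ := line _ l ((hre i).add ((hre j).smul hrt)) hu
      (by rw [polar_add_left, polar_smul_left, E.ee', E.ee', smul_zero, add_zero])
      (by rw [polar_add_left, polar_smul_left, E.ef, E.ef, if_neg (Ne.symm hli),
        if_neg (Ne.symm hlj), smul_zero, add_zero])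
    rw [Tadd, Tsmul, ha, ha] at hc
    have h1 := congrArg (fun y => polar ⇑Q y (E.f i)) hc
    have h2 := congrArg (fun y => polar ⇑Q y (E.f j)) hc
    simp only [polar_add_left, polar_smul_left, E.ef, if_pos, if_neg hij, if_neg (Ne.symm hij),
      smul_eq_mul, mul_one, mul_zero, add_zero, zero_add] at h1 h2
    rw [h1]; exact h2
  have hall : ∀ i j, a i = a j := fun i j => by
    by_cases hij : i = j
    · rw [hij]
    · have := key i j hij 1 (map_one ρ)
      rw [map_one, one_mul, mul_one] at this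
      exact this.symm
  have hσ : ∀ t, ρ t = t → σ t = t := by
    obtain ⟨j, hj, -⟩ := exists_ne_ne hk i₀ i₀
    intro t hrt
    have := key i₀ j (Ne.symm hj) t hrt
    rw [hall j i₀, mul_comm (a i₀)] at this
    exact mul_right_cancel₀ (ha0 i₀) this
  set c := a i₀ with hc_def
  have hbc : ∀ j, b j = c := fun j => by
    obtain ⟨i, hij, -⟩ := exists_ne_ne hk j j
    obtain ⟨l, hli, hlj⟩ := exists_ne_ne hk i j
    have hu : Q (E.e i + E.f j) = 0 := by
      rw [Reflections.map_add', E.Qe, E.Qf, E.ef, if_neg hij]; ring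
    obtain ⟨d, hd⟩ := line _ l ((hre i).add (hrf j)) hu
      (by rw [polar_add_left, E.ee', E.fe, if_neg hlj, add_zero])
      (by rw [polar_add_left, E.ef, E.ff', if_neg (Ne.symm hli), add_zero])
    rw [Tadd, ha, hb] at hd
    have h1 := congrArg (fun y => polar ⇑Q y (E.f i)) hd
    have h2 := congrArg (fun y => polar ⇑Q y (E.e j)) hd
    simp only [polar_add_left, polar_smul_left, E.ef, E.fe, E.ee', E.ff', if_pos,
      smul_eq_mul, mul_one, mul_zero, add_zero, zero_add] at h1 h2
    rw [h2, ← h1, hc_def, hall i i₀]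
  have hrest : ∀ x : ι → F, Rat ρ x → (∀ i, polar ⇑Q x (E.e i) = 0) → (∀ i, polar ⇑Q x (E.f i) = 0) →
      T x = c • x := by
    intro x hrx hxe hxf
    have hQx : ρ (Q x) = Q x := by rw [← hQρ, hrx.comp]
    obtain ⟨j, hj, -⟩ := exists_ne_ne hk i₀ i₀
    obtain ⟨l, hli, hlj⟩ := exists_ne_ne hk i₀ j
    have hi : ∀ i, l ≠ i → ∃ d : F, T x = d • x + (d - c) • (E.e i - Q x • E.f i) := by
      intro i hli
      have hu : Q (x + (E.e i - Q x • E.f i)) = 0 := by
        rw [Reflections.map_add', Reflections.map_sub', Reflections.map_smul', E.Qe, E.Qf,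
          polar_sub_right, polar_smul_right, polar_smul_right, E.ef, hxe, hxf, if_pos rfl, smul_zero,
          smul_eq_mul]
        ring
      obtain ⟨d, hd⟩ := line _ l (hrx.add ((hre i).sub ((hrf i).smul hQx))) hu
        (by rw [polar_add_left, polar_sub_left, polar_smul_left, hxe, E.ee', E.fe, if_neg hli,
          smul_zero, sub_zero, add_zero])
        (by rw [polar_add_left, polar_sub_left, polar_smul_left, hxf, E.ef, E.ff',
          if_neg (Ne.symm hli), smul_zero, sub_zero, add_zero])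
      refine ⟨d, ?_⟩
      rw [Tadd, Tsub, Tsmul, ha, hb, hbc, hall i i₀, ← hc_def] at hd
      rw [hσ _ hQx] at hd
      linear_combination (norm := module) hd
    obtain ⟨d, hd⟩ := hi i₀ hli
    obtain ⟨d', hd'⟩ := hi j hlj
    have h1 := congrArg (fun y => polar ⇑Q y (E.f i₀)) (hd.symm.trans hd')
    simp only [polar_add_left, polar_sub_left, polar_smul_left, hxf, E.ef, E.ff', if_pos,
      if_neg hj, smul_eq_mul, mul_one, mul_zero, add_zero, zero_add, sub_zero] at h1
    rw [hd, h1, zero_smul, add_zero, show d = c from sub_eq_zero.1 h1]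
  have Tsum : ∀ {α : Type} (s : Finset α) (w : α → ι → F), T (∑ i ∈ s, w i) = ∑ i ∈ s, T (w i) := by
    intro α s w
    exact map_sum (AddMonoidHom.mk' T Tadd) w s
  have hallx : ∀ x, Rat ρ x → T x = c • x := by
    intro x hrx
    have hpol : ∀ {x y : ι → F}, Rat ρ x → Rat ρ y → ρ (polar ⇑Q x y) = polar ⇑Q x y := by
      intro x y hx hy
      simp only [polar, map_sub]
      rw [← hQρ, ← hQρ, ← hQρ, (hx.add hy).comp, hx.comp, hy.comp]
    set h := ∑ i, (polar ⇑Q x (E.f i) • E.e i + polar ⇑Q x (E.e i) • E.f i) with hh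
    have hTh : T h = c • h := by
      rw [hh, Tsum, Finset.smul_sum]
      refine Finset.sum_congr rfl fun i _ => ?_
      rw [Tadd, Tsmul, Tsmul, ha, hb, hbc, hall i i₀, ← hc_def, smul_add,
        hσ _ (hpol hrx (hrf i)), hσ _ (hpol hrx (hre i)), smul_comm c, smul_comm c]
    have hpl : ∀ y, polar ⇑Q h y = ∑ i, (polar ⇑Q x (E.f i) * polar ⇑Q (E.e i) y +
        polar ⇑Q x (E.e i) * polar ⇑Q (E.f i) y) := by
      intro y
      rw [hh, ← polarBilin_apply_apply, map_sum, LinearMap.sum_apply]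
      refine Finset.sum_congr rfl fun i _ => ?_
      rw [polarBilin_apply_apply, polar_add_left, polar_smul_left, polar_smul_left, smul_eq_mul,
        smul_eq_mul]
    have hoe : ∀ l, polar ⇑Q (x - h) (E.e l) = 0 := fun l => by
      rw [polar_sub_left, hpl]; simp [E.ee', E.fe, Finset.sum_add_distrib]
    have hof : ∀ l, polar ⇑Q (x - h) (E.f l) = 0 := fun l => by
      rw [polar_sub_left, hpl]; simp [E.ef, E.ff', Finset.sum_add_distrib]
    have hrh : Rat ρ h := rat_sum fun i _ => ((hre i).smul (hpol hrx (hrf i))).add ((hrf i).smul (hpol hrx (hre i)))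
    have := hrest _ (hrx.sub hrh) hoe hof
    rw [Tsub, hTh, smul_sub, sub_left_inj] at this
    exact this
  refine ⟨hσ, c, ha0 i₀, Matrix.ext_of_mulVec_single fun i => ?_⟩
  have := hallx (Pi.single i 1) (rat_single ρ i)
  have hs : σ ∘ (Pi.single i 1 : ι → F) = Pi.single i 1 :=
    funext fun j => by by_cases h : j = i <;> simp [h]
  rw [smul_mulVec, one_mulVec]
  simp only [hT, hs] at this
  exact this

end Cfsg.Agent.LocalEven61.OrthRat
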