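import Cfsg.Agent.AutPSL.Coset
import Cfsg.Agent.AutPSL.Centralizer
import Cfsg.Agent.LocalEven61.FormGeom

/-!
Automorphisms of `PSL_n(q)` fixing prescribed elements.
-/

set_option autoImplicit false

namespace Cfsg.Agent.LocalEven61.PSLBalance

open Matrix Cfsg.Agent.AutPSL Cfsg.Agent.LocalEven61.FormGeom

universe u v

variable {n : ℕ} {F : Type u} [Field F]

theorem mem_center_of_scalar {s : Matrix.SpecialLinearGroup (Fin n) F} {c : F}
    (h : (s : Matrix (Fin n) (Fin n) F) = c • 1) :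
    s ∈ Subgroup.center (Matrix.SpecialLinearGroup (Fin n) F) :=
  Subgroup.mem_center_iff.2 fun t => Subtype.ext (by
    rw [Matrix.SpecialLinearGroup.coe_mul, Matrix.SpecialLinearGroup.coe_mul, h, Matrix.smul_mul,
      Matrix.mul_smul, Matrix.one_mul, Matrix.mul_one])

theorem scalar_of_mem_center {s : Matrix.SpecialLinearGroup (Fin n) F}
    (h : s ∈ Subgroup.center (Matrix.SpecialLinearGroup (Fin n) F)) :
    ∃ c : F, (s : Matrix (Fin n) (Fin n) F) = c • 1 := by
  obtain ⟨c, -, hc⟩ := Matrix.SpecialLinearGroup.mem_center_iff.1 h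
  exact ⟨c, by rw [← hc, Matrix.scalar_apply, Matrix.smul_one_eq_diagonal]⟩

theorem unipotent_eigen {a b w : Fin n → F} (h : b ⬝ᵥ a = 0) (hw : w ≠ 0) {k : F}
    (e : tauM a b *ᵥ w = k • w) : k = 1 := by
  rw [tauM_mulVec] at e
  by_contra hk
  have h1 := congrArg (b ⬝ᵥ ·) e
  simp only [dotProduct_add, dotProduct_smul, h, smul_eq_mul, mul_zero, add_zero] at h1
  have h0 : b ⬝ᵥ w = 0 := by
    have : (1 - k) * (b ⬝ᵥ w) = 0 := by linear_combination h1
    exact (mul_eq_zero.1 this).resolve_left (sub_ne_zero.2 (Ne.symm hk))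
  rw [h0, zero_smul, add_zero] at e
  have : (1 - k) • w = 0 := by rw [sub_smul, one_smul, ← e, sub_self]
  exact (smul_eq_zero.1 this).elim (fun h' => hk (sub_eq_zero.1 h').symm) hw

/-- From `g τ(X) g⁻¹ = c Y` to a twisted commutation of the semilinear map. -/
theorem app_comm_of_act {g : GL (Fin n) F} {τ : F ≃+* F} {X Y : GL (Fin n) F} {c : F}
    (h : (act g τ X : Matrix (Fin n) (Fin n) F) = c • (Y : Matrix (Fin n) (Fin n) F)) (x : Fin n → F) :
    app g τ ((X : Matrix (Fin n) (Fin n) F) *ᵥ x) =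
      c • ((Y : Matrix (Fin n) (Fin n) F) *ᵥ app g τ x) := by
  have hc : ⇑τ ∘ ((X : Matrix (Fin n) (Fin n) F) *ᵥ x) =
      (X : Matrix (Fin n) (Fin n) F).map τ *ᵥ (⇑τ ∘ x) :=
    funext fun i => RingHom.map_mulVec (τ : F →+* F) _ x i
  show (g : Matrix (Fin n) (Fin n) F) *ᵥ (⇑τ ∘ ((X : Matrix (Fin n) (Fin n) F) *ᵥ x)) = _
  rw [hc, ← smul_mulVec, ← h, act_coe, mulVec_mulVec, mulVec_mulVec, Matrix.mul_assoc, ← Units.val_mul,
    inv_mul_cancel, Units.val_one, Matrix.mul_one]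

theorem act_of_semi {g : GL (Fin n) F} {τ : F ≃+* F}
    {β : MulAut (Matrix.ProjectiveSpecialLinearGroup (Fin n) F)} (hβ : IsSemi g τ β)
    {s t : Matrix.SpecialLinearGroup (Fin n) F} (h : β (QuotientGroup.mk s) = QuotientGroup.mk t) :
    ∃ c : F, (act g τ (rho n F s) : Matrix (Fin n) (Fin n) F) = c • (t : Matrix (Fin n) (Fin n) F) := by
  obtain ⟨s', hs'⟩ := normalises_psl g τ s
  rw [hβ s s' hs'] at h
  obtain ⟨c, hc⟩ := exists_scalar_of_piPSL_eq (u := s') (v := t) h
  exact ⟨c, by rw [← hs', ← hc]; rfl⟩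

variable [Fintype F]

theorem conj_mk_isSemi (s : Matrix.SpecialLinearGroup (Fin n) F) :
    IsSemi (rho n F s) 1 (MulAut.conj (QuotientGroup.mk s : Matrix.ProjectiveSpecialLinearGroup (Fin n) F)) :=
  conj_isSemi s

theorem center_psl (hn : 2 ≤ n) :
    Subgroup.center (Matrix.ProjectiveSpecialLinearGroup (Fin n) F) = ⊥ := by
  refine (Subgroup.eq_bot_iff_forall _).2 fun m hm => ?_
  obtain ⟨s, rfl⟩ := QuotientGroup.mk_surjective m
  have h1 : MulAut.conj (QuotientGroup.mk s : Matrix.ProjectiveSpecialLinearGroup (Fin n) F) = 1 :=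
    MulEquiv.ext fun y => by
      rw [MulAut.conj_apply, MulAut.one_apply, mul_inv_eq_iff_eq_mul]
      exact (Subgroup.mem_center_iff.1 hm y).symm
  obtain ⟨-, c, -, hc⟩ := IsSemi.eq_one hn (h1 ▸ conj_mk_isSemi s)
  exact (QuotientGroup.eq_one_iff _).2 (mem_center_of_scalar (c := c) (by rw [← hc, rho_coe]))

/-- An automorphism fixing pointwise the images of rational transvections is semilinear, induced by
a scalar and an automorphism fixing the small field. -/
theorem semi_of_fix_rational (hn : 2 ≤ n) {F₀ : Type v} [Field F₀] (i : F₀ →+* F)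
    {β : MulAut (Matrix.ProjectiveSpecialLinearGroup (Fin n) F)}
    (hβ : ∀ t : Matrix.SpecialLinearGroup (Fin n) F₀,
      β (QuotientGroup.mk (Matrix.SpecialLinearGroup.map i t)) =
        QuotientGroup.mk (Matrix.SpecialLinearGroup.map i t)) :
    ∃ (c : Fˣ) (τ : F ≃+* F), IsSemi (scalarGL (Fin n) c) τ β ∧ ∀ y, τ (i y) = i y := by
  classical
  haveI : NeZero n := ⟨by omega⟩
  have htau : ∀ (a b : Fin n → F₀) (h : b ⬝ᵥ a = 0),
      ((Matrix.SpecialLinearGroup.map i (tau a b h) : Matrix.SpecialLinearGroup (Fin n) F) :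
        Matrix (Fin n) (Fin n) F) = tauM (⇑i ∘ a) (⇑i ∘ b) := fun a b h => by
    ext k l
    simp [tau_coe, tauM, vecMulVec_apply, Matrix.one_apply, apply_ite i]
  have hdot : ∀ (a b : Fin n → F₀), b ⬝ᵥ a = 0 → (⇑i ∘ b) ⬝ᵥ (⇑i ∘ a) = 0 := fun a b h => by
    rw [← RingHom.map_dotProduct, h, map_zero]
  -- a vector orthogonal to a given one
  have hperp : ∀ a : Fin n → F₀, ∃ b : Fin n → F₀, b ≠ 0 ∧ b ⬝ᵥ a = 0 := by
    intro a
    haveI : Nontrivial (Fin n) := Fin.nontrivial_iff_two_le.mpr hn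
    by_cases h : a 0 = 0
    · exact ⟨Pi.single 0 1, by simp, by rw [single_dotProduct, h, mul_zero]⟩
    · obtain ⟨j, hj⟩ := exists_ne (0 : Fin n)
      refine ⟨a 0 • Pi.single j 1 - a j • Pi.single 0 1, fun e => h ?_, ?_⟩
      · have := congrFun e j; simpa [hj] using this
      · simp [sub_dotProduct, single_dotProduct]; ring
  obtain ⟨g, τ, γ, hγ, hor⟩ := exists_semi hn β
  -- scalars in the twisted commutation are trivial
  have hcomm : ∀ (a b a' b' : Fin n → F₀) (h : b ⬝ᵥ a = 0) (h' : b' ⬝ᵥ a' = 0)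
      (X Y : Matrix.SpecialLinearGroup (Fin n) F),
      (X : Matrix (Fin n) (Fin n) F) = tauM (⇑i ∘ a) (⇑i ∘ b) →
      (Y : Matrix (Fin n) (Fin n) F) = tauM (⇑i ∘ a') (⇑i ∘ b') →
      γ (QuotientGroup.mk X) = QuotientGroup.mk Y →
      ∀ x, app g τ (tauM (⇑i ∘ a) (⇑i ∘ b) *ᵥ x) = tauM (⇑i ∘ a') (⇑i ∘ b') *ᵥ app g τ x := by
    intro a b a' b' h h' X Y hX hY e x
    obtain ⟨c, hc⟩ := act_of_semi hγ e
    have key := fun x => app_comm_of_act (X := rho n F X) (Y := rho n F Y) (by rw [rho_coe Y]; exact hc) x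
    simp only [rho_coe, hX, hY] at key
    suffices hc1 : c = 1 by rw [key, hc1, one_smul]
    obtain ⟨w, hw0, hw⟩ : ∃ w : Fin n → F, w ≠ 0 ∧ tauM (⇑i ∘ a) (⇑i ∘ b) *ᵥ w = w := by
      by_cases ha : a = 0
      · refine ⟨Pi.single 0 1, by simp, ?_⟩
        have e0 : ⇑i ∘ a = 0 := funext fun k => by rw [ha]; exact map_zero i
        rw [tauM_mulVec, e0, smul_zero, add_zero]
      · refine ⟨⇑i ∘ a, fun e0 => ha (funext fun k => i.injective ((congrFun e0 k).trans (map_zero i).symm)), ?_⟩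
        rw [tauM_mulVec, hdot a b h, zero_smul, add_zero]
    have e1 := key w
    rw [hw] at e1
    have hc0 : c ≠ 0 := fun h0 => app_ne_zero g τ hw0 (by rw [e1, h0, zero_smul])
    have := unipotent_eigen (k := c⁻¹) (hdot a' b' h') (app_ne_zero g τ hw0)
      (by rw [eq_inv_smul_iff₀ hc0]; exact e1.symm)
    simpa using this
  rcases hor with rfl | ⟨h3, rfl⟩
  · obtain ⟨⟨c, hc0, hc⟩, hτ⟩ := scalar_of_lines i hn g τ fun a => by
      obtain ⟨b, hb, hba⟩ := hperp a
      exact line_of_comm_tau i g τ hb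
        (hcomm a b a b hba hba _ _ (htau a b hba) (htau a b hba) (hβ _))
    obtain ⟨d, -, hd⟩ := exists_scalarGL hc0 hc
    exact ⟨d, τ, hd ▸ hγ, hτ⟩
  · -- inverse transpose moves points to hyperplanes
    exfalso
    have hpt : ∀ (a b : Fin n → F₀), a ≠ 0 → b ⬝ᵥ a = 0 →
        ∃ ν : F, app g τ (⇑i ∘ b) = ν • (⇑i ∘ a) := by
      intro a b ha hba
      have hab : (-a) ⬝ᵥ b = 0 := by rw [neg_dotProduct, dotProduct_comm, hba, neg_zero]
      have hit : itSL (Matrix.SpecialLinearGroup.map i (tau a b hba)) =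
          Matrix.SpecialLinearGroup.map i (tau b (-a) hab) := by
        refine Subtype.ext ?_
        rw [itSL_coe, ← map_inv, htau, show (tau a b hba)⁻¹ = tau a (-b) (by rw [neg_dotProduct, hba, neg_zero]) from
          inv_eq_of_mul_eq_one_right (Subtype.ext ?_), htau]
        · ext k l
          simp [tauM, vecMulVec_apply, Matrix.one_apply, eq_comm, mul_comm]
        · rw [Matrix.SpecialLinearGroup.coe_mul, tau_coe, tau_coe, Matrix.SpecialLinearGroup.coe_one]
          refine Matrix.ext_of_mulVec_single fun k => ?_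
          rw [← mulVec_mulVec, tauM_mulVec, tauM_mulVec, one_mulVec, dotProduct_add, dotProduct_smul,
            hba, neg_dotProduct]
          module
      have e := hβ (tau a b hba)
      rw [MulAut.mul_apply, itAut_mk, hit] at e
      have key := hcomm b (-a) a b hab hba _ _ (htau _ _ hab) (htau _ _ hba) e
      obtain ⟨k, hk⟩ : ∃ k, (-a) k ≠ 0 := Function.ne_iff.1 (neg_ne_zero.2 ha)
      have hx : (⇑i ∘ (-a)) ⬝ᵥ Pi.single k (i ((-a) k))⁻¹ = 1 := by
        rw [dotProduct_single, Function.comp_apply, mul_inv_cancel₀ ((map_ne_zero i).2 hk)]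
      have h := key (Pi.single k (i ((-a) k))⁻¹)
      rw [tauM_mulVec, tauM_mulVec, hx, one_smul, app_add, add_right_inj] at h
      exact ⟨_, h⟩
    let j0 : Fin n := 0
    let j1 : Fin n := ⟨1, by omega⟩
    let j2 : Fin n := ⟨2, by omega⟩
    have h01 : j0 ≠ j1 := fun h => by have := congrArg Fin.val h; simp [j0, j1] at this
    have h02 : j0 ≠ j2 := fun h => by have := congrArg Fin.val h; simp [j0, j2] at this
    have h12 : j1 ≠ j2 := fun h => by have := congrArg Fin.val h; simp [j1, j2] at this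
    obtain ⟨ν₁, e1⟩ := hpt (Pi.single j1 1) (Pi.single j0 1) (by simp) (by simp [h01.symm])
    obtain ⟨ν₂, e2⟩ := hpt (Pi.single j2 1) (Pi.single j0 1) (by simp) (by simp [h02.symm])
    have hv : (⇑i ∘ (Pi.single j0 1 : Fin n → F₀)) ≠ 0 := fun h => by
      have := congrFun h j0; simp at this
    have e3 := congrFun (e1.symm.trans e2) j2
    simp [Function.comp_apply, h12.symm] at e3
    subst e3
    rw [zero_smul] at e2
    exact app_ne_zero g τ hv e2

/-- An automorphism of a field fixing the fixed field of `σ` is a power of `σ`. -/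
theorem pow_eq_one_of_fixes {σ τ : F ≃+* F} (h : ∀ y, σ y = y → τ y = y) :
    τ ^ orderOf σ = 1 := by
  classical
  haveI : Finite (F ≃+* F) := Finite.of_injective _ DFunLike.coe_injective
  let G := Subgroup.zpowers σ
  let τ' : F →ₐ[FixedPoints.subfield G F] F :=
    { τ.toRingHom with commutes' := fun z => h _ (z.2 ⟨σ, Subgroup.mem_zpowers σ⟩) }
  obtain ⟨⟨γ, hγ⟩, hγτ⟩ := (FixedPoints.toAlgHom_bijective G F).2 τ'
  have hγ' : γ = τ := RingEquiv.ext fun z => (DFunLike.congr_fun hγτ z : _)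
  obtain ⟨k, hk⟩ := hγ
  rw [← hγ', ← hk]
  show (σ ^ k) ^ orderOf σ = 1
  rw [← zpow_natCast (σ ^ k), ← _root_.zpow_mul, mul_comm, _root_.zpow_mul, zpow_natCast,
    pow_orderOf_eq_one, _root_.one_zpow]

theorem semi_scalar_pow {c : Fˣ} {τ : F ≃+* F} {k : ℕ} (hτ : τ ^ k = 1)
    {β : MulAut (Matrix.ProjectiveSpecialLinearGroup (Fin n) F)} (hβ : IsSemi (scalarGL (Fin n) c) τ β) :
    β ^ k = 1 := by
  have h := IsSemi.pow hβ k
  rw [normGL_scalarGL, hτ] at h
  exact Induced.ext (normalises_psl _ _) h (scalar_semi (scalarGL_coe _))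

end Cfsg.Agent.LocalEven61.PSLBalance
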