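import Cfsg.Agent.FieldAutGen.MinusField
import Cfsg.Agent.CG26.PSpLB
import Cfsg.Agent.LocalEven61.OrthRat
import Cfsg.Agent.LocalEven61.PSLBalanceBasic

/-!
The fixed group of a standard field automorphism of `PΩ⁻`.
-/

set_option autoImplicit false

namespace Cfsg.Agent.LocalEven61.POMinusBalance

open Matrix QuadraticMap
open Cfsg.Agent.AutPSL (fieldMap scalarGL Induced act)
open Cfsg.Agent.FieldAutGen Cfsg.Agent.FieldAutGen.Orth
open Cfsg.Agent.FieldAutGen.Minus (Idx qf qf_apply qf_map qf_sigma qf_e1 e1 frame nondeg fixer setting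
  aniso_fix odd_order)
open Cfsg.Agent.CG26.PSpLB (Fix mem_fix)
open Cfsg.Agent.LocalEven61.OrthRat

universe u v

/-- The group `Ω⁻_{2k+2}(F)`. -/
abbrev Om (k : ℕ) (F : Type u) [Field F] (a b : F) : Type u := ↥(Cfsg.Omega F (Cfsg.quadFormMinus k F a b))

/-- The group `PΩ⁻_{2k+2}(F)`. -/
abbrev PG (k : ℕ) (F : Type u) [Field F] (a b : F) : Type u :=
  Cfsg.POmega F (Cfsg.quadFormMinus k F a b)

variable {k : ℕ} {F : Type u} [Field F] [Fintype F] {a b : F}

/-- The projection. -/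
abbrev pi (k : ℕ) (F : Type u) [Field F] (a b : F) : Om k F a b →* PG k F a b := QuotientGroup.mk' _

/-- The inclusion into the matrices. -/
abbrev ro (k : ℕ) (F : Type u) [Field F] (a b : F) : Om k F a b →* GL (Idx k) F :=
  rho (Cfsg.quadFormMinus k F a b)

variable (hk : 3 ≤ k) (hab : ∀ z₁ z₂ : F, z₁ ^ 2 + a * z₁ * z₂ + b * z₂ ^ 2 = 0 → z₁ = 0 ∧ z₂ = 0)

include hk hab

theorem mk_eq_one_iff (s : Om k F a b) :
    pi k F a b s = 1 ↔ ∃ c : Fˣ, ro k F a b s = scalarGL (Idx k) c := by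
  have hS := setting hk hab
  rw [← conjH_eq_one_iff hS (g := ⟨ro k F a b s, hS.rho_mem s⟩), conjH_rho hS]
  refine ⟨fun h => by rw [show (QuotientGroup.mk s : PG k F a b) = 1 from h, map_one], fun h => ?_⟩
  refine (QuotientGroup.eq_one_iff _).2 (Subgroup.mem_center_iff.2 fun t => ?_)
  obtain ⟨c, hc⟩ := (conjH_eq_one_iff hS (g := ⟨ro k F a b s, hS.rho_mem s⟩)).1 (by rw [conjH_rho hS]; exact h)
  apply hS.inj
  rw [map_mul, map_mul]
  show ro k F a b t * ro k F a b s = ro k F a b s * ro k F a b t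
  rw [show ro k F a b s = scalarGL _ c from hc, AutPSL.scalarGL_mul_comm]

theorem center_pg : Subgroup.center (PG k F a b) = ⊥ := by
  refine (Subgroup.eq_bot_iff_forall _).2 fun z hz => ?_
  obtain ⟨s, rfl⟩ := QuotientGroup.mk_surjective z
  have hS := setting hk hab
  have h1 : MulAut.conj (QuotientGroup.mk s : PG k F a b) = 1 := MulEquiv.ext fun y => by
    rw [MulAut.conj_apply, ← Subgroup.mem_center_iff.1 hz y, mul_inv_cancel_right, MulAut.one_apply]
  exact (mk_eq_one_iff hk hab s).2 ((conjH_eq_one_iff hS (g := ⟨ro k F a b s, hS.rho_mem s⟩)).1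
    ((conjH_rho hS s).trans h1))

theorem scalar_sq {c : Fˣ} {s : Om k F a b} (hc : ro k F a b s = scalarGL (Idx k) c) : c * c = 1 := by
  refine Units.ext ?_
  have h := mem_iso.1 (show ro k F a b s ∈ Cfsg.isometryGroup F (Cfsg.quadFormMinus k F a b) from s.1.2)
    (e1 k F)
  rw [hc, AutPSL.scalarGL_coe, smul_mulVec, one_mulVec, ← qf_apply, ← qf_apply,
    QuadraticMap.map_smul, qf_e1, smul_eq_mul, mul_one] at h
  simpa using h

theorem mem_fix_iff {σ : F ≃+* F} (hσ : σ ∈ fixer a b) {φ : MulAut (PG k F a b)}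
    (hφ : Induced (ro k F a b) 1 σ φ) (s : Om k F a b) :
    pi k F a b s ∈ Fix φ ↔ fieldMap σ (ro k F a b s) = ro k F a b s := by
  have hS := setting hk hab
  obtain ⟨s', hs'⟩ := hS.norm 1 (one_mem _) σ hσ s
  have he : φ (pi k F a b s) = pi k F a b s' := hφ s s' hs'
  rw [AutPSL.act_apply, one_mul, inv_one, mul_one] at hs'
  rw [mem_fix, he]
  refine ⟨fun h => ?_, fun h => by rw [hS.inj (hs'.trans h)]⟩
  obtain ⟨c, hc⟩ := (mk_eq_one_iff hk hab (s⁻¹ * s')).1
    (by rw [map_mul, map_inv, h, inv_mul_cancel])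
  have hc2 := scalar_sq hk hab hc
  have hf : fieldMap σ (ro k F a b s) = ro k F a b s * scalarGL _ c := by
    rw [← hs', ← hc, ← map_mul, mul_inv_cancel_left]
  have hσc : Units.map (σ.toRingHom : F →* F) c = c := by
    apply Units.ext
    show σ (c : F) = c
    have : (c : F) * c = 1 := by rw [← Units.val_mul, hc2, Units.val_one]
    rcases mul_self_eq_one_iff.1 this with h | h <;> simp [h]
  have hpow : ∀ j : ℕ, fieldMap (σ ^ j) (ro k F a b s) = ro k F a b s * scalarGL _ (c ^ j) := by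
    intro j
    induction j with
    | zero =>
      rw [pow_zero, pow_zero, AutPSL.fieldMap_one, show scalarGL (Idx k) (1 : Fˣ) = 1 from map_one _,
        mul_one]
    | succ j ih =>
      have hσj : Units.map (σ.toRingHom : F →* F) (c ^ j) = c ^ j := by rw [map_pow, hσc]
      rw [pow_succ', AutPSL.fieldMap_mul, ih, map_mul, hf, AutPSL.fieldMap_scalarGL]
      rw [hσj, mul_assoc,
        ← map_mul, ← pow_succ']
  obtain ⟨m, hm⟩ := odd_order hσ hab
  have h1 := hpow (orderOf σ)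
  rw [pow_orderOf_eq_one, AutPSL.fieldMap_one, eq_comm, mul_eq_left] at h1
  have h2 : c ^ orderOf σ = 1 := AutPSL.scalarGL_injective (h1.trans (map_one _).symm)
  rw [hm, pow_succ, pow_mul, pow_two, hc2, one_pow, one_mul] at h2
  rw [hf, h2, show scalarGL (Idx k) (1 : Fˣ) = 1 from map_one _, mul_one]

section subfield

variable {F₀ : Type v} [Field F₀] (i : F₀ →+* F) {a₀ b₀ : F₀} (ha : i a₀ = a) (hb : i b₀ = b)

include ha hb

omit hk hab [Fintype F] in
theorem qf_incl (x : Idx k → F₀) : qf k F a b (i ∘ x) = i (qf k F₀ a₀ b₀ x) := by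
  rw [← ha, ← hb]; exact qf_map i x

omit hk hab [Fintype F] in
theorem map_mem_iso {g : GL (Idx k) F₀} (hg : g ∈ Cfsg.isometryGroup F₀ (Cfsg.quadFormMinus k F₀ a₀ b₀)) :
    Matrix.GeneralLinearGroup.map i g ∈ Cfsg.isometryGroup F (Cfsg.quadFormMinus k F a b) := by
  obtain ⟨c, hc⟩ := (map_mem_sim_iff (qf k F a b) (qf k F₀ a₀ b₀) i (qf_incl i ha hb) qf_e1 g).2
    (iso_le_sim _ hg)
  have h1 := hc (i ∘ e1 k F₀)
  rw [show ((Matrix.GeneralLinearGroup.map i g : GL (Idx k) F) : Matrix (Idx k) (Idx k) F) *ᵥ (i ∘ e1 k F₀) =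
      i ∘ ((g : Matrix (Idx k) (Idx k) F₀) *ᵥ e1 k F₀) from funext fun l => (RingHom.map_mulVec i _ _ l).symm,
    qf_incl i ha hb, qf_incl i ha hb, qf_apply, mem_iso.1 hg, ← qf_apply, qf_e1, map_one, mul_one] at h1
  refine mem_iso.2 fun v => ?_
  rw [← qf_apply, ← qf_apply]
  exact (hc v).trans (by rw [← h1, one_mul])

omit hk hab [Fintype F] in
/-- Extension of the scalars. -/
theorem exists_isoMap : ∃ f : ↥(Cfsg.isometryGroup F₀ (Cfsg.quadFormMinus k F₀ a₀ b₀)) →*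
    ↥(Cfsg.isometryGroup F (Cfsg.quadFormMinus k F a b)),
    (∀ g, (f g : GL (Idx k) F) = Matrix.GeneralLinearGroup.map i (g : GL (Idx k) F₀)) ∧
      ∀ g ∈ Cfsg.Omega F₀ (Cfsg.quadFormMinus k F₀ a₀ b₀), f g ∈ Cfsg.Omega F (Cfsg.quadFormMinus k F a b) := by
  refine ⟨((Matrix.GeneralLinearGroup.map i).comp
    (Cfsg.isometryGroup F₀ (Cfsg.quadFormMinus k F₀ a₀ b₀)).subtype).codRestrict _
      fun g => map_mem_iso i ha hb g.2, fun g => rfl, fun g hg => ?_⟩
  refine (show (Cfsg.Omega F₀ (Cfsg.quadFormMinus k F₀ a₀ b₀)).map _ ≤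
      Cfsg.Omega F (Cfsg.quadFormMinus k F a b) from ?_) ⟨g, hg, rfl⟩
  rw [Cfsg.Omega, commutator_def, Subgroup.map_commutator]
  exact Subgroup.commutator_mono le_top le_top

omit hk hab [Fintype F] in
/-- Descent of a fixed element. -/
theorem exists_rational {σ : F ≃+* F} (hi : ∀ x : F, σ x = x ↔ ∃ y, i y = x) {s : Om k F a b}
    (hs : fieldMap σ (ro k F a b s) = ro k F a b s) :
    ∃ g : ↥(Cfsg.isometryGroup F₀ (Cfsg.quadFormMinus k F₀ a₀ b₀)),
      Matrix.GeneralLinearGroup.map i (g : GL (Idx k) F₀) = ro k F a b s := by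
  have key : ∀ x : GL (Idx k) F, fieldMap σ x = x →
      ∃ M : Matrix (Idx k) (Idx k) F₀, M.map i = (x : Matrix (Idx k) (Idx k) F) := by
    intro x hx
    have h : ∀ p q, ∃ y, i y = (x : Matrix (Idx k) (Idx k) F) p q := fun p q =>
      (hi _).1 (congrArg (fun z : GL (Idx k) F => (z : Matrix (Idx k) (Idx k) F) p q) hx)
    choose M hM using h
    exact ⟨Matrix.of M, Matrix.ext hM⟩
  obtain ⟨A, hA⟩ := key _ hs
  obtain ⟨B, hB⟩ := key _ (show fieldMap σ (ro k F a b s)⁻¹ = (ro k F a b s)⁻¹ by rw [map_inv, hs])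
  have hinj : Function.Injective (fun M : Matrix (Idx k) (Idx k) F₀ => M.map i) := fun M N h =>
    Matrix.ext fun x y => i.injective (congrFun (congrFun h x) y)
  let G : GL (Idx k) F₀ :=
    { val := A
      inv := B
      val_inv := hinj (by simp [Matrix.map_mul, hA, hB])
      inv_val := hinj (by simp [Matrix.map_mul, hA, hB]) }
  have hG : Matrix.GeneralLinearGroup.map i G = ro k F a b s := Units.ext hA
  refine ⟨⟨G, mem_iso.2 fun x => i.injective ?_⟩, hG⟩
  rw [← qf_apply, ← qf_apply, ← qf_incl i ha hb, ← qf_incl i ha hb]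
  show qf k F a b (i ∘ (A *ᵥ x)) = _
  rw [show i ∘ (A *ᵥ x) = A.map i *ᵥ (i ∘ x) from funext fun l => RingHom.map_mulVec i _ x l, hA]
  exact mem_iso.1 (show ro k F a b s ∈ Cfsg.isometryGroup F (Cfsg.quadFormMinus k F a b) from s.1.2) (i ∘ x)

end subfield

omit hk hab [Fintype F] in
theorem siegel_map {F₀ : Type v} [Field F₀] (i : F₀ →+* F) {a₀ b₀ : F₀} (ha : i a₀ = a) (hb : i b₀ = b)
    (u v : Idx k → F₀) :
    (Cfsg.siegelMatrix ⇑(qf k F₀ a₀ b₀) u v 1).map i = Cfsg.siegelMatrix ⇑(qf k F a b) (i ∘ u) (i ∘ v) 1 := by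
  ext p q
  have h : ∀ w : Idx k → F₀, Cfsg.polarVec ⇑(qf k F a b) (i ∘ w) q = i (Cfsg.polarVec ⇑(qf k F₀ a₀ b₀) w q) := by
    intro w
    show polar ⇑(qf k F a b) _ _ = i (polar ⇑(qf k F₀ a₀ b₀) _ _)
    rw [← polar_map i (qf_incl i ha hb), comp_single]
  simp only [Cfsg.siegelMatrix, Matrix.map_apply, Matrix.add_apply, Matrix.sub_apply,
    Matrix.smul_apply, Matrix.vecMulVec_apply, smul_eq_mul, map_add, map_sub, map_mul, h,
    one_mul, map_one, Function.comp_apply]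
  by_cases hpq : p = q <;> simp [hpq, Matrix.one_apply]

omit hk hab [Fintype F] in
/-- A scalar multiple of a Siegel transformation fixing a nonzero vector is the transformation. -/
theorem siegel_eigen {u v y : Idx k → F} (hu : qf k F a b u = 0) (hv : qf k F a b v = 0)
    (huv : polar ⇑(qf k F a b) u v = 0) (hy : y ≠ 0) {l : F}
    (h : Cfsg.siegelMatrix ⇑(qf k F a b) u v 1 *ᵥ y = l • y) : l = 1 := by
  set S := Cfsg.siegelMatrix ⇑(qf k F a b) u v 1
  have hnil : S *ᵥ (S *ᵥ y - y) = S *ᵥ y - y := by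
    simp only [S, Reflections.siegel_mulVec, one_mul]
    simp [polar_add_right, polar_sub_right, polar_smul_right, Reflections.polar_self', hu, hv,
      huv, show polar ⇑(qf k F a b) v u = 0 by rw [polar_comm, huv]]
  rw [h, mulVec_sub, mulVec_smul, h] at hnil
  have h2 : ((l - 1) * (l - 1)) • y = 0 := by linear_combination (norm := module) hnil
  exact sub_eq_zero.1 (mul_self_eq_zero.1 ((smul_eq_zero.1 h2).resolve_right hy))

theorem pow_eq_one_of_fix {σ : F ≃+* F} (hσm : σ ∈ fixer a b) {p : ℕ} (hσ : orderOf σ = p)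
    {β : MulAut (PG k F a b)}
    (h : ∀ (t : Om k (fixField σ) ⟨a, hσm.1⟩ ⟨b, hσm.2⟩) (s : Om k F a b),
      ro k F a b s = Matrix.GeneralLinearGroup.map (fixField σ).subtype (rho _ t) →
        β (pi k F a b s) = pi k F a b s) :
    β ^ p = 1 := by
  classical
  have hS := setting hk hab
  haveI := hS.fin
  obtain ⟨g, τ, hg, hb⟩ := exists_semi (fun v => UnitaryOrthogonal.qMinus_apply k a b v)
    (CG26.AutPO.setup_minus hab hk) (CG26.AutPO.big_minus hab hk) β
  letI : Fintype (fixField σ) := Fintype.ofFinite _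
  obtain ⟨f, hf, hfΩ⟩ := exists_isoMap (k := k) (fixField σ).subtype (a := a) (b := b)
    (a₀ := (⟨a, hσm.1⟩ : fixField σ)) (b₀ := ⟨b, hσm.2⟩) rfl rfl
  obtain ⟨hτ, c, hc0, hc⟩ := eq_scalar_of_commute_rat hk (frame k F a b) σ (qf_sigma hσm.1 hσm.2)
    (fun i => rat_single σ _) (fun i => rat_single σ _) g τ fun u v hru hrv hu hv huv x => by
    let u₀ : Idx k → fixField σ := fun j => ⟨u j, hru j⟩
    let v₀ : Idx k → fixField σ := fun j => ⟨v j, hrv j⟩
    have hu' : (fixField σ).subtype ∘ u₀ = u := rfl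
    have hv' : (fixField σ).subtype ∘ v₀ = v := rfl
    obtain ⟨t, ht⟩ := Orth.hasSiegel _ (nondeg (k := k) (aniso_fix hσm hab)) (by simp; omega) u₀ v₀
      ((fixField σ).subtype.injective (by rw [← qf_incl (fixField σ).subtype rfl rfl, map_zero]; exact hu))
      ((fixField σ).subtype.injective (by rw [← qf_incl (fixField σ).subtype rfl rfl, map_zero]; exact hv))
      ((fixField σ).subtype.injective (by
        rw [← polar_map _ (qf_incl (fixField σ).subtype rfl rfl), map_zero]; exact huv))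
    let s : Om k F a b := ⟨f t.1, hfΩ _ t.2⟩
    have hsR : ro k F a b s = Matrix.GeneralLinearGroup.map (fixField σ).subtype (rho _ t) := hf t.1
    have hs : ((ro k F a b s : GL (Idx k) F) : Matrix (Idx k) (Idx k) F) =
        Cfsg.siegelMatrix ⇑(qf k F a b) u v 1 := by
      rw [hsR, ← hu', ← hv', ← siegel_map (fixField σ).subtype (a := a) (b := b) (a₀ := (⟨a, hσm.1⟩ : fixField σ))
          (b₀ := ⟨b, hσm.2⟩) rfl rfl, ← ht]; rfl
    obtain ⟨s', hs'⟩ := Orth.normalises hg s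
    have e := (h t s hsR).symm.trans (hb _ _ hs')
    obtain ⟨l, hl⟩ := (mk_eq_one_iff hk hab (s⁻¹ * s')).1 (by rw [map_mul, map_inv, e]; exact inv_mul_cancel _)
    have hss : ro k F a b s' = ro k F a b s * scalarGL _ l := by rw [← hl, ← map_mul, mul_inv_cancel_left]
    have hl1 : (l : F) = 1 := by
      by_cases hu0 : u = 0 ∧ v = 0
      · have h1 : ro k F a b s = 1 := Units.ext (by rw [hs, hu0.1, hu0.2]; simp [Cfsg.siegelMatrix])
        rw [hss, h1, one_mul, AutPSL.act_apply, map_one, mul_one, mul_inv_cancel] at hs'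
        exact congrArg Units.val (AutPSL.scalarGL_injective (hs'.trans (map_one _).symm))
      obtain ⟨y₀, hy₀, hfy⟩ : ∃ y₀ : Idx k → F, y₀ ≠ 0 ∧ Cfsg.siegelMatrix ⇑(qf k F a b) u v 1 *ᵥ y₀ = y₀ := by
        obtain ⟨f1, f2⟩ : Cfsg.siegelMatrix ⇑(qf k F a b) u v 1 *ᵥ u = u ∧
            Cfsg.siegelMatrix ⇑(qf k F a b) u v 1 *ᵥ v = v := by
          have hvu : polar ⇑(qf k F a b) v u = 0 := by rw [polar_comm, huv]
          constructor <;> simp [Reflections.siegel_mulVec, Reflections.polar_self', hu, hv, huv, hvu]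
        by_cases hu' : u = 0
        · exact ⟨v, fun h => hu0 ⟨hu', h⟩, f2⟩
        · exact ⟨u, hu', f1⟩
      have hne : (g : Matrix (Idx k) (Idx k) F) *ᵥ (τ ∘ y₀) ≠ 0 := fun e => hy₀ (by
        have h1 := congrArg (((g⁻¹ : GL (Idx k) F) : Matrix (Idx k) (Idx k) F) *ᵥ ·) e
        simp only [mulVec_mulVec, ← Units.val_mul, inv_mul_cancel, Units.val_one, one_mulVec,
          mulVec_zero] at h1
        exact funext fun i => τ.injective ((congrFun h1 i).trans (map_zero τ).symm))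
      have h1 := congrArg (fun w : GL (Idx k) F => (w : Matrix (Idx k) (Idx k) F) *ᵥ
        ((g : Matrix (Idx k) (Idx k) F) *ᵥ (τ ∘ y₀))) hs'
      simp only [act_mulVec, hs, hfy, hss, Units.val_mul, AutPSL.scalarGL_coe, Matrix.mul_smul, mul_one,
        smul_mulVec] at h1
      have := siegel_eigen hu hv huv hne (l := (l : F)⁻¹) (by rw [eq_inv_smul_iff₀ l.ne_zero]; exact h1)
      exact inv_eq_one.1 this
    rw [hss, show l = 1 from Units.ext hl1, show scalarGL (Idx k) (1 : Fˣ) = 1 from map_one _, mul_one] at hs'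
    have := congrArg (fun y : GL (Idx k) F => (y : Matrix (Idx k) (Idx k) F) *ᵥ
      ((g : Matrix (Idx k) (Idx k) F) *ᵥ (τ ∘ x))) hs'
    simp only [act_mulVec, hs] at this
    exact this.symm
  have hτm : τ ∈ fixer a b := ⟨hτ a hσm.1, hτ b hσm.2⟩
  have hgs : g = scalarGL (Idx k) (Units.mk0 c hc0) := Units.ext (by rw [AutPSL.scalarGL_coe, hc]; rfl)
  have hb1 : Induced (ro k F a b) 1 τ β := fun t t' ht => hb t t' (by
    rw [ht, AutPSL.act_apply, AutPSL.act_apply, hgs, one_mul, inv_one, mul_one, AutPSL.scalarGL_mul_comm,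
      mul_inv_cancel_right])
  have hτp : τ ^ p = 1 := hσ ▸ PSLBalance.pow_eq_one_of_fixes hτ
  have ho := FieldAutGen.orderOf_std hS hτm hb1
  exact orderOf_dvd_iff_pow_eq_one.1 (ho ▸ orderOf_dvd_of_pow_eq_one hτp)

omit hk hab in
theorem sq_mem_omega {n : Type} [Fintype n] [DecidableEq n] (Q : QuadraticForm F (n → F))
    (hQ : Q.polarBilin.Nondegenerate) (hn : 5 ≤ Fintype.card n)
    (g : ↥(Cfsg.isometryGroup F ⇑Q)) : g * g ∈ Cfsg.Omega F ⇑Q := by
  classical
  by_cases h2 : (2 : F) = 0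
  · haveI : CharP F 2 := CharTwo.of_one_ne_zero_of_two_eq_zero one_ne_zero h2
    exact Subgroup.mul_self_mem_of_index_two
      (Reflections.omega_index_two hQ (Or.inr (by omega)) (by omega)) g
  · obtain ⟨ε, -, hε⟩ := Reflections.exists_nonsquare_scalar (F := F) h2
    rw [Reflections.omega_eq_ker h2 hQ (by omega) hε, MonoidHom.mem_ker, map_mul]
    exact Prod.ext (Int.units_mul_self _) (Int.units_mul_self _)

set_option maxHeartbeats 800000 in
theorem fix_hyps {p : ℕ} [Fact p.Prime] {σ : F ≃+* F} (hσm : σ ∈ fixer a b) (hσ : orderOf σ = p)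
    {φ : MulAut (PG k F a b)} (hφ : Induced (ro k F a b) 1 σ φ) :
    Fix φ ≠ ⊥ ∧ (∀ β : MulAut (PG k F a b), (∀ x ∈ Fix φ, β x = x) → β ^ p = 1) ∧
      (p ∣ Nat.card (Fix φ) → ∀ M : Subgroup (PG k F a b), M ≤ Fix φ →
        (∀ l ∈ Fix φ, ∀ m ∈ M, l * m * l⁻¹ ∈ M) → (Nat.card M).Coprime p → M = ⊥) := by
  classical
  have hp : p.Prime := Fact.out
  haveI : Finite (Om k F a b) := (setting hk hab).fin
  set F₀ := fixField σ with hF₀
  letI : Fintype F₀ := Fintype.ofFinite _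
  have hi : ∀ x : F, σ x = x ↔ ∃ y, F₀.subtype y = x :=
    fun x => ⟨fun h => ⟨⟨x, h⟩, rfl⟩, by rintro ⟨y, rfl⟩; exact y.2⟩
  have hab₀ := aniso_fix hσm hab
  have hS₀ := setting hk hab₀
  obtain ⟨f, hf, hfΩ⟩ := exists_isoMap (k := k) F₀.subtype (a := a) (b := b)
    (a₀ := (⟨a, hσm.1⟩ : F₀)) (b₀ := ⟨b, hσm.2⟩) rfl rfl
  let em : Om k F₀ ⟨a, hσm.1⟩ ⟨b, hσm.2⟩ →* Om k F a b :=
    (f.comp (Cfsg.Omega F₀ _).subtype).codRestrict _ fun g => hfΩ _ g.2
  have hem : ∀ t, ro k F a b (em t) = Matrix.GeneralLinearGroup.map F₀.subtype (rho _ t) := fun t => hf t.1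
  let ψ : Om k F₀ ⟨a, hσm.1⟩ ⟨b, hσm.2⟩ →* PG k F a b := (pi k F a b).comp em
  have hψfix : ∀ t, ψ t ∈ Fix φ := fun t => (mem_fix_iff hk hab hσm hφ _).2 (by
    rw [hem]; exact Units.ext (Matrix.ext fun p q => fixField_fixed _))
  -- the centre is killed
  have hker : ∀ t, pi k F₀ _ _ t = 1 → ψ t = 1 := by
    intro t ht
    obtain ⟨c, hc⟩ := (mk_eq_one_iff hk hab₀ t).1 ht
    refine (mk_eq_one_iff hk hab (em t)).2 ⟨Units.map (F₀.subtype : F₀ →* F) c, ?_⟩
    rw [hem, hc]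
    refine Units.ext (Matrix.ext fun p q => ?_)
    show F₀.subtype ((scalarGL (Idx k) c : GL (Idx k) F₀) p q) = _
    rw [AutPSL.scalarGL_coe, AutPSL.scalarGL_coe]
    by_cases hpq : p = q <;> simp [hpq]
  have hker' : ∀ t, ψ t = 1 → pi k F₀ _ _ t = 1 := by
    intro t ht
    obtain ⟨c, hc⟩ := (mk_eq_one_iff hk hab (em t)).1 ht
    rw [hem] at hc
    refine (QuotientGroup.eq_one_iff _).2 (Subgroup.mem_center_iff.2 fun u => hS₀.inj ?_)
    have hinj : Function.Injective (Matrix.GeneralLinearGroup.map F₀.subtype :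
        GL (Idx k) F₀ →* GL (Idx k) F) := fun x y h => Units.ext (Matrix.ext fun p q =>
      Subtype.ext (congrArg (fun z : GL (Idx k) F => (z : Matrix (Idx k) (Idx k) F) p q) h))
    apply hinj
    rw [map_mul, map_mul, map_mul, map_mul, hc, AutPSL.scalarGL_mul_comm]
  obtain ⟨kk, rfl⟩ : ∃ kk, k = kk + 2 := ⟨k - 2, by omega⟩
  haveI := (UnitaryOrthogonal.pomega_minus (F := F₀) hab₀ kk).1
  have hrat : ∀ x ∈ Fix φ, ∃ (s : Om (kk + 2) F a b)
      (g : ↥(Cfsg.isometryGroup F₀ (Cfsg.quadFormMinus (kk + 2) F₀ ⟨a, hσm.1⟩ ⟨b, hσm.2⟩))),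
      pi _ F a b s = x ∧ f g = (s : ↥(Cfsg.isometryGroup F _)) := by
    intro x hx
    obtain ⟨s, rfl⟩ := QuotientGroup.mk_surjective x
    obtain ⟨g, hg⟩ := exists_rational F₀.subtype (a₀ := (⟨a, hσm.1⟩ : F₀)) (b₀ := ⟨b, hσm.2⟩) rfl rfl hi
      ((mem_fix_iff hk hab hσm hφ s).1 hx)
    exact ⟨s, g, rfl, Subtype.ext ((hf g).trans hg)⟩
  have hfix : ∀ β : MulAut (PG (kk + 2) F a b), (∀ t, β (ψ t) = ψ t) → β ^ p = 1 := fun β hβ =>
    pow_eq_one_of_fix hk hab hσm hσ fun t s hs => by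
      rw [show s = em t from (setting hk hab).inj (hs.trans (hem t).symm)]; exact hβ t
  refine ⟨fun e => ?_, fun β hβ => hfix β fun t => hβ _ (hψfix t), fun hdvd M hM hnor hcop => ?_⟩
  · obtain ⟨x, hx⟩ := exists_ne (1 : PG (kk + 2) F₀ ⟨a, hσm.1⟩ ⟨b, hσm.2⟩)
    obtain ⟨t, rfl⟩ := QuotientGroup.mk_surjective x
    have := hψfix t
    rw [e, Subgroup.mem_bot] at this
    exact hx (hker' t this)
  have hnorm : (M.comap ψ).Normal := ⟨fun x hx g => by
    show ψ (g * x * g⁻¹) ∈ M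
    rw [map_mul, map_mul, map_inv]
    exact hnor _ (hψfix g) _ hx⟩
  rcases IsSimpleGroup.eq_bot_or_eq_top_of_normal _
    (hnorm.map (pi (kk + 2) F₀ ⟨a, hσm.1⟩ ⟨b, hσm.2⟩) (QuotientGroup.mk'_surjective _)) with hbot | htop
  · refine (Subgroup.eq_bot_iff_forall _).2 fun x hx => ?_
    have hfixed : ∀ t, MulAut.conj x (ψ t) = ψ t := by
      intro t
      obtain ⟨s, g, hs, hg⟩ := hrat x (hM hx)
      let t' : Om (kk + 2) F₀ ⟨a, hσm.1⟩ ⟨b, hσm.2⟩ := ⟨g * t * g⁻¹,
        (Subgroup.commutator_normal (⊤ : Subgroup ↥(Cfsg.isometryGroup F₀ _)) ⊤).conj_mem _ t.2 g⟩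
      have himg : ψ t' = x * ψ t * x⁻¹ := by
        rw [← hs]
        show pi _ F a b (em t') = pi _ F a b s * pi _ F a b (em t) * (pi _ F a b s)⁻¹
        rw [← map_inv, ← map_mul, ← map_mul]
        refine congrArg _ (Subtype.ext ?_)
        show f (g * t.1 * g⁻¹) = s.1 * f t.1 * s.1⁻¹
        rw [map_mul, map_mul, map_inv, hg]
      have h3 : t' * t⁻¹ ∈ M.comap ψ := by
        show ψ (t' * t⁻¹) ∈ M
        rw [map_mul, map_inv, himg]
        have h0 := M.mul_mem hx (hnor _ (hψfix t) _ (M.inv_mem hx))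
        simpa [mul_assoc] using h0
      have h4 : pi _ F₀ _ _ (t' * t⁻¹) = 1 := by
        have := Subgroup.mem_map_of_mem (pi (kk + 2) F₀ ⟨a, hσm.1⟩ ⟨b, hσm.2⟩) h3
        rwa [hbot, Subgroup.mem_bot] at this
      have h5 := hker _ h4
      rw [map_mul, map_inv, himg, mul_inv_eq_one] at h5
      exact h5
    have h4 := hfix _ hfixed
    rw [← map_pow, ← map_one (MulAut.conj : PG (kk + 2) F a b →* _)] at h4
    have h5 := CG26.PSpLB.conj_injective (center_pg hk hab) h4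
    have h6 : orderOf x ∣ Nat.card M := by
      have h := orderOf_dvd_natCard (⟨x, hx⟩ : M)
      rwa [Subgroup.orderOf_mk] at h
    exact orderOf_eq_one_iff.1 (Nat.eq_one_of_dvd_coprimes hcop h6 (orderOf_dvd_of_pow_eq_one h5))
  · exfalso
    have hle : ∀ t, ψ t ∈ M := fun t => by
      obtain ⟨n, hn, he⟩ : pi (kk + 2) F₀ _ _ t ∈
          (M.comap ψ).map (pi (kk + 2) F₀ ⟨a, hσm.1⟩ ⟨b, hσm.2⟩) := htop ▸ Subgroup.mem_top _
      have h1 := hker (n⁻¹ * t) (by rw [map_mul, map_inv, he, inv_mul_cancel])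
      rw [map_mul, map_inv, inv_mul_eq_one] at h1
      exact h1 ▸ hn
    obtain ⟨⟨x, hx⟩, hxo⟩ := exists_prime_orderOf_dvd_card' p hdvd
    rw [Subgroup.orderOf_mk] at hxo
    obtain ⟨s, g, hs, hg⟩ := hrat x hx
    have hgg := sq_mem_omega (qf (kk + 2) F₀ (⟨a, hσm.1⟩ : F₀) ⟨b, hσm.2⟩) (nondeg hab₀)
      (by simp; omega) g
    have hx2 : x * x ∈ M := by
      have e : em ⟨g * g, hgg⟩ = s * s := Subtype.ext (by
        show f (g * g) = _
        rw [map_mul, hg]; rfl)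
      have := hle ⟨g * g, hgg⟩
      change pi _ F a b _ ∈ M at this
      rwa [e, map_mul, hs] at this
    have h7 : orderOf (x * x) ∣ Nat.card M := by
      have h := orderOf_dvd_natCard (⟨_, hx2⟩ : M)
      rwa [Subgroup.orderOf_mk] at h
    have h8 : orderOf (x * x) ∣ p := by rw [← hxo, ← pow_two]; exact orderOf_pow_dvd 2
    have h9 := orderOf_eq_one_iff.1 (Nat.eq_one_of_dvd_coprimes hcop h7 h8)
    have h10 : p ∣ 2 := hxo ▸ orderOf_dvd_of_pow_eq_one (by rw [pow_two]; exact h9)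
    have h11 := hσ ▸ odd_order hσm hab
    rw [(Nat.prime_dvd_prime_iff_eq hp Nat.prime_two).1 h10] at h11
    exact absurd h11 (by decide)

end Cfsg.Agent.LocalEven61.POMinusBalance
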