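import Cfsg.Agent.FieldAutGen.MinusClass
import Cfsg.Agent.Lib.GLSemisimple.OrthExist
import Cfsg.Agent.LocalEven61.POMinusBalanceField

/-!
Automorphisms of prime order of `PΩ⁻` outside the inner-diagonal group.
-/

set_option autoImplicit false
set_option maxHeartbeats 800000

namespace Cfsg.Agent.LocalEven61.POMinusBalance

open Matrix QuadraticMap
open Cfsg.Agent.AutPSL (fieldMap scalarGL Induced act normGL)
open Cfsg.Agent.FieldAutGen Cfsg.Agent.FieldAutGen.Orth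
open Cfsg.Agent.FieldAutGen.Minus (Idx qf qf_apply qf_map qf_sigma qf_e1 e1 frame nondeg fixer setting H mem_H
  aniso_fix odd_order exists_split chi preservesMinus_iff chi_refl r1 r1_mem r1_fixed IsPair exists_iso)
open Cfsg.Agent.CG26.PSpLB (Fix mem_fix)

universe u v

variable {k : ℕ} {F : Type u} [Field F] [Fintype F] {a b : F}

omit [Fintype F] in
/-- Powers of the automorphism induced by a semisimilarity. -/
theorem semi_pow {g : GL (Idx k) F} {σ : F ≃+* F}
    (hg : Cfsg.IsSemisimilarityPair (Cfsg.quadFormMinus k F a b) g σ) {β : MulAut (PG k F a b)}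
    (hβ : Induced (ro k F a b) g σ β) : ∀ j : ℕ,
    Cfsg.IsSemisimilarityPair (Cfsg.quadFormMinus k F a b) (normGL σ g j) (σ ^ j) ∧
      Induced (ro k F a b) (normGL σ g j) (σ ^ j) (β ^ j) := by
  intro j
  induction j with
  | zero =>
    refine ⟨⟨1, fun v => ?_⟩, ?_⟩
    · rw [pow_zero, Units.val_one, one_mul]
      show Cfsg.quadFormMinus k F a b ((1 : Matrix (Idx k) (Idx k) F) *ᵥ v) = _
      rw [one_mulVec]; rfl
    · rw [pow_zero, pow_zero]; exact AutPSL.induced_one' (rho_injective _)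
  | succ j ih =>
    rw [pow_succ', pow_succ']
    exact ⟨IsSemi_comp hg ih.1, Induced.comp (normalises ih.1) hβ ih.2⟩

section

variable (hk : 3 ≤ k) (hab : ∀ z₁ z₂ : F, z₁ ^ 2 + a * z₁ * z₂ + b * z₂ ^ 2 = 0 → z₁ = 0 ∧ z₂ = 0)

include hk hab

theorem norm_scalar {g : GL (Idx k) F} {σ : F ≃+* F}
    (hg : Cfsg.IsSemisimilarityPair (Cfsg.quadFormMinus k F a b) g σ) {β : MulAut (PG k F a b)}
    (hβ : Induced (ro k F a b) g σ β) {n : ℕ} (hn : orderOf β = n) :
    σ ^ n = 1 ∧ ∃ c : Fˣ, normGL σ g n = scalarGL (Idx k) c := by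
  obtain ⟨h1, h2⟩ := semi_pow hg hβ n
  rw [← hn, pow_orderOf_eq_one, hn] at h2
  exact eq_one_of_induced hk (frame k F a b) (Orth.hasSiegel _ (nondeg hab) (by simp; omega))
    (Q := qf k F a b) h1 h2

/-- A semisimilarity of odd order modulo scalars whose field automorphism fixes the coefficients
preserves the two classes. -/
theorem mem_H_of_odd {g : GL (Idx k) F} {σ : F ≃+* F} (hσ : σ ∈ fixer a b)
    (hg : Cfsg.IsSemisimilarityPair (Cfsg.quadFormMinus k F a b) g σ) {p : ℕ} (hp : Odd p)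
    {c : Fˣ} (hN : normGL σ g p = scalarGL (Idx k) c) : g ∈ H (show 2 ≤ k by omega) hab := by
  have hk2 : 2 ≤ k := by omega
  have hS := setting hk hab
  have hgs : g ∈ Minus.Sim k F a b := by
    have h1 := IsSemi_comp (Q := ⇑(qf k F a b)) hg
      (isSemi_std (qf_sigma (k := k) (inv_mem hσ).1 (inv_mem hσ).2))
    rw [map_one, mul_one, mul_inv_cancel] at h1
    exact isSemi_one_iff.1 h1
  obtain ⟨K, _, _, i, h, hc, hh⟩ := exists_split (k := k) hab
  let χ := chi hk2 hh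
  have hiff : ∀ x (hx : x ∈ Minus.Sim k F a b), x ∈ H hk2 hab ↔ χ ⟨x, hx⟩ = 1 := fun x hx =>
    ⟨fun h1 => (preservesMinus_iff hk2 hh hc ⟨x, hx⟩).1 (mem_H.1 h1).2,
      fun h1 => mem_H.2 ⟨hx, (preservesMinus_iff hk2 hh hc ⟨x, hx⟩).2 h1⟩⟩
  have hr : χ ⟨r1 k F a b, r1_mem⟩ = Multiplicative.ofAdd 1 :=
    chi_refl hk2 hh (v := e1 k F) (by rw [qf_e1]; exact one_ne_zero) rfl
  have hfm : ∀ x (hx : x ∈ Minus.Sim k F a b), ∃ hx' : fieldMap σ x ∈ Minus.Sim k F a b,
      χ ⟨_, hx'⟩ = χ ⟨x, hx⟩ := by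
    intro x hx
    by_cases h1 : χ ⟨x, hx⟩ = 1
    · have h2 := hS.fmap _ ((hiff x hx).2 h1) σ hσ
      exact ⟨(mem_H.1 h2).1, by rw [(hiff _ (mem_H.1 h2).1).1 h2, h1]⟩
    · have hm : x * r1 k F a b ∈ Minus.Sim k F a b := mul_mem hx r1_mem
      have h3 : χ ⟨_, hm⟩ = 1 := by
        rw [show (⟨_, hm⟩ : Minus.Sim k F a b) = ⟨x, hx⟩ * ⟨r1 k F a b, r1_mem⟩ from rfl, map_mul,
          Plus.eq_ofAdd_one h1, hr]
        decide
      have h2 := hS.fmap _ ((hiff _ hm).2 h3) σ hσ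
      rw [map_mul, r1_fixed hσ] at h2
      have hx' : fieldMap σ x ∈ Minus.Sim k F a b := by
        have := mul_mem (mem_H.1 h2).1 (inv_mem (r1_mem (k := k) (F := F) (a := a) (b := b)))
        rwa [mul_inv_cancel_right] at this
      refine ⟨hx', ?_⟩
      have h4 := (hiff _ (mem_H.1 h2).1).1 h2
      rw [show (⟨_, (mem_H.1 h2).1⟩ : Minus.Sim k F a b) = ⟨_, hx'⟩ * ⟨r1 k F a b, r1_mem⟩ from rfl,
        map_mul, hr] at h4
      rw [Plus.eq_ofAdd_one h1]
      exact (eq_inv_of_mul_eq_one_left h4).trans (by decide)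
  have key : ∀ j : ℕ, ∃ hj : normGL σ g j ∈ Minus.Sim k F a b, χ ⟨_, hj⟩ = χ ⟨g, hgs⟩ ^ j := by
    intro j
    induction j with
    | zero => exact ⟨one_mem _, by rw [pow_zero]; exact map_one χ⟩
    | succ j ih =>
      obtain ⟨hj, hje⟩ := ih
      obtain ⟨hj', hje'⟩ := hfm _ hj
      refine ⟨mul_mem hgs hj', ?_⟩
      show χ ⟨g * fieldMap σ (normGL σ g j), mul_mem hgs hj'⟩ = _
      rw [show (⟨_, mul_mem hgs hj'⟩ : Minus.Sim k F a b) = ⟨g, hgs⟩ * ⟨_, hj'⟩ from rfl, map_mul, hje',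
        hje, pow_succ']
  obtain ⟨hj, hje⟩ := key p
  rw [(hiff _ hj).1 (hN ▸ hS.scalar c)] at hje
  refine (hiff g hgs).2 ?_
  by_contra h1
  rw [Plus.eq_ofAdd_one h1] at hje
  obtain ⟨m, rfl⟩ := hp
  rw [pow_succ, pow_mul] at hje
  have h2 : (Multiplicative.ofAdd (1 : ZMod 2)) ^ 2 = 1 := by decide
  rw [h2, one_pow, one_mul] at hje
  exact absurd hje (by decide)

theorem mem_range_of_semi_one {g : GL (Idx k) F}
    (hg : Cfsg.IsSemisimilarityPair (Cfsg.quadFormMinus k F a b) g 1) {β : MulAut (PG k F a b)}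
    (hβ : Induced (ro k F a b) g 1 β) {p : ℕ} (hp : Odd p) (hpo : orderOf β = p) :
    β ∈ (conjH (setting hk hab)).range := by
  obtain ⟨-, c, hc⟩ := norm_scalar hk hab hg hβ hpo
  have hgH := mem_H_of_odd hk hab (one_mem (fixer a b)) hg hp hc
  exact ⟨⟨g, hgH⟩, (eq_conjH (setting hk hab) hgH hβ).symm⟩

theorem innerDiag_of_mem_range {β : MulAut (PG k F a b)} (h : β ∈ (conjH (setting hk hab)).range) :
    Cfsg.IsInnerDiagonalAutPOmegaMinus k a b β := by
  obtain ⟨⟨g, hgH⟩, rfl⟩ := h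
  exact ⟨g, (mem_H.1 hgH).1, (mem_H.1 hgH).2, induced_iff.2 (induced_conjH (setting hk hab) ⟨g, hgH⟩)⟩

omit hk hab in
theorem mem_zpowers_of_pow_eq_one {σ τ : F ≃+* F} {p : ℕ} (hσ : orderOf σ = p) (hτ : τ ^ p = 1) :
    τ ∈ Subgroup.zpowers σ := by
  classical
  haveI : Finite (F ≃+* F) := Finite.of_injective _ DFunLike.coe_injective
  letI : Fintype (F ≃+* F) := Fintype.ofFinite _
  obtain ⟨r, hr⟩ := CharP.exists F
  haveI : Fact r.Prime := ⟨CharP.char_is_prime F r⟩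
  haveI : IsCyclic (F ≃+* F) := ⟨frobeniusEquiv F r, fun ρ => by
    obtain ⟨j, hj⟩ := AutPSL.exists_frobenius_pow (p := r) ρ
    refine ⟨j, RingEquiv.ext fun x => ?_⟩
    rw [hj]
    have : ∀ (n : ℕ) (y : F), ((frobeniusEquiv F r : F ≃+* F) ^ n) y = y ^ r ^ n := by
      intro n
      induction n with
      | zero => intro y; simp
      | succ n ih =>
        intro y
        rw [pow_succ']
        show frobeniusEquiv F r (((frobeniusEquiv F r : F ≃+* F) ^ n) y) = _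
        rw [ih, frobeniusEquiv_def, ← pow_mul, ← pow_succ]
    show ((frobeniusEquiv F r : F ≃+* F) ^ (j : ℤ)) x = _
    rw [zpow_natCast, this]⟩
  have hp : 0 < p := hσ ▸ orderOf_pos σ
  have h1 := IsCyclic.card_pow_eq_one_le (α := F ≃+* F) hp
  have hsub : (Finset.range p).image (fun i => σ ^ i) ⊆ Finset.univ.filter (fun ρ => ρ ^ p = 1) := by
    intro ρ hρ
    obtain ⟨i, -, rfl⟩ := Finset.mem_image.1 hρ
    refine Finset.mem_filter.2 ⟨Finset.mem_univ _, ?_⟩
    rw [← hσ, ← pow_mul, mul_comm, pow_mul, pow_orderOf_eq_one, one_pow]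
  have hcard : ((Finset.range p).image (fun i => σ ^ i)).card = p := by
    rw [Finset.card_image_of_injOn, Finset.card_range]
    intro i hi j hj h
    exact pow_injOn_Iio_orderOf (by simpa [hσ] using hi) (by simpa [hσ] using hj) h
  have heq := Finset.eq_of_subset_of_card_le hsub (by rw [hcard]; exact h1)
  obtain ⟨i, -, hi⟩ := Finset.mem_image.1 (heq ▸ Finset.mem_filter.2 ⟨Finset.mem_univ τ, hτ⟩)
  exact hi ▸ pow_mem (Subgroup.mem_zpowers σ) i

omit hk hab [Fintype F] in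
theorem fixed_of_zpowers {σ τ : F ≃+* F} (hτ : τ ∈ Subgroup.zpowers σ) {x : F} (hx : σ x = x) :
    τ x = x := by
  let S : Subgroup (F ≃+* F) :=
    { carrier := {ρ | ρ x = x}
      one_mem' := rfl
      mul_mem' := fun {ρ ρ'} h h' => by
        show ρ (ρ' x) = x
        rw [show ρ' x = x from h', show ρ x = x from h]
      inv_mem' := fun {ρ} h => (ρ.symm_apply_eq).2 (Eq.symm h) }
  exact (Subgroup.zpowers_le.2 (show σ ∈ S from hx)) hτ

omit hk hab in
/-- Coefficients of an anisotropic form fixed by an automorphism of odd order. -/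
theorem exists_fixed_aniso {σ : F ≃+* F} (hodd : Odd (orderOf σ)) :
    ∃ ζ : F, σ ζ = ζ ∧ ∀ z₁ z₂ : F, z₁ ^ 2 + 1 * z₁ * z₂ + ζ * z₂ ^ 2 = 0 → z₁ = 0 ∧ z₂ = 0 := by
  obtain ⟨ζ, hζ⟩ := GLSemi.exists_no_root (F := fixField σ)
  refine ⟨ζ, fixField_fixed ζ, Forms59.anisotropic_of_no_root (ζ : F) fun t ht => ?_⟩
  have h1 : (σ t) ^ 2 + σ t + (ζ : F) = 0 := by
    have := congrArg σ ht
    rw [map_add, map_add, map_pow, map_zero, fixField_fixed] at this
    exact this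
  have h2 : ∀ s : F, s ^ 2 + s + (ζ : F) = 0 → s = t ∨ s = -1 - t := by
    intro s hs
    have : (s - t) * (s - (-1 - t)) = 0 := by linear_combination hs - ht
    rcases mul_eq_zero.1 this with h | h
    · exact Or.inl (sub_eq_zero.1 h)
    · exact Or.inr (sub_eq_zero.1 h)
  have hne : σ t ≠ t := fun e => hζ ⟨t, e⟩ (Subtype.ext (by push_cast; exact ht))
  have h3 : σ t = -1 - t := (h2 _ h1).resolve_left hne
  have h4 : ∀ j : ℕ, (σ ^ (2 * j)) t = t := by
    intro j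
    induction j with
    | zero => rfl
    | succ j ih =>
      rw [show 2 * (j + 1) = 2 * j + 2 by ring, pow_add]
      show (σ ^ (2 * j)) (σ (σ t)) = t
      rw [h3, map_sub, map_neg, map_one, h3, show -1 - (-1 - t) = t by ring, ih]
  obtain ⟨m, hm⟩ := hodd
  have h5 : (σ ^ orderOf σ) t = t := by rw [pow_orderOf_eq_one]; rfl
  rw [hm, pow_succ'] at h5
  exact hne ((congrArg σ (h4 m)).symm.trans h5)

/-- An automorphism of odd prime order outside the inner-diagonal group is a field automorphism. -/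
theorem isFieldClass {p : ℕ} [Fact p.Prime] (hp2 : p ≠ 2) (x : MulAut (PG k F a b))
    (hord : orderOf x = p) (hnot : ¬ Cfsg.IsInnerDiagonalAutPOmegaMinus k a b x) :
    Cfsg.IsFieldAutClassPOmegaMinus k x := by
  have hp : p.Prime := Fact.out
  have hodd : Odd p := hp.odd_of_ne_two hp2
  have hne : x ∉ (conjH (setting hk hab)).range := fun h => hnot (innerDiag_of_mem_range hk hab h)
  obtain ⟨g, σ, hg, hx⟩ := exists_semi (fun v => UnitaryOrthogonal.qMinus_apply k a b v)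
    (CG26.AutPO.setup_minus hab hk) (CG26.AutPO.big_minus hab hk) x
  obtain ⟨hσp, -⟩ := norm_scalar hk hab hg hx hord
  have hσ1 : σ ≠ 1 := fun e => hne (by subst e; exact mem_range_of_semi_one hk hab hg hx hodd hord)
  have hσ : orderOf σ = p := orderOf_eq_prime hσp hσ1
  obtain ⟨ζ, hζσ, hab'⟩ := exists_fixed_aniso (σ := σ) (hσ ▸ hodd)
  obtain ⟨T, hT⟩ := CG26.AutPO.exists_minus_isometry (m := k) hab hab'
  have hu : IsUnit (LinearMap.toMatrix' T.toLinearMap).det := by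
    rw [LinearMap.det_toMatrix']; exact LinearEquiv.isUnit_det' T
  obtain ⟨θ, hθ⟩ := exists_iso hk hab hab' (g := Matrix.GeneralLinearGroup.mk'' _ hu) ⟨1, fun v => by
    rw [Units.val_one, one_mul]
    show qf k F 1 ζ (LinearMap.toMatrix' T.toLinearMap *ᵥ v) = qf k F a b v
    rw [LinearMap.toMatrix'_mulVec]
    refine (UnitaryOrthogonal.qMinus_apply k 1 ζ (T v)).symm.trans ?_
    rw [hT]
    exact UnitaryOrthogonal.qMinus_apply k a b v⟩
  set x' := MulAut.congr θ x with hx'def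
  have hord' : orderOf x' = p := by rw [hx'def, MulEquiv.orderOf_eq, hord]
  have hne' : x' ∉ (conjH (setting hk hab')).range := fun h => hne (by
    rw [← hθ] at h
    obtain ⟨y, hy, hye⟩ := h
    exact (MulAut.congr θ).injective hye ▸ hy)
  obtain ⟨g', σ', hg', hx''⟩ := exists_semi (fun v => UnitaryOrthogonal.qMinus_apply k 1 ζ v)
    (CG26.AutPO.setup_minus hab' hk) (CG26.AutPO.big_minus hab' hk) x'
  obtain ⟨hσp', c, hc⟩ := norm_scalar hk hab' hg' hx'' hord'
  have hσ1' : σ' ≠ 1 := fun e => hne' (by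
    subst e; exact mem_range_of_semi_one hk hab' hg' hx'' hodd hord')
  have hσm : σ' ∈ fixer (1 : F) ζ :=
    ⟨map_one σ', fixed_of_zpowers (mem_zpowers_of_pow_eq_one hσ hσp') hζσ⟩
  have hS' := setting hk hab'
  haveI := hS'.fin
  have hgH := mem_H_of_odd hk hab' hσm hg' hodd hc
  obtain ⟨φ, hφ⟩ := AutPSL.exists_induced hS'.inj (hS'.norm 1 (one_mem _) σ' hσm)
  have hxe : x' = conjH hS' ⟨g', hgH⟩ * φ := by
    have h1 := Induced.comp (hS'.norm 1 (one_mem _) σ' hσm) (induced_conjH hS' ⟨g', hgH⟩) hφ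
    rw [map_one, mul_one, one_mul] at h1
    exact Induced.ext (hS'.norm g' hgH σ' hσm) hx'' h1
  have hφo : orderOf φ = p := by
    rw [FieldAutGen.orderOf_std hS' hσm hφ, orderOf_eq_prime hσp' hσ1']
  have hcls : Cfsg.IsFieldAutClassPOmegaMinus k φ :=
    ⟨1, ζ, MulEquiv.refl _, σ', hab', hσ1', map_one σ', hσm.2, isFieldAut_iff.2 hφ⟩
  obtain ⟨h, -, he⟩ := (Minus.coset_order_iff hk hab' φ (conjH hS' ⟨g', hgH⟩) hcls hφo
    (Minus.range_eq hS' ▸ ⟨_, rfl⟩)).1 (by rw [← hxe, hord'])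
  rw [← hxe] at he
  refine ⟨1, ζ, θ.trans h⁻¹, σ', hab', hσ1', map_one σ', hσm.2, isFieldAut_iff.2 ?_⟩
  have e : ((θ.trans (h⁻¹ : MulAut _)).symm.trans x).trans (θ.trans (h⁻¹ : MulAut _)) = φ := by
    have h2 : h⁻¹ * x' * h = φ := by rw [he]; group
    exact MulEquiv.ext fun z => DFunLike.congr_fun h2 z
  rw [e]
  exact hφ

theorem odd_of_fieldClass {p : ℕ} (x : MulAut (PG k F a b)) (hord : orderOf x = p)
    (hF : Cfsg.IsFieldAutClassPOmegaMinus k x) : Odd p := by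
  obtain ⟨a', b', ψ, σ, hab', -, ha, hb, hφ⟩ := hF
  have hφ' : Induced (ro k F a' b') 1 σ (MulAut.congr ψ x) := isFieldAut_iff.1 hφ
  rw [← hord, ← MulEquiv.orderOf_eq (MulAut.congr ψ) x,
    FieldAutGen.orderOf_std (setting hk hab') (show σ ∈ fixer a' b' from ⟨ha, hb⟩) hφ']
  exact odd_order ⟨ha, hb⟩ hab'

/-- The criterion for field automorphisms. -/
theorem core_field {p : ℕ} [Fact p.Prime] (x : MulAut (PG k F a b)) (hord : orderOf x = p)
    (hF : Cfsg.IsFieldAutClassPOmegaMinus k x) (A : Subgroup (MulAut (PG k F a b)))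
    (hinn : ∀ z : PG k F a b, MulAut.conj z ∈ A) :
    Cfsg.pPrimeCore p ↥(A ⊓ Subgroup.centralizer {x}) ≠ ⊥ ↔ Nat.Coprime p (Nat.card (Fix x)) := by
  obtain ⟨a', b', ψ, σ, hab', -, ha, hb, hφ⟩ := hF
  have hφ' : Induced (ro k F a' b') 1 σ (MulAut.congr ψ x) := isFieldAut_iff.1 hφ
  have hσ : orderOf σ = p := by
    rw [← FieldAutGen.orderOf_std (setting hk hab') (show σ ∈ fixer a' b' from ⟨ha, hb⟩) hφ',
      MulEquiv.orderOf_eq, hord]
  obtain ⟨h1, h2, h3⟩ := fix_hyps hk hab' (show σ ∈ fixer a' b' from ⟨ha, hb⟩) hσ hφ'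
  have hcard : (Fix x).map ψ.toMonoidHom = Fix (MulAut.congr ψ x) := by
    ext z
    constructor
    · rintro ⟨y, hy, rfl⟩
      show ψ (x (ψ.symm (ψ y))) = ψ y
      rw [ψ.symm_apply_apply]
      exact congrArg ψ hy
    · intro hz
      refine ⟨ψ.symm z, ?_, ψ.apply_symm_apply z⟩
      exact ψ.injective ((show ψ (x (ψ.symm z)) = z from hz).trans (ψ.apply_symm_apply z).symm)
  have hmem : ∀ z, z ∈ Fix x → ψ z ∈ Fix (MulAut.congr ψ x) := fun z hz => hcard ▸ ⟨z, hz, rfl⟩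
  refine CG26.PSpLB.core_iff (center_pg hk hab) (x := x) ?_ ?_ ?_ A hinn
  · intro e
    refine h1 ?_
    rw [← hcard, e, Subgroup.map_bot]
  · intro β hβ
    have h4 : (MulAut.congr ψ β) ^ p = 1 := h2 _ fun z hz => by
      rw [← hcard] at hz
      obtain ⟨y, hy, rfl⟩ := hz
      show ψ (β (ψ.symm (ψ y))) = ψ y
      rw [ψ.symm_apply_apply, hβ y hy]
    rw [← map_pow, ← map_one (MulAut.congr ψ)] at h4
    exact (MulAut.congr ψ).injective h4
  · intro hdvd M hM hnor hcop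
    have hinj : Function.Injective ψ.toMonoidHom := ψ.injective
    have h4 : M.map ψ.toMonoidHom = ⊥ := by
      refine h3 (by rw [← hcard, Subgroup.card_map_of_injective hinj]; exact hdvd) _
        (hcard ▸ Subgroup.map_mono hM) ?_ (by rwa [Subgroup.card_map_of_injective hinj])
      rintro l hl _ ⟨z, hz, rfl⟩
      rw [← hcard] at hl
      obtain ⟨y, hy, rfl⟩ := hl
      exact ⟨y * z * y⁻¹, hnor _ hy _ hz, by rw [map_mul, map_mul, map_inv]⟩
    exact (Subgroup.map_eq_bot_iff_of_injective _ hinj).1 h4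

end

end Cfsg.Agent.LocalEven61.POMinusBalance
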