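import Cfsg.Agent.FieldAutGen.PlusChi
import Cfsg.Agent.LocalEven61.POMinusBalanceClass

/-!
The Gram matrix of the minus-type form in odd characteristic: semisimilarities, the class character,
and the absence of semilinear involutions with nontrivial field automorphism.
-/

set_option autoImplicit false
set_option maxHeartbeats 800000

namespace Cfsg.Agent.LocalEven61.POMinusBalance

open Matrix QuadraticMap
open Cfsg.Agent.AutPSL (fieldMap scalarGL Induced act normGL normU)
open Cfsg.Agent.FieldAutGen Cfsg.Agent.FieldAutGen.Orth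
open Cfsg.Agent.FieldAutGen.Minus (Idx qf qf_apply qf_map qf_e1 e1 frame nondeg H mem_H pIdx
  IsSplit exists_split chi preservesMinus_iff toPlus toPlus_apply toPlus_mem_iff simHom re re_coe)
open Cfsg.Agent.Reflections (mat refl)

universe u v

variable {k : ℕ} {F : Type u} [Field F] {a b : F}

/-- The Gram matrix. -/
def gram (k : ℕ) (F : Type u) [Field F] (a b : F) : Matrix (Idx k) (Idx k) F :=
  Matrix.fromBlocks (Matrix.fromBlocks 0 1 1 0) 0 0 !![2, a; a, 2 * b]

theorem gram_apply (p q : Idx k) :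
    gram k F a b p q = polar ⇑(qf k F a b) (Pi.single p 1) (Pi.single q 1) := by
  rcases p with (p | p) | p <;> rcases q with (q | q) | q <;>
    simp [gram, polar, qf_apply, Cfsg.quadFormMinus, Matrix.one_apply, Pi.single_apply,
      Finset.sum_add_distrib] <;>
    (try (fin_cases p <;> fin_cases q <;> simp <;> ring)) <;>
    simp [eq_comm]

theorem polar_eq (x y : Idx k → F) : polar ⇑(qf k F a b) x y = x ⬝ᵥ (gram k F a b *ᵥ y) := by
  have h : (qf k F a b).polarBilin = Matrix.toLinearMap₂' F (gram k F a b) :=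
    LinearMap.ext_basis (Pi.basisFun F _) (Pi.basisFun F _) fun p q => by
      simp [gram_apply, Matrix.toLinearMap₂'_apply']
  have := congrArg (fun B => B x y) h
  simpa [Matrix.toLinearMap₂'_apply'] using this

theorem gram_transpose : (gram k F a b)ᵀ = gram k F a b := by
  ext p q
  rw [Matrix.transpose_apply, gram_apply, gram_apply, polar_comm]

theorem gram_map {L : Type v} [Field L] (i : F →+* L) : (gram k F a b).map i = gram k L (i a) (i b) := by
  ext p q
  rcases p with (p | p) | p <;> rcases q with (q | q) | q <;>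
    simp [gram, Matrix.one_apply, apply_ite i] <;> fin_cases p <;> fin_cases q <;> simp [map_ofNat]

theorem gram_det : ∃ e : F, e * e = 1 ∧ (gram k F a b).det = e * (4 * b - a * a) := by
  refine ⟨(Matrix.fromBlocks 0 1 1 0 : Matrix (Fin k ⊕ Fin k) (Fin k ⊕ Fin k) F).det, ?_, ?_⟩
  · rw [← Matrix.det_mul, Matrix.fromBlocks_multiply]
    simp
  · rw [gram, Matrix.det_fromBlocks_zero₂₁, Matrix.det_fin_two_of]
    ring

theorem disc_nonsquare (h2 : (2 : F) ≠ 0)
    (hab : ∀ z₁ z₂ : F, z₁ ^ 2 + a * z₁ * z₂ + b * z₂ ^ 2 = 0 → z₁ = 0 ∧ z₂ = 0) :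
    ¬ IsSquare (a * a - 4 * b) := by
  rintro ⟨t, ht⟩
  refine one_ne_zero (hab ((-a + t) / 2) 1 ?_).2
  field_simp
  linear_combination -ht

theorem gram_det_ne_zero (h2 : (2 : F) ≠ 0)
    (hab : ∀ z₁ z₂ : F, z₁ ^ 2 + a * z₁ * z₂ + b * z₂ ^ 2 = 0 → z₁ = 0 ∧ z₂ = 0) :
    (gram k F a b).det ≠ 0 := by
  obtain ⟨e, he, hd⟩ := gram_det (k := k) (F := F) (a := a) (b := b)
  rw [hd]
  refine mul_ne_zero (left_ne_zero_of_mul_eq_one he) fun h => disc_nonsquare h2 hab ⟨0, ?_⟩
  linear_combination -h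

/-- The Gram equation of a semisimilarity. -/
theorem semi_gram {g : GL (Idx k) F} {σ : F ≃+* F} {μ : F}
    (hg : ∀ v : Idx k → F, qf k F a b ((g : Matrix (Idx k) (Idx k) F) *ᵥ (σ ∘ v)) = μ * σ (qf k F a b v)) :
    (g : Matrix (Idx k) (Idx k) F)ᵀ * gram k F a b * (g : Matrix (Idx k) (Idx k) F) =
      μ • (gram k F a b).map σ := by
  ext p q
  have hs : ∀ j : Idx k, σ ∘ (Pi.single j 1 : Idx k → F) = Pi.single j 1 := fun j => by
    funext l; by_cases hl : l = j <;> simp [hl]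
  have hp : polar ⇑(qf k F a b) ((g : Matrix (Idx k) (Idx k) F) *ᵥ (σ ∘ (Pi.single p 1 : Idx k → F)))
      ((g : Matrix (Idx k) (Idx k) F) *ᵥ (σ ∘ (Pi.single q 1 : Idx k → F))) =
      μ * σ (polar ⇑(qf k F a b) (Pi.single p 1) (Pi.single q 1)) := by
    simp only [polar]
    rw [← mulVec_add, show σ ∘ (Pi.single p 1 : Idx k → F) + σ ∘ (Pi.single q 1 : Idx k → F) =
      σ ∘ (Pi.single p 1 + Pi.single q 1 : Idx k → F) from funext fun l => (map_add σ _ _).symm,
      hg, hg, hg, map_sub, map_sub]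
    ring
  rw [hs, hs, polar_eq, ← vecMul_transpose, ← dotProduct_mulVec, mulVec_mulVec, mulVec_mulVec,
    mulVec_single_one, single_dotProduct, one_mul, Matrix.col_apply] at hp
  rw [Matrix.smul_apply, Matrix.map_apply, gram_apply, smul_eq_mul, ← hp]

theorem sim_gram {g : GL (Idx k) F} {μ : F}
    (hg : ∀ v : Idx k → F, qf k F a b ((g : Matrix (Idx k) (Idx k) F) *ᵥ v) = μ * qf k F a b v) :
    (g : Matrix (Idx k) (Idx k) F)ᵀ * gram k F a b * (g : Matrix (Idx k) (Idx k) F) =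
      μ • gram k F a b := by
  have := semi_gram (σ := (1 : F ≃+* F)) (g := g) (μ := μ) fun v => hg v
  rwa [show (gram k F a b).map ((1 : F ≃+* F) : F → F) = gram k F a b from Matrix.map_id _] at this

theorem iso_of_gram (h2 : (2 : F) ≠ 0) {M : Matrix (Idx k) (Idx k) F}
    (hM : Mᵀ * gram k F a b * M = gram k F a b) (v : Idx k → F) :
    qf k F a b (M *ᵥ v) = qf k F a b v := by
  refine mul_left_cancel₀ h2 ?_
  rw [← Reflections.polar_self', ← Reflections.polar_self', polar_eq, polar_eq]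
  conv_rhs => rw [← hM]
  rw [← mulVec_mulVec, ← mulVec_mulVec, dotProduct_mulVec v Mᵀ, vecMul_transpose]

theorem unique_inducer [Fintype F] (hk : 3 ≤ k)
    (hab : ∀ z₁ z₂ : F, z₁ ^ 2 + a * z₁ * z₂ + b * z₂ ^ 2 = 0 → z₁ = 0 ∧ z₂ = 0)
    {g g' : GL (Idx k) F} {σ σ' : F ≃+* F} {β : MulAut (PG k F a b)}
    (hg : Cfsg.IsSemisimilarityPair (Cfsg.quadFormMinus k F a b) g σ)
    (hg' : Cfsg.IsSemisimilarityPair (Cfsg.quadFormMinus k F a b) g' σ')
    (h : Induced (ro k F a b) g σ β) (h' : Induced (ro k F a b) g' σ' β) :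
    σ = σ' ∧ ∃ c : Fˣ, g = g' * scalarGL (Idx k) c := by
  haveI := (Minus.setting hk hab).fin
  have hN := normalises hg'
  have h1 := Induced.comp (normalises hg) (Induced.inverse (rho_injective _) hN h') h
  rw [inv_mul_cancel] at h1
  obtain ⟨e1, c, hc⟩ := eq_one_of_induced hk (frame k F a b) (Orth.hasSiegel _ (nondeg hab) (by simp; omega))
    (Q := qf k F a b) (IsSemi_comp (isSemi_inverse hg') hg) h1
  rw [inv_mul_eq_one] at e1
  subst e1
  refine ⟨rfl, Units.map (σ'.toRingHom : F →* F) c, ?_⟩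
  have h2 := congrArg (fieldMap σ') hc
  rw [map_mul, AutPSL.fieldMap_apply_inv, AutPSL.fieldMap_apply_inv, AutPSL.fieldMap_scalarGL] at h2
  rw [← h2, mul_inv_cancel_left]

variable [Fintype F]

/-- The class character through the determinant. -/
theorem mem_H_iff_det (hk : 3 ≤ k) (h2 : (2 : F) ≠ 0)
    (hab : ∀ z₁ z₂ : F, z₁ ^ 2 + a * z₁ * z₂ + b * z₂ ^ 2 = 0 → z₁ = 0 ∧ z₂ = 0)
    {g : GL (Idx k) F} {μ : Fˣ}
    (hg : ∀ v : Idx k → F, qf k F a b ((g : Matrix (Idx k) (Idx k) F) *ᵥ v) = (μ : F) * qf k F a b v) :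
    g ∈ H (show 2 ≤ k by omega) hab ↔ (g : Matrix (Idx k) (Idx k) F).det = (μ : F) ^ (k + 1) := by
  classical
  have hk2 : 2 ≤ k := by omega
  have hm : 3 ≤ k + 1 := by omega
  have hgs : g ∈ Minus.Sim k F a b := ⟨μ, hg⟩
  obtain ⟨K, _, _, i, h, hc, hh⟩ := exists_split (k := k) hab
  have h2K : (2 : K) ≠ 0 := by rw [← map_ofNat i 2, map_ne_zero]; exact h2
  rw [mem_H, preservesMinus_iff hk2 hh hc ⟨g, hgs⟩]
  simp only [hgs, true_and]
  set G : Plus.Sim (k + 1) K := simHom hh ⟨g, hgs⟩ with hG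
  have hm0 : 0 < k + 1 := Nat.succ_pos k
  have hμ : mult (Plus.qf (k + 1) K) (Plus.qf_e1 hm0) G = Units.map (i : F →* K) μ := by
    obtain ⟨ν, hν⟩ := id hh
    refine Units.ext (mult_eq _ _ _ fun w => ?_)
    obtain ⟨v, rfl⟩ := (Minus.splitEquiv h).surjective w
    show Plus.qf (k + 1) K ((toPlus i h g : Matrix _ _ K) *ᵥ Minus.splitEquiv h v) = i (μ : F) * _
    rw [Minus.toPlus_mulVec, Minus.splitEquiv_value hν, Minus.splitEquiv_value hν, ← mul_left_comm]
    refine congrArg _ ?_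
    have e : (qf k K (i a) (i b)).comp
        (Matrix.GeneralLinearGroup.map i g : Matrix (Idx k) (Idx k) K).mulVecLin =
        i (μ : F) • qf k K (i a) (i b) :=
      Minus.forms_eq i fun x => by
        show qf k K (i a) (i b) (_ *ᵥ (i ∘ x)) = i (μ : F) * qf k K (i a) (i b) (i ∘ x)
        rw [show (Matrix.GeneralLinearGroup.map i g : Matrix (Idx k) (Idx k) K) *ᵥ (i ∘ x) =
          i ∘ ((g : Matrix (Idx k) (Idx k) F) *ᵥ x) from funext fun l => (RingHom.map_mulVec i _ x l).symm]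
        rw [qf_map, qf_map, hg, map_mul]
    exact QuadraticMap.congr_fun e v
  have hdetG : ((G : GL (Fin (k + 1) ⊕ Fin (k + 1)) K) : Matrix (Fin (k + 1) ⊕ Fin (k + 1)) (Fin (k + 1) ⊕ Fin (k + 1)) K).det = i (g : Matrix (Idx k) (Idx k) F).det := by
    show ((toPlus i h g : GL (Fin (k + 1) ⊕ Fin (k + 1)) K) : Matrix (Fin (k + 1) ⊕ Fin (k + 1)) (Fin (k + 1) ⊕ Fin (k + 1)) K).det = _
    rw [toPlus_apply, Units.val_mul, Units.val_mul, Matrix.det_units_conj, re_coe,
      Matrix.det_submatrix_equiv_self]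
    exact (RingHom.map_det i _).symm
  have hδ : ((Plus.delta (k + 1) K (Units.map (i : F →* K) μ) : GL (Fin (k + 1) ⊕ Fin (k + 1)) K) : Matrix (Fin (k + 1) ⊕ Fin (k + 1)) (Fin (k + 1) ⊕ Fin (k + 1)) K).det = i (μ : F) ^ (k + 1) := by
    rw [show ((Plus.delta (k + 1) K (Units.map (i : F →* K) μ) : GL (Fin (k + 1) ⊕ Fin (k + 1)) K) : Matrix (Fin (k + 1) ⊕ Fin (k + 1)) (Fin (k + 1) ⊕ Fin (k + 1)) K) = Matrix.diagonal fun j =>
      (((Sum.elim (fun _ => Units.map (i : F →* K) μ) fun _ => 1) j : Kˣ) : K) from rfl, Matrix.det_diagonal,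
      Fintype.prod_sum_type]
    simp
  set U := Plus.isoPart hm0 G with hU
  have hUd : (mat U).det * i (μ : F) ^ (k + 1) = i (g : Matrix (Idx k) (Idx k) F).det := by
    rw [← hdetG, ← hδ, ← Matrix.det_mul, ← Units.val_mul, Plus.isoPart_coe, hμ, inv_mul_cancel_right]
  show Plus.cls hm G = 1 ↔ _
  rw [Plus.cls_def, Plus.cls0, MonoidHom.comp_apply, Forms59.classHom_eq_one_iff_det h2K, Plus.mat_toP]
  constructor
  · intro h1
    rw [h1, one_mul, ← map_pow] at hUd
    exact i.injective hUd.symm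
  · intro h1
    rw [h1, map_pow] at hUd
    exact mul_right_cancel₀ (pow_ne_zero _ ((map_ne_zero i).2 μ.ne_zero)) (hUd.trans (one_mul _).symm)

/-- There is no semilinear involution with a field automorphism of order two. -/
theorem sigma_eq_one (hk : 3 ≤ k) (h2 : (2 : F) ≠ 0)
    (hab : ∀ z₁ z₂ : F, z₁ ^ 2 + a * z₁ * z₂ + b * z₂ ^ 2 = 0 → z₁ = 0 ∧ z₂ = 0)
    {g : GL (Idx k) F} {σ : F ≃+* F}
    (hg : Cfsg.IsSemisimilarityPair (Cfsg.quadFormMinus k F a b) g σ) {β : MulAut (PG k F a b)}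
    (hβ : Induced (ro k F a b) g σ β) (ho : orderOf β = 2) : σ = 1 := by
  classical
  obtain ⟨hσ2, l, hl⟩ := norm_scalar hk hab hg hβ ho
  by_contra hne
  have hσ : orderOf σ = 2 := orderOf_eq_prime hσ2 hne
  have hσσ : ∀ x, σ (σ x) = x := fun x => DFunLike.congr_fun ((pow_two σ).symm.trans hσ2) x
  obtain ⟨μ, hμ⟩ := hg
  have hN : (g : Matrix (Idx k) (Idx k) F) * (g : Matrix (Idx k) (Idx k) F).map σ = (l : F) • 1 := by
    have := congrArg (fun x : GL (Idx k) F => (x : Matrix (Idx k) (Idx k) F)) hl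
    simp only [normGL, map_one, mul_one, Units.val_mul, AutPSL.scalarGL_coe] at this
    exact this
  set G := (g : Matrix (Idx k) (Idx k) F) with hGdef
  set Hm := gram k F a b with hHdef
  have hgram : Gᵀ * Hm * G = (μ : F) • Hm.map σ := semi_gram hμ
  have hmm : ((μ : F) * σ μ) • Hm = ((l : F) * l) • Hm := by
    have h1 : (G * G.map σ)ᵀ * Hm * (G * G.map σ) = ((μ : F) * σ μ) • Hm := by
      calc (G * G.map σ)ᵀ * Hm * (G * G.map σ) = (G.map σ)ᵀ * (Gᵀ * Hm * G) * G.map σ := by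
            rw [Matrix.transpose_mul]; simp only [Matrix.mul_assoc]
        _ = (μ : F) • (Gᵀ * Hm * G).map σ := by
            conv_lhs => rw [hgram, Matrix.mul_smul, Matrix.smul_mul]
            rw [Matrix.map_mul, Matrix.map_mul, Matrix.transpose_map]
        _ = _ := by
            rw [hgram, Matrix.map_smul' σ _ _ (map_mul σ), smul_smul, Matrix.map_map]
            congr 1
            exact Matrix.ext fun p q => hσσ _
    rw [hN, Matrix.transpose_smul, Matrix.transpose_one, Matrix.smul_mul, Matrix.one_mul,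
      Matrix.mul_smul, Matrix.mul_one, smul_smul] at h1
    exact h1.symm
  have hdet0 := gram_det_ne_zero (k := k) h2 hab
  have hμl : (μ : F) * σ μ = (l : F) * l := by
    refine smul_left_injective F (show Hm ≠ 0 from fun e => hdet0 ?_) hmm
    rw [← hHdef, e, Matrix.det_zero]
  have hd1 := congrArg Matrix.det hgram
  rw [Matrix.det_mul, Matrix.det_mul, Matrix.det_transpose, Matrix.det_smul,
    show Hm.map σ = σ.toRingHom.mapMatrix Hm from rfl, ← RingHom.map_det] at hd1
  have hd2 := congrArg Matrix.det hN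
  rw [Matrix.det_mul, Matrix.det_smul, Matrix.det_one, mul_one,
    show G.map σ = σ.toRingHom.mapMatrix G from rfl, ← RingHom.map_det] at hd2
  obtain ⟨e₀, he₀, hD⟩ := gram_det (k := k) (F := F) (a := a) (b := b)
  have he₀σ : σ e₀ = e₀ := by rcases mul_self_eq_one_iff.1 he₀ with h | h <;> simp [h]
  have hcardι : Fintype.card (Idx k) = 2 * (k + 1) := by simp; omega
  rw [hcardι] at hd1 hd2
  set D : F := 4 * b - a * a with hDdef
  have hσD : σ Hm.det = e₀ * σ D := by rw [hHdef, hD, map_mul, he₀σ]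
  change G.det * Hm.det * G.det = (μ : F) ^ (2 * (k + 1)) * σ Hm.det at hd1
  change G.det * σ G.det = (l : F) ^ (2 * (k + 1)) at hd2
  rw [hσD, show Hm.det = e₀ * D from hD] at hd1
  have hμ0 : (μ : F) ^ (k + 1) ≠ 0 := pow_ne_zero _ μ.ne_zero
  set e : F := G.det / (μ : F) ^ (k + 1) with he
  have hG : G.det = e * (μ : F) ^ (k + 1) := by rw [he, div_mul_cancel₀ _ hμ0]
  have he2 : e * e * D = σ D := by
    refine mul_left_cancel₀ (left_ne_zero_of_mul_eq_one he₀) (mul_left_cancel₀ (mul_ne_zero hμ0 hμ0) ?_)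
    rw [hG, show 2 * (k + 1) = (k + 1) + (k + 1) by ring, pow_add] at hd1
    linear_combination hd1
  have hee : e * σ e = 1 := by
    refine mul_right_cancel₀ (pow_ne_zero (k + 1) (mul_ne_zero μ.ne_zero ((map_ne_zero σ).2 μ.ne_zero))) ?_
    rw [one_mul]
    nth_rw 2 [hμl]
    rw [hG, map_mul, map_pow, show 2 * (k + 1) = (k + 1) + (k + 1) by ring, pow_add] at hd2
    rw [mul_pow, mul_pow]
    linear_combination hd2
  have he0 : e ≠ 0 := left_ne_zero_of_mul_eq_one hee
  obtain ⟨ν, hν⟩ := AutPSL.exists_twist σ (Units.mk0 e he0) (by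
    apply Units.ext; rw [hσ, AutPSL.normU_two]; exact hee)
  have heν : e * σ (ν : F) = ν := by
    have := congrArg Units.val hν
    simp [AutPSL.twistU, Units.val_div_eq_div_val] at this
    rw [this, div_mul_cancel₀ _ ((map_ne_zero σ).2 ν.ne_zero)]
  letI : Fintype (fixField σ) := Fintype.ofFinite _
  have hfix : σ (D * ((ν : F) * ν)) = D * ((ν : F) * ν) := by
    rw [map_mul, map_mul, ← he2]
    linear_combination D * (e * σ (ν : F) + (ν : F)) * heν
  have hcard : Fintype.card F = Fintype.card (fixField σ) ^ 2 := by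
    have h1 := AutPSL.card_fixed_pow σ
    rw [hσ] at h1
    rw [← Nat.card_eq_fintype_card, ← Nat.card_eq_fintype_card, ← h1]
    exact congrArg (· ^ 2) (Nat.card_congr (Equiv.subtypeEquivRight fun _ => Iff.rfl))
  obtain ⟨t, ht⟩ := isSquare_of_quadratic h2 (fixField σ).subtype hcard (⟨_, hfix⟩ : fixField σ)
  change D * ((ν : F) * ν) = t * t at ht
  obtain ⟨w, hw⟩ := isSquare_of_quadratic h2 (fixField σ).subtype hcard (-1 : fixField σ)
  rw [map_neg, map_one] at hw
  refine disc_nonsquare h2 hab ⟨w * t / ν, ?_⟩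
  have hν0 := ν.ne_zero
  field_simp
  linear_combination -ht + (t * t) * hw + 0 * hDdef.symm

end Cfsg.Agent.LocalEven61.POMinusBalance
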