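import Cfsg.Agent.LocalEven61.POMinusBalanceGram

/-!
The eigenspace decomposition of an involutory similarity of the minus-type form outside the
class-preserving group, over the field itself or its quadratic extension.
-/

set_option autoImplicit false
set_option maxHeartbeats 800000

namespace Cfsg.Agent.LocalEven61.POMinusBalance

open Matrix
open Cfsg.Agent.FieldAutGen Cfsg.Agent.FieldAutGen.Orth
open Cfsg.Agent.FieldAutGen.Minus (Idx qf H exists_split)

universe u v

section general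

variable {ι : Type} [Fintype ι] [DecidableEq ι] {L : Type v} [Field L]

theorem card_eq_of_inv {m n : Type} [Fintype m] [DecidableEq m] [Fintype n] [DecidableEq n]
    (A : Matrix m n L) (B : Matrix n m L) (hAB : A * B = 1) (hBA : B * A = 1) :
    Fintype.card m = Fintype.card n := by
  have := (Matrix.toLin'OfInv hBA hAB).finrank_eq
  simp only [Module.finrank_fintype_fun_eq_card] at this
  first | exact this | exact this.symm

theorem exists_rank_factor (E : Matrix ι ι L) (hE : E * E = E) :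
    ∃ (d : ℕ) (P : Matrix ι (Fin d) L) (P' : Matrix (Fin d) ι L), P' * P = 1 ∧ P * P' = E := by
  classical
  set f := Matrix.toLin' E with hf
  let bs := Module.finBasis L (LinearMap.range f)
  refine ⟨Module.finrank L (LinearMap.range f),
    LinearMap.toMatrix' ((LinearMap.range f).subtype ∘ₗ bs.equivFun.symm.toLinearMap),
    LinearMap.toMatrix' (bs.equivFun.toLinearMap ∘ₗ f.rangeRestrict), ?_, ?_⟩
  · rw [← LinearMap.toMatrix'_comp, ← LinearMap.toMatrix'_id]
    congr 1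
    apply LinearMap.ext; intro x
    show bs.equivFun (f.rangeRestrict (bs.equivFun.symm x : ι → L)) = x
    rw [← bs.equivFun.eq_symm_apply]
    apply Subtype.ext
    show f (bs.equivFun.symm x : ι → L) = _
    obtain ⟨y, hy⟩ := (bs.equivFun.symm x).2
    rw [← hy, hf, Matrix.toLin'_apply, Matrix.toLin'_apply, mulVec_mulVec, hE]
  · rw [← LinearMap.toMatrix'_comp]
    conv_rhs => rw [← LinearMap.toMatrix'_toLin' E, ← hf]
    congr 1
    apply LinearMap.ext; intro x
    show ((bs.equivFun.symm (bs.equivFun (f.rangeRestrict x)) : LinearMap.range f) : ι → L) = f x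
    rw [LinearEquiv.symm_apply_apply]; rfl

/-- The projection on an eigenspace. -/
def proj (M : Matrix ι ι L) (s : L) : Matrix ι ι L := (2 * s)⁻¹ • (M + s • 1)

variable {M : Matrix ι ι L} {s : L}

theorem proj_add (h2 : (2 : L) ≠ 0) (hs : s ≠ 0) : proj M s + proj M (-s) = 1 := by
  simp only [proj]
  match_scalars <;> field_simp <;> ring

theorem mul_proj (hM : M * M = (s * s) • 1) : M * proj M s = s • proj M s := by
  simp only [proj, Matrix.mul_smul, Matrix.mul_add, hM, Matrix.mul_one]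
  module

theorem proj_sq (h2 : (2 : L) ≠ 0) (hs : s ≠ 0) (hM : M * M = (s * s) • 1) :
    proj M s * proj M s = proj M s := by
  conv_lhs => arg 1; rw [proj]
  rw [Matrix.smul_mul, Matrix.add_mul, Matrix.smul_mul, Matrix.one_mul, mul_proj hM, ← add_smul,
    smul_smul, show (2 * s)⁻¹ * (s + s) = 1 by field_simp; ring, one_smul]

theorem exists_block (h2 : (2 : L) ≠ 0) (hs : s ≠ 0) (hM : M * M = (s * s) • 1) :
    ∃ (d : ℕ) (P : Matrix ι (Fin d) L) (P' : Matrix (Fin d) ι L), P' * P = 1 ∧ P * P' = proj M s := by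
  exact exists_rank_factor _ (proj_sq h2 hs hM)

variable {d d₂ : ℕ} {P : Matrix ι (Fin d) L} {P' : Matrix (Fin d) ι L}
  {P₂ : Matrix ι (Fin d₂) L} {P₂' : Matrix (Fin d₂) ι L}

theorem block_eig (hM : M * M = (s * s) • 1) (hi : P' * P = 1) (hp : P * P' = proj M s) :
    M * P = s • P := by
  have e : proj M s * P = P := by rw [← hp, Matrix.mul_assoc, hi, Matrix.mul_one]
  calc M * P = M * proj M s * P := by rw [Matrix.mul_assoc, e]
    _ = s • P := by rw [mul_proj hM, Matrix.smul_mul, e]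

theorem block_span (h2 : (2 : L) ≠ 0) (hs : s ≠ 0) (hp : P * P' = proj M s) (x : ι → L)
    (hx : M *ᵥ x = s • x) : P *ᵥ (P' *ᵥ x) = x := by
  rw [mulVec_mulVec, hp, proj, smul_mulVec, add_mulVec, smul_mulVec, one_mulVec, hx, ← add_smul,
    smul_smul, show (2 * s)⁻¹ * (s + s) = 1 by field_simp; ring, one_smul]

theorem block_nd (hi : P' * P = 1) (hp : P * P' = proj M s) {Hk : Matrix ι ι L}
    (hsym : Mᵀ * Hk = Hk * M) (hdet : Hk.det ≠ 0) : IsUnit (Pᵀ * Hk * P).det := by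
  rw [← Matrix.isUnit_iff_isUnit_det, ← Matrix.mulVec_injective_iff_isUnit]
  intro x y hxy
  have key : P'ᵀ * (Pᵀ * Hk * P) = Hk * P := by
    have e : (proj M s)ᵀ * Hk = Hk * proj M s := by
      simp only [proj, Matrix.transpose_smul, Matrix.transpose_add, Matrix.transpose_one,
        Matrix.smul_mul, Matrix.add_mul, Matrix.one_mul, hsym, Matrix.mul_smul, Matrix.mul_add,
        Matrix.mul_one]
    calc P'ᵀ * (Pᵀ * Hk * P) = (P * P')ᵀ * Hk * P := by
          rw [Matrix.transpose_mul]; simp only [Matrix.mul_assoc]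
      _ = Hk * (P * P' * P) := by rw [hp, e, Matrix.mul_assoc]
      _ = Hk * P := by rw [Matrix.mul_assoc, hi, Matrix.mul_one]
  have h1 := congrArg (P'ᵀ *ᵥ ·) hxy
  simp only [mulVec_mulVec, key] at h1
  rw [← mulVec_mulVec, ← mulVec_mulVec] at h1
  have h3 := Matrix.mulVec_injective_iff_isUnit.mpr ((isUnit_iff_isUnit_det Hk).mpr (isUnit_iff_ne_zero.2 hdet)) h1
  have h4 := congrArg (P' *ᵥ ·) h3
  simpa only [mulVec_mulVec, hi, one_mulVec] using h4

variable (hi : P' * P = 1) (hi₂ : P₂' * P₂ = 1) (hone : P * P' + P₂ * P₂' = 1)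

include hone

include hi hi₂ in
theorem cross_inv : P' * P₂ = 0 ∧ P₂' * P = 0 := by
  have h1 := congrArg (fun X => P' * X * P₂) hone
  have h2 := congrArg (fun X => P₂' * X * P) hone
  simp only [Matrix.mul_add, Matrix.add_mul, Matrix.mul_one, ← Matrix.mul_assoc, hi, hi₂,
    Matrix.one_mul] at h1 h2
  simp only [Matrix.mul_assoc, hi, hi₂, Matrix.mul_one] at h1 h2
  exact ⟨add_eq_left.mp h1, add_eq_right.mp h2⟩

include hi hi₂ in
theorem card_blocks : d + d₂ = Fintype.card ι := by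
  obtain ⟨c1, c2⟩ := cross_inv hi hi₂ hone
  have := card_eq_of_inv (Matrix.fromRows P' P₂') (Matrix.fromCols P P₂)
    (by rw [Matrix.fromRows_mul_fromCols, hi, hi₂, c1, c2, Matrix.fromBlocks_one])
    (by rw [Matrix.fromCols_mul_fromRows, hone])
  simpa using this

theorem eig_decomp (he : M * P = s • P) (he₂ : M * P₂ = (-s) • P₂) :
    M = s • (P * P') - s • (P₂ * P₂') := by
  calc M = M * (P * P' + P₂ * P₂') := by rw [hone, Matrix.mul_one]
    _ = _ := by
      rw [Matrix.mul_add, ← Matrix.mul_assoc, ← Matrix.mul_assoc, he, he₂, Matrix.smul_mul,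
        Matrix.smul_mul, neg_smul, sub_eq_add_neg]

include hi hi₂ in
theorem det_blocks (he : M * P = s • P) (he₂ : M * P₂ = (-s) • P₂) :
    M.det = s ^ d * (-s) ^ d₂ := by
  obtain ⟨c1, c2⟩ := cross_inv hi hi₂ hone
  set Z := Matrix.fromCols P P₂
  set Zi := Matrix.fromRows P' P₂'
  have hZ : Z * Zi = 1 := by rw [Matrix.fromCols_mul_fromRows, hone]
  have hZi : Zi * Z = 1 := by
    rw [Matrix.fromRows_mul_fromCols, hi, hi₂, c1, c2, Matrix.fromBlocks_one]
  set D := Matrix.fromBlocks (s • (1 : Matrix (Fin d) (Fin d) L)) 0 0 ((-s) • (1 : Matrix (Fin d₂) (Fin d₂) L))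
  have hMZ : M * Z = Z * D := by
    rw [Matrix.mul_fromCols, he, he₂, Matrix.fromCols_mul_fromBlocks]
    simp
  calc M.det = (Z * (D * Zi)).det := by rw [← Matrix.mul_assoc, ← hMZ, Matrix.mul_assoc, hZ, Matrix.mul_one]
    _ = (D * Zi * Z).det := Matrix.det_comm' hZ hZi
    _ = D.det := by rw [Matrix.mul_assoc, hZi, Matrix.mul_one]
    _ = _ := by
      rw [Matrix.det_fromBlocks_zero₂₁, Matrix.det_smul, Matrix.det_smul, Matrix.det_one,
        Matrix.det_one, Fintype.card_fin, Fintype.card_fin, mul_one, mul_one]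

omit hone in
theorem cross_zero (h2 : (2 : L) ≠ 0) (hs : s ≠ 0) {Hk : Matrix ι ι L} (hsym : Mᵀ * Hk = Hk * M)
    (he : M * P = s • P) (he₂ : M * P₂ = (-s) • P₂) :
    Pᵀ * Hk * P₂ = 0 := by
  have h : s • (Pᵀ * Hk * P₂) = (-s) • (Pᵀ * Hk * P₂) := by
    calc s • (Pᵀ * Hk * P₂) = (M * P)ᵀ * Hk * P₂ := by
          rw [he, Matrix.transpose_smul, Matrix.smul_mul, Matrix.smul_mul]
      _ = Pᵀ * (Mᵀ * Hk) * P₂ := by rw [Matrix.transpose_mul]; simp only [Matrix.mul_assoc]
      _ = Pᵀ * Hk * (M * P₂) := by rw [hsym]; simp only [Matrix.mul_assoc]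
      _ = _ := by rw [he₂, Matrix.mul_smul]
  refine (smul_eq_zero.1 (show (2 * s) • (Pᵀ * Hk * P₂) = 0 from ?_)).resolve_left (mul_ne_zero h2 hs)
  linear_combination (norm := module) h

end general

variable {ι : Type} [Fintype ι] [DecidableEq ι] {F : Type u} [Field F] {L : Type v} [Field L]

/-- An eigenspace with its lifting property. -/
structure Blk (i : F →+* L) (G Hm : Matrix ι ι F) (s : L) where
  d : ℕ
  P : Matrix ι (Fin d) L
  P' : Matrix (Fin d) ι L
  inv : P' * P = 1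
  eig : G.map i * P = s • P
  span : ∀ x : ι → L, G.map i *ᵥ x = s • x → P *ᵥ (P' *ᵥ x) = x
  nd : IsUnit (Pᵀ * Hm.map i * P).det
  odd : Odd d
  lift : ∀ h : Matrix (Fin d) (Fin d) L, hᵀ * (Pᵀ * Hm.map i * P) * h = Pᵀ * Hm.map i * P →
    ∃ Y : GL ι F, (Y : Matrix ι ι F)ᵀ * Hm * (Y : Matrix ι ι F) = Hm ∧
      (Y : Matrix ι ι F) * G = G * (Y : Matrix ι ι F) ∧ (Y : Matrix ι ι F).map i * P = P * h

/-- The two eigenspaces. -/
structure Split (i : F →+* L) (G Hm : Matrix ι ι F) (lam : F) (s : L) where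
  B₁ : Blk i G Hm s
  B₂ : Blk i G Hm (-s)
  hone : B₁.P * B₁.P' + B₂.P * B₂.P' = 1
  five : 5 ≤ B₁.d
  small : 5 ≤ B₂.d ∨ Function.Surjective i
  sq : s * s = i lam
  hext : ∀ (τ : F ≃+* F) (c : F), τ lam = c * c * lam → (lam = 1 → c = 1) →
    ∃ τ' : L ≃+* L, (∀ x, τ' (i x) = i (τ x)) ∧ τ' s = i c * s

theorem exists_lift (i : F →+* L) {G Hm : Matrix ι ι F} (hdet : Hm.det ≠ 0) (h2 : (2 : L) ≠ 0) {s : L}
    (hs : s ≠ 0) (hsym : Gᵀ * Hm = Hm * G) {d d₂ : ℕ} {P : Matrix ι (Fin d) L}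
    {P' : Matrix (Fin d) ι L} {P₂ : Matrix ι (Fin d₂) L} {P₂' : Matrix (Fin d₂) ι L}
    (hi : P' * P = 1) (hi₂ : P₂' * P₂ = 1) (hone : P * P' + P₂ * P₂' = 1)
    (he : G.map i * P = s • P) (he₂ : G.map i * P₂ = (-s) • P₂)
    {h : Matrix (Fin d) (Fin d) L} {h₂ : Matrix (Fin d₂) (Fin d₂) L}
    (hh : hᵀ * (Pᵀ * Hm.map i * P) * h = Pᵀ * Hm.map i * P)
    (hh₂ : h₂ᵀ * (P₂ᵀ * Hm.map i * P₂) * h₂ = P₂ᵀ * Hm.map i * P₂)
    (hrat : ∀ p q, ∃ y, i y = (P * h * P' + P₂ * h₂ * P₂') p q) :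
    ∃ Y : GL ι F, (Y : Matrix ι ι F)ᵀ * Hm * (Y : Matrix ι ι F) = Hm ∧
      (Y : Matrix ι ι F) * G = G * (Y : Matrix ι ι F) ∧ (Y : Matrix ι ι F).map i * P = P * h := by
  obtain ⟨c1, c2⟩ := cross_inv hi hi₂ hone
  choose y hy using hrat
  obtain ⟨Y₀, hY₀⟩ : ∃ Y₀, Y₀ = Matrix.of y := ⟨_, rfl⟩
  obtain ⟨Y, hYd⟩ : ∃ Y, Y = P * h * P' + P₂ * h₂ * P₂' := ⟨_, rfl⟩
  have hY : Y₀.map i = Y := by rw [hY₀, hYd]; exact Matrix.ext hy
  obtain ⟨K, hK⟩ : ∃ K, K = Hm.map i := ⟨_, rfl⟩
  rw [← hK] at hh hh₂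
  have hsymK : (G.map i)ᵀ * K = K * G.map i := by
    rw [hK, ← Matrix.transpose_map, ← Matrix.map_mul, hsym, Matrix.map_mul]
  have x12 := cross_zero h2 hs hsymK he he₂
  have x21 : P₂ᵀ * K * P = 0 := cross_zero h2 (neg_ne_zero.2 hs) hsymK he₂ (by rw [neg_neg]; exact he)
  have expand : ∀ (a : Matrix (Fin d) (Fin d) L) (b : Matrix (Fin d₂) (Fin d₂) L),
      (P * a * P' + P₂ * b * P₂')ᵀ * K * (P * a * P' + P₂ * b * P₂') =
        P'ᵀ * (aᵀ * (Pᵀ * K * P) * a) * P' + P₂'ᵀ * (bᵀ * (P₂ᵀ * K * P₂) * b) * P₂' := by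
    intro a b
    have z1 : P'ᵀ * aᵀ * (Pᵀ * K * P₂) * (b * P₂') = 0 := by rw [x12]; simp
    have z2 : P₂'ᵀ * bᵀ * (P₂ᵀ * K * P) * (a * P') = 0 := by rw [x21]; simp
    simp only [Matrix.transpose_add, Matrix.transpose_mul, Matrix.add_mul, Matrix.mul_add,
      Matrix.mul_assoc] at z1 z2 ⊢
    rw [z1, z2]
    abel
  have hiso : Yᵀ * K * Y = K := by
    have h1 := expand 1 1
    simp only [Matrix.mul_one, Matrix.one_mul, Matrix.transpose_one, hone] at h1
    rw [hYd, expand, hh, hh₂, ← h1]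
  have hinj : Function.Injective (fun X : Matrix ι ι F => X.map i) := fun A B h =>
    Matrix.ext fun p q => i.injective (congrFun (congrFun h p) q)
  have hiso₀ : Y₀ᵀ * Hm * Y₀ = Hm := hinj (by
    simp only [Matrix.map_mul, Matrix.transpose_map, hY, ← hK, hiso])
  have hY0 : Y₀.det ≠ 0 := by
    intro hz
    have := congrArg Matrix.det hiso₀
    rw [Matrix.det_mul, hz, mul_zero] at this
    exact hdet this.symm
  refine ⟨Matrix.GeneralLinearGroup.mkOfDetNeZero Y₀ hY0, hiso₀, hinj ?_, ?_⟩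
  · show (Y₀ * G).map i = (G * Y₀).map i
    rw [Matrix.map_mul, Matrix.map_mul, hY]
    calc Y * G.map i = Y * (s • (P * P') - s • (P₂ * P₂')) := by rw [← eig_decomp hone he he₂]
      _ = s • (P * h * P') - s • (P₂ * h₂ * P₂') := by
        rw [hYd]
        simp only [Matrix.mul_sub, Matrix.mul_smul, Matrix.add_mul, Matrix.mul_assoc]
        rw [← Matrix.mul_assoc P' P, hi, ← Matrix.mul_assoc P' P₂, c1, ← Matrix.mul_assoc P₂' P, c2,
          ← Matrix.mul_assoc P₂' P₂, hi₂]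
        simp
      _ = _ := by
        rw [hYd, Matrix.mul_add, ← Matrix.mul_assoc, ← Matrix.mul_assoc, ← Matrix.mul_assoc,
          ← Matrix.mul_assoc, he, he₂, Matrix.smul_mul, Matrix.smul_mul, Matrix.smul_mul,
          Matrix.smul_mul, neg_smul, sub_eq_add_neg]
  · show Y₀.map i * P = P * h
    rw [hY, hYd, Matrix.add_mul, Matrix.mul_assoc, hi, Matrix.mul_one, Matrix.mul_assoc, c2,
      Matrix.mul_zero, add_zero]

section minus

variable {k : ℕ} {F : Type u} [Field F] [Fintype F] {a b : F}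

/-- A similarity with `g² = λ` and multiplier `-λ` preserves the classes. -/
theorem mem_H_of_neg (hk : 3 ≤ k) (h2 : (2 : F) ≠ 0)
    (hab : ∀ z₁ z₂ : F, z₁ ^ 2 + a * z₁ * z₂ + b * z₂ ^ 2 = 0 → z₁ = 0 ∧ z₂ = 0)
    {g : GL (Idx k) F} {l : Fˣ}
    (hsq : (g : Matrix (Idx k) (Idx k) F) * (g : Matrix (Idx k) (Idx k) F) = (l : F) • 1)
    (hg : ∀ v : Idx k → F, qf k F a b ((g : Matrix (Idx k) (Idx k) F) *ᵥ v) = -(l : F) * qf k F a b v) :
    g ∈ H (show 2 ≤ k by omega) hab := by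
  classical
  refine (mem_H_iff_det hk h2 hab (μ := -l) (by simpa using hg)).2 ?_
  obtain ⟨K, _, _, i, -, hc, -⟩ := exists_split (k := k) hab
  have h2K : (2 : K) ≠ 0 := by rw [← map_ofNat i 2, map_ne_zero]; exact h2
  obtain ⟨s, hs⟩ := isSquare_of_quadratic h2K i hc (l : F)
  have hs0 : s ≠ 0 := fun e => (map_ne_zero i).2 l.ne_zero (by rw [hs, e, mul_zero])
  set G := (g : Matrix (Idx k) (Idx k) F)
  obtain ⟨M, hMd⟩ : ∃ M, M = G.map i := ⟨_, rfl⟩
  obtain ⟨Hk, hHd⟩ : ∃ Hk, Hk = (gram k F a b).map i := ⟨_, rfl⟩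
  have hM : M * M = (s * s) • 1 := by
    rw [hMd, ← Matrix.map_mul, hsq, Matrix.map_smul' i _ _ (map_mul i),
      Matrix.map_one _ (map_zero i) (map_one i), hs]
  have hM' : M * M = (-s * -s) • 1 := by rw [neg_mul_neg]; exact hM
  have hgram : Mᵀ * Hk * M = (-(s * s)) • Hk := by
    rw [hMd, hHd, ← Matrix.transpose_map, ← Matrix.map_mul, ← Matrix.map_mul,
      sim_gram (μ := -(l : F)) hg, Matrix.map_smul' i _ _ (map_mul i), map_neg, hs]
  obtain ⟨d, P, P', hi, hp⟩ := exists_block h2K hs0 hM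
  obtain ⟨d₂, P₂, P₂', hi₂, hp₂⟩ := exists_block h2K (neg_ne_zero.2 hs0) hM'
  have hone : P * P' + P₂ * P₂' = 1 := by rw [hp, hp₂, proj_add h2K hs0]
  have he := block_eig hM hi hp
  have he₂ := block_eig hM' hi₂ hp₂
  have diag : ∀ {n : ℕ} (Q : Matrix (Idx k) (Fin n) K) (t : K), M * Q = t • Q → t * t = s * s →
      Qᵀ * Hk * Q = 0 := by
    intro n Q t hQ ht
    have h : (t * t) • (Qᵀ * Hk * Q) = (-(s * s)) • (Qᵀ * Hk * Q) := by
      calc (t * t) • (Qᵀ * Hk * Q) = (M * Q)ᵀ * Hk * (M * Q) := by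
            rw [hQ, Matrix.transpose_smul, Matrix.smul_mul, Matrix.smul_mul, Matrix.mul_smul, smul_smul]
        _ = Qᵀ * (Mᵀ * Hk * M) * Q := by rw [Matrix.transpose_mul]; simp only [Matrix.mul_assoc]
        _ = _ := by rw [hgram, Matrix.mul_smul, Matrix.smul_mul]
    rw [ht] at h
    refine (smul_eq_zero.1 (show (2 * (s * s)) • (Qᵀ * Hk * Q) = 0 from ?_)).resolve_left
      (mul_ne_zero h2K (mul_ne_zero hs0 hs0))
    linear_combination (norm := module) h
  have z1 := diag P s he rfl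
  have z2 := diag P₂ (-s) he₂ (neg_mul_neg s s)
  have hHk : IsUnit Hk.det := isUnit_iff_ne_zero.2 (by
    rw [hHd, show (gram k F a b).map i = i.mapMatrix (gram k F a b) from rfl, ← RingHom.map_det,
      map_ne_zero]
    exact gram_det_ne_zero h2 hab)
  have eA : Pᵀ * P'ᵀ = 1 := by rw [← Matrix.transpose_mul, hi, Matrix.transpose_one]
  have hd : d = d₂ := by
    have e1 : Pᵀ * Hk * P₂ * (P₂' * (Hk⁻¹ * P'ᵀ)) = 1 := by
      calc Pᵀ * Hk * P₂ * (P₂' * (Hk⁻¹ * P'ᵀ))
          = Pᵀ * Hk * (P₂ * P₂') * Hk⁻¹ * P'ᵀ := by simp only [Matrix.mul_assoc]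
        _ = Pᵀ * Hk * (1 - P * P') * Hk⁻¹ * P'ᵀ := by rw [← hone, add_sub_cancel_left]
        _ = Pᵀ * (Hk * Hk⁻¹) * P'ᵀ - Pᵀ * Hk * P * (P' * (Hk⁻¹ * P'ᵀ)) := by
          simp only [Matrix.mul_sub, Matrix.sub_mul, Matrix.mul_one, Matrix.mul_assoc]
        _ = 1 := by rw [z1, Matrix.mul_nonsing_inv _ hHk, Matrix.mul_one, eA, Matrix.zero_mul, sub_zero]
    have e2 : P₂' * (Hk⁻¹ * P'ᵀ) * (Pᵀ * Hk * P₂) = 1 := by
      calc P₂' * (Hk⁻¹ * P'ᵀ) * (Pᵀ * Hk * P₂)
          = P₂' * Hk⁻¹ * (P * P')ᵀ * Hk * P₂ := by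
            rw [Matrix.transpose_mul]; simp only [Matrix.mul_assoc]
        _ = P₂' * Hk⁻¹ * (1 - P₂ * P₂')ᵀ * Hk * P₂ := by rw [← hone, add_sub_cancel_right]
        _ = P₂' * (Hk⁻¹ * Hk) * P₂ - P₂' * Hk⁻¹ * P₂'ᵀ * (P₂ᵀ * Hk * P₂) := by
          simp only [Matrix.transpose_sub, Matrix.transpose_one, Matrix.transpose_mul, Matrix.mul_sub,
            Matrix.sub_mul, Matrix.mul_one, Matrix.mul_assoc]
        _ = 1 := by rw [z2, Matrix.nonsing_inv_mul _ hHk, Matrix.mul_one, hi₂, Matrix.mul_zero, sub_zero]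
    simpa using card_eq_of_inv _ _ e1 e2
  subst hd
  have hcard := card_blocks hi hi₂ hone
  have hdk : d = k + 1 := by simp at hcard; omega
  refine i.injective ?_
  rw [show i G.det = M.det by rw [hMd]; exact RingHom.map_det i G, det_blocks hi hi₂ hone he he₂,
    hdk, map_pow, Units.val_neg, map_neg, hs, ← mul_pow, mul_neg]

theorem selfadjoint {G Hm : Matrix (Idx k) (Idx k) F} {l : F} (hl : l ≠ 0) (hsq : G * G = l • 1)
    (hgram : Gᵀ * Hm * G = l • Hm) : Gᵀ * Hm = Hm * G := by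
  have h := congrArg (· * G) hgram
  simp only [Matrix.mul_assoc, hsq, Matrix.mul_smul, Matrix.mul_one, Matrix.smul_mul] at h
  exact smul_right_injective _ hl h

/-- The two eigenspaces of an involutory similarity outside the class-preserving group. -/
theorem exists_split_data (hk : 3 ≤ k) (h2 : (2 : F) ≠ 0)
    (hab : ∀ z₁ z₂ : F, z₁ ^ 2 + a * z₁ * z₂ + b * z₂ ^ 2 = 0 → z₁ = 0 ∧ z₂ = 0)
    (G : Matrix (Idx k) (Idx k) F) (l : F) (hl : l ≠ 0) (hsq : G * G = l • 1)
    (hgram : Gᵀ * gram k F a b * G = l • gram k F a b) (hdetG : G.det = -(l ^ (k + 1)))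
    (hnorm : IsSquare l → l = 1) :
    ∃ (L : Type u) (_ : Field L) (_ : Fintype L) (i : F →+* L) (s : L),
      Nonempty (Split i G (gram k F a b) l s) := by
  classical
  have hsym := selfadjoint hl hsq hgram
  have hdH := gram_det_ne_zero (k := k) h2 hab
  have hι : Fintype.card (Idx k) = 2 * (k + 1) := by simp; omega
  by_cases hs : IsSquare l
  · obtain rfl := hnorm hs
    have key : ∀ s : F, s * s = 1 → ∃ (d d₂ : ℕ) (P : Matrix (Idx k) (Fin d) F) (P' : Matrix (Fin d) (Idx k) F)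
        (P₂ : Matrix (Idx k) (Fin d₂) F) (P₂' : Matrix (Fin d₂) (Idx k) F),
        P' * P = 1 ∧ P₂' * P₂ = 1 ∧ P * P' + P₂ * P₂' = 1 ∧ P * P' = proj G s ∧
          P₂ * P₂' = proj G (-s) ∧ Odd d ∧ Odd d₂ ∧ d + d₂ = 2 * (k + 1) := by
      intro s hss
      have hs0 : s ≠ 0 := left_ne_zero_of_mul_eq_one hss
      have hM : G * G = (s * s) • 1 := by rw [hss]; exact hsq
      have hM' : G * G = (-s * -s) • 1 := by rw [neg_mul_neg]; exact hM
      obtain ⟨d, P, P', hi, hp⟩ := exists_block h2 hs0 hM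
      obtain ⟨d₂, P₂, P₂', hi₂, hp₂⟩ := exists_block h2 (neg_ne_zero.2 hs0) hM'
      have hone : P * P' + P₂ * P₂' = 1 := by rw [hp, hp₂, proj_add h2 hs0]
      have hcard := (card_blocks hi hi₂ hone).trans hι
      have hdet := det_blocks hi hi₂ hone (block_eig hM hi hp) (block_eig hM' hi₂ hp₂)
      rw [hdetG, one_pow, neg_pow, mul_left_comm, ← pow_add, hcard, pow_mul, pow_two, hss, one_pow,
        mul_one] at hdet
      have hodd : Odd d₂ := by
        rw [← Nat.not_even_iff_odd]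
        intro he
        rw [he.neg_one_pow] at hdet
        exact h2 (by linear_combination -hdet)
      refine ⟨d, d₂, P, P', P₂, P₂', hi, hi₂, hone, hp, hp₂, ?_, hodd, hcard⟩
      rw [Nat.odd_iff] at hodd ⊢; omega
    obtain ⟨s, hss, d, d₂, P, P', P₂, P₂', hi, hi₂, hone, hp, hp₂, hd, hd₂, -, h5⟩ :
        ∃ s : F, s * s = 1 ∧ ∃ (d d₂ : ℕ) (P : Matrix (Idx k) (Fin d) F) (P' : Matrix (Fin d) (Idx k) F)
        (P₂ : Matrix (Idx k) (Fin d₂) F) (P₂' : Matrix (Fin d₂) (Idx k) F),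
        P' * P = 1 ∧ P₂' * P₂ = 1 ∧ P * P' + P₂ * P₂' = 1 ∧ P * P' = proj G s ∧
          P₂ * P₂' = proj G (-s) ∧ Odd d ∧ Odd d₂ ∧ d + d₂ = 2 * (k + 1) ∧ 5 ≤ d := by
      obtain ⟨d, d₂, P, P', P₂, P₂', hi, hi₂, hone, hp, hp₂, hd, hd₂, hc⟩ := key 1 (one_mul 1)
      by_cases h5 : 5 ≤ d
      · exact ⟨1, one_mul 1, d, d₂, P, P', P₂, P₂', hi, hi₂, hone, hp, hp₂, hd, hd₂, hc, h5⟩
      · refine ⟨-1, by ring, d₂, d, P₂, P₂', P, P', hi₂, hi, by rw [add_comm]; exact hone, hp₂,
          by rw [neg_neg]; exact hp, hd₂, hd, by omega, ?_⟩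
        rw [Nat.odd_iff] at hd hd₂; omega
    have hs0 : s ≠ 0 := left_ne_zero_of_mul_eq_one hss
    have hM : G * G = (s * s) • 1 := by rw [hss]; exact hsq
    have hM' : G * G = (-s * -s) • 1 := by rw [neg_mul_neg]; exact hM
    have hid : ∀ {m n : Type} (X : Matrix m n F), X.map (RingHom.id F) = X := fun X => Matrix.map_id X
    have he : G.map (RingHom.id F) * P = s • P := by rw [hid]; exact block_eig hM hi hp
    have he₂ : G.map (RingHom.id F) * P₂ = (-s) • P₂ := by rw [hid]; exact block_eig hM' hi₂ hp₂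
    refine ⟨F, inferInstance, inferInstance, RingHom.id F, s, ⟨⟨⟨d, P, P', hi, he,
      fun x hx => block_span h2 hs0 hp x (by rwa [hid] at hx),
      by rw [hid]; exact block_nd hi hp hsym hdH, hd, fun h hh => ?_⟩,
      ⟨d₂, P₂, P₂', hi₂, he₂, fun x hx => block_span h2 (neg_ne_zero.2 hs0) hp₂ x (by rwa [hid] at hx),
      by rw [hid]; exact block_nd hi₂ hp₂ hsym hdH, hd₂, fun h hh => ?_⟩, hone, h5,
      Or.inr fun x => ⟨x, rfl⟩, by rw [hss]; rfl, fun τ c _ hc => ⟨τ, fun x => rfl, ?_⟩⟩⟩⟩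
    · exact exists_lift _ hdH h2 hs0 hsym hi hi₂ hone he he₂ (h₂ := 1) hh (by simp)
        fun p q => ⟨_, rfl⟩
    · refine exists_lift _ hdH h2 (neg_ne_zero.2 hs0) hsym hi₂ hi (by rw [add_comm]; exact hone) he₂
        (by rw [neg_neg]; exact he) (h₂ := 1) hh (by simp) fun p q => ⟨_, rfl⟩
    · rw [hc rfl, map_one, one_mul]
      rcases mul_self_eq_one_iff.1 hss with h | h <;> simp [h]
  · obtain ⟨L, _, _, i, -, hcard, -⟩ := exists_split (k := k) hab
    obtain ⟨r, hr⟩ := CharP.exists F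
    haveI : Fact r.Prime := ⟨CharP.char_is_prime F r⟩
    haveI : CharP L r := charP_of_injective_ringHom i.injective r
    obtain ⟨f, -, hf⟩ := FiniteField.card F r
    set q := Fintype.card F with hq
    have h2L : (2 : L) ≠ 0 := by rw [← map_ofNat i 2, map_ne_zero]; exact h2
    obtain ⟨s, hss⟩ := isSquare_of_quadratic h2L i hcard l
    have hs0 : s ≠ 0 := fun e => (map_ne_zero i).2 hl (by rw [hss, e, mul_zero])
    let bar : L ≃+* L := iterateFrobeniusEquiv L r f
    have hbar : ∀ x, bar x = x ^ q := fun x => by rw [hf]; rfl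
    have hbi : ∀ x, bar (i x) = i x := fun x => by
      rw [hbar, ← map_pow, hq, FiniteField.pow_card]
    have hodd : Odd q := by
      rw [Nat.odd_iff, hq]
      refine FiniteField.odd_card_of_char_ne_two fun h => h2 ?_
      haveI := ringChar.of_eq h
      exact CharTwo.two_eq_zero
    have hbs : bar s = -s := by
      obtain ⟨m, hm⟩ := hodd
      have h1 : l ^ m = -1 := by
        have hch : ringChar F ≠ 2 := fun h => h2 (by
          haveI := ringChar.of_eq h; exact CharTwo.two_eq_zero)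
        rcases FiniteField.pow_dichotomy hch hl with h | h <;>
          rw [← hq, hm, show (2 * m + 1) / 2 = m by omega] at h
        · refine absurd ?_ hs
          rw [FiniteField.isSquare_iff hch hl, ← hq, hm, show (2 * m + 1) / 2 = m by omega]
          exact h
        · exact h
      rw [hbar, hm, pow_succ, pow_mul, pow_two, ← hss, ← map_pow, h1, map_neg, map_one, neg_one_mul]
    have hbb : ∀ x, bar (bar x) = x := fun x => by
      rw [hbar, hbar, ← pow_mul, ← pow_two, ← hcard, FiniteField.pow_card]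
    have hfixed : ∀ x, bar x = x → ∃ y, i y = x := by
      have ho : orderOf bar = 2 := by
        refine orderOf_eq_prime (RingEquiv.ext fun x => by rw [pow_two]; exact hbb x) fun e => ?_
        rw [e] at hbs
        exact hs0 ((mul_eq_zero.1 (show (2 : L) * s = 0 by
          have : s = -s := hbs; linear_combination this)).resolve_left h2L)
      have h1 := AutPSL.card_fixed_pow bar
      rw [ho, Nat.card_eq_fintype_card (α := L), hcard] at h1
      have h3 : Nat.card {x : L // bar x = x} = q := Nat.pow_left_injective two_ne_zero h1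
      have hsub : Function.Injective (fun y : F => (⟨i y, hbi y⟩ : {x : L // bar x = x})) := fun y z h =>
        i.injective (congrArg Subtype.val h)
      have hbij := hsub.bijective_of_nat_card_le (by rw [h3, Nat.card_eq_fintype_card])
      intro x hx
      obtain ⟨y, hy⟩ := hbij.2 ⟨x, hx⟩
      exact ⟨y, congrArg Subtype.val hy⟩
    obtain ⟨M, hMd⟩ : ∃ M, M = G.map i := ⟨_, rfl⟩
    have hM : M * M = (s * s) • 1 := by
      rw [hMd, ← Matrix.map_mul, hsq, Matrix.map_smul' i _ _ (map_mul i),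
        Matrix.map_one _ (map_zero i) (map_one i), hss]
    have hM' : M * M = (-s * -s) • 1 := by rw [neg_mul_neg]; exact hM
    obtain ⟨d, P, P', hi, hp⟩ := exists_block h2L hs0 hM
    have hbM : M.map bar = M := by rw [hMd]; ext x y; exact hbi _
    have hb1 : (1 : Matrix (Idx k) (Idx k) L).map bar = 1 := Matrix.map_one _ (map_zero bar) (map_one bar)
    have hi₂ : P'.map bar * P.map bar = 1 := by
      rw [← Matrix.map_mul, hi, Matrix.map_one _ (map_zero bar) (map_one bar)]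
    have hp₂ : P.map bar * P'.map bar = proj M (-s) := by
      rw [← Matrix.map_mul, hp, proj, proj, Matrix.map_smul' bar _ _ (map_mul bar),
        Matrix.map_add bar (map_add bar), hbM, Matrix.map_smul' bar _ _ (map_mul bar), hb1, map_inv₀,
        map_mul, map_ofNat, hbs]
    have hone : P * P' + P.map bar * P'.map bar = 1 := by rw [hp, hp₂, proj_add h2L hs0]
    have he := block_eig hM hi hp
    have he₂ := block_eig hM' hi₂ hp₂
    have hcard' := (card_blocks hi hi₂ hone).trans hι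
    have hdk : d = k + 1 := by omega
    have hd : Odd d := by
      have h := det_blocks hi hi₂ hone he he₂
      rw [hMd, show (G.map i).det = i G.det from (RingHom.map_det i G).symm, hdetG, map_neg, map_pow,
        hss, ← mul_pow, mul_neg, ← hdk] at h
      rw [← Nat.not_even_iff_odd]
      intro hev
      rw [hev.neg_pow] at h
      exact (mul_ne_zero h2L (pow_ne_zero d (mul_ne_zero hs0 hs0))) (by linear_combination -h)
    have h5 : 5 ≤ d := by rw [Nat.odd_iff] at hd; omega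
    obtain ⟨Hk, hHd⟩ : ∃ Hk, Hk = (gram k F a b).map i := ⟨_, rfl⟩
    have hsymK : Mᵀ * Hk = Hk * M := by
      rw [hMd, hHd, ← Matrix.transpose_map, ← Matrix.map_mul, hsym, Matrix.map_mul]
    have hdK : Hk.det ≠ 0 := by
      rw [hHd, show (gram k F a b).map i = i.mapMatrix (gram k F a b) from rfl, ← RingHom.map_det,
        map_ne_zero]
      exact hdH
    have hbH : Hk.map bar = Hk := by rw [hHd]; ext x y; exact hbi _
    have hbP : ∀ {m n : Type} (X : Matrix m n L), (X.map bar).map bar = X := fun X =>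
      Matrix.ext fun x y => hbb _
    have hH₂ : (P.map bar)ᵀ * Hk * P.map bar = (Pᵀ * Hk * P).map bar := by
      rw [Matrix.map_mul, Matrix.map_mul, hbH, Matrix.transpose_map]
    have hlift : ∀ h : Matrix (Fin d) (Fin d) L, hᵀ * (Pᵀ * Hk * P) * h = Pᵀ * Hk * P →
        (h.map bar)ᵀ * ((P.map bar)ᵀ * Hk * P.map bar) * h.map bar = (P.map bar)ᵀ * Hk * P.map bar := by
      intro h hh
      rw [hH₂, ← Matrix.transpose_map, ← Matrix.map_mul, ← Matrix.map_mul, hh]
    subst hMd hHd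
    refine ⟨L, inferInstance, inferInstance, i, s, ⟨⟨⟨d, P, P', hi, he,
      block_span h2L hs0 hp, block_nd hi hp hsymK hdK, hd, fun h hh => ?_⟩,
      ⟨d, P.map bar, P'.map bar, hi₂, he₂, block_span h2L (neg_ne_zero.2 hs0) hp₂,
      block_nd hi₂ hp₂ hsymK hdK, hd, fun h hh => ?_⟩, hone, h5, Or.inl h5, hss.symm, fun τ c hτ _ => ?_⟩⟩⟩
    · refine exists_lift i hdH h2L hs0 hsym hi hi₂ hone he he₂ hh (hlift h hh) fun x y => hfixed _ ?_
      show ((P * h * P' + P.map bar * h.map bar * P'.map bar).map bar) x y = _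
      rw [Matrix.map_add bar (map_add bar), Matrix.map_mul, Matrix.map_mul, Matrix.map_mul,
        Matrix.map_mul, hbP, hbP, hbP, add_comm]
    · have hh' : (h.map bar)ᵀ * (Pᵀ * (gram k F a b).map i * P) * h.map bar =
          Pᵀ * (gram k F a b).map i * P := by
        have := congrArg (fun X => Matrix.map X bar) hh
        simp only [hH₂, Matrix.map_mul, ← Matrix.transpose_map, hbP, hbH] at this
        exact this
      refine exists_lift i hdH h2L (neg_ne_zero.2 hs0) hsym hi₂ hi (by rw [add_comm]; exact hone) he₂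
        (by rw [neg_neg]; exact he) hh hh' fun x y => hfixed _ ?_
      show ((P.map bar * h * P'.map bar + P * h.map bar * P').map bar) x y = _
      rw [Matrix.map_add bar (map_add bar), Matrix.map_mul, Matrix.map_mul, Matrix.map_mul,
        Matrix.map_mul, hbP, hbP, hbP, add_comm]
    · obtain ⟨j, hj⟩ := AutPSL.exists_frobenius_pow (p := r) τ
      let τ₀ : L ≃+* L := iterateFrobeniusEquiv L r j
      have hτ₀ : ∀ x, τ₀ (i x) = i (τ x) := fun x => by rw [hj, map_pow]; rfl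
      have h1 : τ₀ s * τ₀ s = (i c * s) * (i c * s) := by
        rw [← map_mul, ← hss, hτ₀, hτ, map_mul, map_mul, hss]; ring
      rcases mul_self_eq_mul_self_iff.1 h1 with h | h
      · exact ⟨τ₀, hτ₀, h⟩
      · refine ⟨bar * τ₀, fun x => ?_, ?_⟩
        · show bar (τ₀ (i x)) = _
          rw [hτ₀, hbi]
        · show bar (τ₀ s) = _
          rw [h, map_neg, map_mul, hbi, hbs, mul_neg, neg_neg]

end minus

end Cfsg.Agent.LocalEven61.POMinusBalance
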