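import Cfsg.Agent.AutPSL.Coset
import Cfsg.Agent.LocalEven61.FormGeom

/-!
Iterates of semilinear maps.
-/

set_option autoImplicit false

namespace Cfsg.Agent.LocalEven61.FormGeom

open Matrix Cfsg.Agent.AutPSL

universe u

variable {n : ℕ} {F : Type u} [Field F]

theorem app_iterate (g : GL (Fin n) F) (τ : F ≃+* F) (k : ℕ) (x : Fin n → F) :
    (app g τ)^[k] x = app (normGL τ g k) (τ ^ k) x := by
  induction k generalizing x with
  | zero =>
    show x = ((1 : GL (Fin n) F) : Matrix (Fin n) (Fin n) F) *ᵥ _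
    rw [Units.val_one, one_mulVec, pow_zero]; rfl
  | succ k ih =>
    rw [Function.iterate_succ_apply', ih]
    show (g : Matrix (Fin n) (Fin n) F) *ᵥ (⇑τ ∘ app (normGL τ g k) (τ ^ k) x) =
      ((g * fieldMap τ (normGL τ g k) : GL (Fin n) F) : Matrix (Fin n) (Fin n) F) *ᵥ _
    rw [Units.val_mul, ← mulVec_mulVec]
    congr 1
    funext i
    show τ ((((normGL τ g k : GL (Fin n) F) : Matrix (Fin n) (Fin n) F) *ᵥ (⇑(τ ^ k) ∘ x)) i) = _
    rw [pow_succ']
    exact RingHom.map_mulVec (τ : F →+* F) _ _ i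

/-- A sign in the twisted commutation with an involutory matrix is trivial for a semilinear map
of odd order modulo scalars. -/
theorem sign_eq_one (h2 : (2 : F) ≠ 0) (g : GL (Fin n) F) (τ : F ≃+* F) {S : Matrix (Fin n) (Fin n) F}
    (hS : S * S = 1) {c : F} (hc : ∀ x, app g τ (S *ᵥ x) = c • (S *ᵥ app g τ x))
    {v : Fin n → F} (hv : v ≠ 0) (hSv : S *ᵥ v = -v) {k : ℕ} (hk : Odd k) (hτk : τ ^ k = 1)
    {l : F} (hl : ((normGL τ g k : GL (Fin n) F) : Matrix (Fin n) (Fin n) F) = l • 1) : c = 1 := by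
  have hTk : ∀ x, (app g τ)^[k] x = l • x := fun x => by
    rw [app_iterate, hτk]
    show ((normGL τ g k : GL (Fin n) F) : Matrix (Fin n) (Fin n) F) *ᵥ x = _
    rw [hl, smul_mulVec, one_mulVec]
  have hsq : c * c = 1 := by
    have h1 := hc (S *ᵥ v)
    rw [mulVec_mulVec, hS, one_mulVec, hc, mulVec_smul, mulVec_mulVec, hS, one_mulVec, smul_smul] at h1
    by_contra hne
    have : (c * c - 1) • app g τ v = 0 := by rw [sub_smul, one_smul, ← h1, sub_self]
    exact (smul_eq_zero.1 this).elim (fun h => hne (sub_eq_zero.1 h)) (app_ne_zero g τ hv)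
  rcases mul_self_eq_one_iff.1 hsq with h | h
  · exact h
  · exfalso
    have hit : ∀ j x, (app g τ)^[j] (S *ᵥ x) = (-1 : F) ^ j • (S *ᵥ (app g τ)^[j] x) := by
      intro j
      induction j with
      | zero => intro x; simp
      | succ j ih =>
        intro x
        rw [Function.iterate_succ_apply', Function.iterate_succ_apply', ih, app_smul, hc, h, map_pow,
          map_neg, map_one, smul_smul, pow_succ]
    have e := hit k v
    rw [hTk, hTk, hk.neg_one_pow, hSv, mulVec_smul, hSv] at e
    have : (2 : F) • (l • v) = 0 := by linear_combination (norm := module) -e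
    have hl0 : l ≠ 0 := fun h0 => by
      have h' := congrArg (fun M : Matrix (Fin n) (Fin n) F => M *ᵥ v) hl
      simp only [h0, zero_smul, Matrix.zero_mulVec] at h'
      exact mulVec_ne_zero _ hv h'
    rcases smul_eq_zero.1 this with h' | h'
    · exact h2 h'
    · exact (smul_eq_zero.1 h').elim hl0 hv

end Cfsg.Agent.LocalEven61.FormGeom
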