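import Cfsg.Agent.AutPSL.GraphFieldClass
import Cfsg.Agent.LocalEven61.PSLBalanceBasic
import Cfsg.Agent.LocalEven61.Balance
import Cfsg.Agent.LocalEven61.FormGeomOdd
import Cfsg.Agent.LocalEven61.FormGeomAlt
import Cfsg.Agent.LocalEven61.Semilinear

/-!
Graph and graph-field involutions of `PSL_n(q)`, `q` odd: the centraliser has trivial odd core.
-/

set_option autoImplicit false

namespace Cfsg.Agent.LocalEven61.PSLBalance

open Matrix Cfsg.Agent.AutPSL Cfsg.Agent.LocalEven61.FormGeom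
open Cfsg.Agent.CG26.PSpLB (Fix conj_comm_iff conj_injective)

universe u

variable {n : ℕ} {F : Type u} [Field F]

/-- The Gram matrix of the form fixed by `x ↦ g σ(x⁻ᵀ) g⁻¹`. -/
abbrev formMat (g : GL (Fin n) F) (σ : F ≃+* F) : Matrix (Fin n) (Fin n) F :=
  ((fieldMap σ g⁻¹ : GL (Fin n) F) : Matrix (Fin n) (Fin n) F)

theorem itGL_inv_coe (h : GL (Fin n) F) :
    (((itGL h)⁻¹ : GL (Fin n) F) : Matrix (Fin n) (Fin n) F) = (h : Matrix (Fin n) (Fin n) F)ᵀ := by
  rw [← map_inv, itGL_coe, inv_inv]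

theorem isSimil_of_comm {g h : GL (Fin n) F} {σ : F ≃+* F} (hσσ : ∀ a, σ (σ a) = a) {c : Fˣ}
    (e : act g σ (itGL h) = h * scalarGL _ c) :
    IsSimil (formMat g σ) σ h (σ ((c⁻¹ : Fˣ) : F)) := by
  refine isSimil_of_mat ?_
  have e1 : fieldMap σ (itGL h)⁻¹ * g⁻¹ * h = scalarGL _ c⁻¹ * g⁻¹ := by
    rw [act_apply] at e
    calc fieldMap σ (itGL h)⁻¹ * g⁻¹ * h = g⁻¹ * (g * fieldMap σ (itGL h) * g⁻¹)⁻¹ * h := by
          rw [map_inv]; group
      _ = g⁻¹ * (h * scalarGL _ c)⁻¹ * h := by rw [e]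
      _ = g⁻¹ * scalarGL _ c⁻¹ := by rw [_root_.mul_inv_rev, ← map_inv]; group
      _ = _ := (scalarGL_mul_comm _ _).symm
  have hff : ∀ x : GL (Fin n) F, fieldMap σ (fieldMap σ x) = x := fun x =>
    Units.ext (Matrix.ext fun a b => hσσ _)
  have e2 := congrArg (fieldMap σ) e1
  rw [map_mul, map_mul, hff, map_mul (fieldMap σ), fieldMap_scalarGL] at e2
  have e3 := congrArg (fun x : GL (Fin n) F => (x : Matrix (Fin n) (Fin n) F)) e2
  simp only [Units.val_mul, itGL_inv_coe, scalarGL_coe, Matrix.smul_mul, Matrix.one_mul] at e3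
  exact e3

theorem comm_of_isSimil {g h : GL (Fin n) F} {σ : F ≃+* F} (hσσ : ∀ a, σ (σ a) = a)
    (e : IsSimil (formMat g σ) σ h 1) : act g σ (itGL h) = h := by
  have e1 : (itGL h)⁻¹ * fieldMap σ g⁻¹ * fieldMap σ h = fieldMap σ g⁻¹ := by
    apply Units.ext
    have := mat_of_isSimil e
    rw [one_smul] at this
    rw [Units.val_mul, Units.val_mul, itGL_inv_coe]
    exact this
  have hff : ∀ x : GL (Fin n) F, fieldMap σ (fieldMap σ x) = x := fun x =>
    Units.ext (Matrix.ext fun a b => hσσ _)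
  have e2 := congrArg (fieldMap σ) e1
  rw [map_mul, map_mul, hff, hff] at e2
  rw [act_apply]
  calc g * fieldMap σ (itGL h) * g⁻¹ = g * fieldMap σ (itGL h) * (fieldMap σ (itGL h)⁻¹ * g⁻¹ * h) := by
        rw [e2]
    _ = h := by rw [map_inv]; group

variable [Fintype F]

theorem semi_mul_it_pgl {g : GL (Fin n) F} {σ : F ≃+* F}
    {γ : MulAut (Matrix.ProjectiveSpecialLinearGroup (Fin n) F)} (hγ : IsSemi g σ γ) (h : GL (Fin n) F) :
    γ * itAut n F * pgl n F h = pgl n F (act g σ (itGL h)) * (γ * itAut n F) := by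
  obtain ⟨φ, hφ⟩ := exists_induced (S := Matrix.SpecialLinearGroup (Fin n) F) rho_injective
    (normalises_psl 1 σ)
  have h1 := Induced.comp (normalises_psl 1 σ) (isSemi_pgl g) hφ
  rw [map_one, mul_one, one_mul] at h1
  have hγ' : γ = pgl n F g * φ := Induced.ext (normalises_psl g σ) hγ h1
  have hit : itAut n F * pgl n F h = pgl n F (itGL h) * itAut n F := by
    rw [← pgl_it, mul_assoc, itAut_mul_self, mul_one]
  rw [mul_assoc, hit, ← mul_assoc, ← mul_assoc]
  congr 1
  rw [hγ', mul_assoc, semi_comm_pgl hφ, act_apply, map_mul, map_mul, map_inv]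
  group

theorem pgl_comm_iff (hn : 2 ≤ n) {g : GL (Fin n) F} {σ : F ≃+* F}
    {γ : MulAut (Matrix.ProjectiveSpecialLinearGroup (Fin n) F)} (hγ : IsSemi g σ γ) (h : GL (Fin n) F) :
    pgl n F h * (γ * itAut n F) = γ * itAut n F * pgl n F h ↔
      ∃ c : Fˣ, act g σ (itGL h) = h * scalarGL _ c := by
  rw [semi_mul_it_pgl hγ, mul_left_inj, eq_comm, pgl_eq_iff hn]

/-- An automorphism of odd order is semilinear. -/
theorem exists_semi_of_odd (hn : 2 ≤ n) {β : MulAut (Matrix.ProjectiveSpecialLinearGroup (Fin n) F)}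
    (hodd : Odd (orderOf β)) :
    ∃ (g : GL (Fin n) F) (τ : F ≃+* F), IsSemi g τ β := by
  obtain ⟨g, τ, γ, hγ, rfl | ⟨-, rfl⟩⟩ := exists_semi hn β
  · exact ⟨g, τ, hγ⟩
  · obtain ⟨j, hj⟩ := hodd
    have h2 := Induced.comp (normalises_psl (itGL g) τ) hγ (IsSemi.it_conj hγ)
    have e : γ * (itAut n F * γ * itAut n F) = (γ * itAut n F) ^ 2 := by
      rw [pow_two]; group
    rw [e] at h2
    have h3 := IsSemi.pow h2 (j + 1)
    have e2 : ((γ * itAut n F) ^ 2) ^ (j + 1) = γ * itAut n F := by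
      rw [← pow_mul, show 2 * (j + 1) = orderOf (γ * itAut n F) + 1 by omega, pow_succ, pow_orderOf_eq_one,
        one_mul]
    rw [e2] at h3
    exact ⟨_, _, h3⟩

theorem semi_scalar_eq_one (hn : 2 ≤ n) {β : MulAut (Matrix.ProjectiveSpecialLinearGroup (Fin n) F)}
    {g : GL (Fin n) F} {τ : F ≃+* F} (hβ : IsSemi g τ β) (hτ : τ = 1) {c : F}
    (hg : (g : Matrix (Fin n) (Fin n) F) = c • 1) : β = 1 := by
  subst hτ
  exact Induced.ext (normalises_psl _ _) hβ (scalar_semi hg)

theorem graph_core_bot (hn : 3 ≤ n) (h2 : (2 : F) ≠ 0) {g : GL (Fin n) F} {σ : F ≃+* F}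
    (hσσ : ∀ a, σ (σ a) = a) {γ : MulAut (Matrix.ProjectiveSpecialLinearGroup (Fin n) F)}
    (hγ : IsSemi g σ γ)
    (hsym : ((formMat g σ).map σ)ᵀ = formMat g σ ∨ (σ = 1 ∧ (formMat g σ)ᵀ = -formMat g σ))
    (A : Subgroup (MulAut (Matrix.ProjectiveSpecialLinearGroup (Fin n) F)))
    (hinn : ∀ k, MulAut.conj k ∈ A) :
    Cfsg.pPrimeCore 2 ↥(A ⊓ Subgroup.centralizer {γ * itAut n F}) = ⊥ := by
  classical
  have hn2 : 2 ≤ n := by omega
  haveI : NeZero n := ⟨by omega⟩
  have hZ := center_psl (F := F) hn2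
  have hdet : IsUnit (formMat g σ).det := Matrix.isUnits_det_units _
  set y := γ * itAut n F with hy
  have hcomm : ∀ h : GL (Fin n) F, IsSimil (formMat g σ) σ h 1 →
      pgl n F h * y = y * pgl n F h := fun h hh =>
    (pgl_comm_iff hn2 hγ h).2 ⟨1, by
      rw [comm_of_isSimil hσσ hh]
      exact ((congrArg (h * ·) (map_one _)).trans (mul_one h)).symm⟩
  have hfixmk : ∀ s : Matrix.SpecialLinearGroup (Fin n) F, IsSimil (formMat g σ) σ (rho n F s) 1 →
      (QuotientGroup.mk s : Matrix.ProjectiveSpecialLinearGroup (Fin n) F) ∈ Fix y := fun s hs => by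
    refine (conj_comm_iff hZ).1 (Subgroup.mem_centralizer_singleton_iff.2 ?_)
    rw [← pgl_rho]
    exact hcomm _ hs
  refine Balance.core_two_bot hZ ?_ ?_ A hinn
  · -- odd order automorphisms fixing the fixed points
    intro β _ hodd hβ
    obtain ⟨g', τ, hs⟩ := exists_semi_of_odd hn2 hodd
    obtain ⟨k, hk⟩ : ∃ k, k = orderOf β := ⟨_, rfl⟩
    have hpk := IsSemi.pow hs k
    rw [hk, pow_orderOf_eq_one, ← hk] at hpk
    obtain ⟨hτk, l, -, hl⟩ := IsSemi.eq_one hn2 hpk
    have key : ∀ x : Fin n → F, ∃ ν : F, app g' τ (⇑(RingHom.id F) ∘ x) = ν • (⇑(RingHom.id F) ∘ x) := by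
      rcases hsym with hsym | ⟨hσ1, halt⟩
      · refine lines_of_half_turns hsym hσσ hdet h2 hn (RingHom.id F) g' τ ?_
        intro u v hu hv huv x
        rw [show ⇑(RingHom.id F) = id from rfl, Matrix.map_id]
        let s : Matrix.SpecialLinearGroup (Fin n) F :=
          ⟨rflM (formMat g σ) σ u * rflM (formMat g σ) σ v, by
            rw [Matrix.det_mul, rflM_det hu, rflM_det hv, neg_one_mul, neg_neg]⟩
        have hsim : IsSimil (formMat g σ) σ (rho n F s) 1 := by
          have e : rho n F s = rfl' _ σ u hu * rfl' _ σ v hv := Units.ext rfl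
          rw [e]
          have := (rfl'_isSimil hsym hσσ hu).mul (rfl'_isSimil hsym hσσ hv)
          rwa [one_mul] at this
        obtain ⟨c, hc⟩ := act_of_semi hs (hβ _ (hfixmk s hsim))
        have hc' : ∀ x, app g' τ ((rho n F s : Matrix (Fin n) (Fin n) F) *ᵥ x) =
            c • ((rho n F s : Matrix (Fin n) (Fin n) F) *ᵥ app g' τ x) := app_comm_of_act hc
        have hvu : bf (formMat g σ) σ v u = 0 := by rw [bf_swap hsym hσσ, huv, map_zero]
        have hSS : (rho n F s : Matrix (Fin n) (Fin n) F) * (rho n F s : Matrix (Fin n) (Fin n) F) = 1 := by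
          refine Matrix.ext_of_mulVec_single fun i => ?_
          rw [← mulVec_mulVec, one_mulVec]
          show (rflM _ σ u * rflM _ σ v) *ᵥ ((rflM _ σ u * rflM _ σ v) *ᵥ _) = _
          have hcm : ∀ z, rflM (formMat g σ) σ v *ᵥ (rflM (formMat g σ) σ u *ᵥ z) =
              rflM (formMat g σ) σ u *ᵥ (rflM (formMat g σ) σ v *ᵥ z) := fun z => by
            simp only [rflM_mulVec, bf_sub_left, bf_smul_left, huv, hvu, mul_zero, sub_zero]
            module
          rw [← mulVec_mulVec, ← mulVec_mulVec, hcm, mulVec_mulVec _ (rflM _ σ u) (rflM _ σ u),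
            rflM_sq hu, one_mulVec, mulVec_mulVec, rflM_sq hv, one_mulVec]
        have hSv : (rho n F s : Matrix (Fin n) (Fin n) F) *ᵥ v = -v := by
          show (rflM _ σ u * rflM _ σ v) *ᵥ v = _
          rw [← mulVec_mulVec, rflM_apply_self hv, mulVec_neg, rflM_apply_orth hvu]
        have hv0 : v ≠ 0 := fun e => hv (by rw [e]; exact bf_zero_left _)
        have hc1 : c = 1 := sign_eq_one h2 g' τ hSS hc' hv0 hSv (hk ▸ hodd) hτk hl
        have := hc' x
        rw [hc1, one_smul] at this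
        exact this
      · subst hσ1
        intro a
        by_cases ha : a = 0
        · subst ha
          exact ⟨0, by rw [zero_smul]; exact (congrArg _ (funext fun _ => map_zero τ)).trans (mulVec_zero _)⟩
        obtain ⟨b, hb⟩ : ∃ b, b = (1 : F) • (formMat g (1 : F ≃+* F) *ᵥ (⇑(1 : F ≃+* F) ∘ a)) := ⟨_, rfl⟩
        have hb0 : b ≠ 0 := fun h => by
          obtain ⟨x, hx⟩ := exists_bf_eq (τ := (1 : F ≃+* F)) hdet ha 1
          rw [hb, one_smul] at h
          rw [bf, h, dotProduct_zero] at hx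
          exact zero_ne_one hx
        have hba : b ⬝ᵥ a = 0 := by
          rw [hb, one_smul, dotProduct_comm]
          exact bf_self_alt halt h2 a
        let s : Matrix.SpecialLinearGroup (Fin n) F := ⟨trM (formMat g 1) a 1, trM_det halt h2 a 1⟩
        have hsim : IsSimil (formMat g 1) (1 : F ≃+* F) (rho n F s) 1 := by
          have e : rho n F s = tr halt h2 a 1 := Units.ext rfl
          rw [e]; exact tr_isSimil halt h2 a 1
        obtain ⟨c, hc⟩ := act_of_semi hs (hβ _ (hfixmk s hsim))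
        have hc' : ∀ x, app g' τ ((rho n F s : Matrix (Fin n) (Fin n) F) *ᵥ x) =
            c • ((rho n F s : Matrix (Fin n) (Fin n) F) *ᵥ app g' τ x) := app_comm_of_act hc
        have hS : (rho n F s : Matrix (Fin n) (Fin n) F) = tauM a b := by rw [hb]; rfl
        simp only [hS] at hc'
        have hfixa : tauM a b *ᵥ a = a := by rw [tauM_mulVec, hba, zero_smul, add_zero]
        have e1 := hc' a
        rw [hfixa] at e1
        have hc0 : c ≠ 0 := fun h0 => app_ne_zero g' τ ha (by rw [e1, h0, zero_smul])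
        have hc1 : c = 1 := by
          have := unipotent_eigen (k := c⁻¹) hba (app_ne_zero g' τ ha)
            (by rw [eq_inv_smul_iff₀ hc0]; exact e1.symm)
          simpa using this
        refine line_of_comm_tau (RingHom.id F) g' τ (a := a) (b := b) hb0 fun x => ?_
        have := hc' x
        rw [hc1, one_smul] at this
        exact this
    obtain ⟨⟨c, -, hc⟩, hτ⟩ := scalar_of_lines (RingHom.id F) hn2 g' τ key
    exact semi_scalar_eq_one hn2 hs (RingEquiv.ext hτ) hc
  · -- the fixed points have no normal subgroup of odd order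
    intro M hM hinv hodd
    set M' := (M.map (MulAut.conj : Matrix.ProjectiveSpecialLinearGroup (Fin n) F →* _)).comap (pgl n F)
      with hM'
    have hsim : ∀ h ∈ M', ∃ μ, IsSimil (formMat g σ) σ h μ := by
      rintro h ⟨m, hm, hmh⟩
      have hc : pgl n F h * y = y * pgl n F h := by
        rw [← hmh]
        exact Subgroup.mem_centralizer_singleton_iff.1 ((conj_comm_iff hZ).2 (hM hm))
      obtain ⟨c, hc⟩ := (pgl_comm_iff hn2 hγ h).1 hc
      exact ⟨_, isSimil_of_comm hσσ hc⟩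
    have hnorm : ∀ k, IsSimil (formMat g σ) σ k 1 → ∀ h ∈ M', k * h * k⁻¹ ∈ M' := by
      rintro k hk h ⟨m, hm, hmh⟩
      refine ⟨pgl n F k m, hinv _ (hcomm k hk) m hm, ?_⟩
      rw [map_mul, map_mul, map_inv, ← hmh]
      refine MulEquiv.ext fun z => ?_
      show pgl n F k m * z * (pgl n F k m)⁻¹ = pgl n F k (m * ((pgl n F k)⁻¹ z) * m⁻¹)
      rw [map_mul, map_mul, map_inv, MulAut.apply_inv_self]
    have hpow : ∀ h ∈ M', ∃ k, Odd k ∧ ∃ c : F,
        ((h ^ k : GL (Fin n) F) : Matrix (Fin n) (Fin n) F) = c • 1 := by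
      intro h hh
      refine ⟨Nat.card (M.map (MulAut.conj : Matrix.ProjectiveSpecialLinearGroup (Fin n) F →* _)),
        by rwa [Subgroup.card_map_of_injective (conj_injective hZ)], ?_⟩
      have e := congrArg Subtype.val (pow_card_eq_one'
        (x := (⟨pgl n F h, hh⟩ : M.map (MulAut.conj : Matrix.ProjectiveSpecialLinearGroup (Fin n) F →* _))))
      rw [SubmonoidClass.coe_pow, ← map_pow, OneMemClass.coe_one, pgl_eq_one_iff hn2] at e
      obtain ⟨c, hc⟩ := e
      exact ⟨c, by rw [hc, scalarGL_coe]⟩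
    have hall : ∀ h ∈ M', ∃ c : F, (h : Matrix (Fin n) (Fin n) F) = c • 1 := by
      rcases hsym with hsym | ⟨hσ1, halt⟩
      · exact scalar_of_odd_orth hsym hσσ hdet h2 hn M' hsim hnorm hpow
      · subst hσ1
        exact scalar_of_odd_alt halt h2 hdet hn M' hsim hnorm hpow
    refine (Subgroup.eq_bot_iff_forall _).2 fun m hm => ?_
    obtain ⟨s, rfl⟩ := QuotientGroup.mk_surjective m
    obtain ⟨c, hc⟩ := hall (rho n F s) ⟨_, hm, (pgl_rho s).symm⟩
    exact (QuotientGroup.eq_one_iff _).2 (mem_center_of_scalar (c := c) hc)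

/-- Any involution outside the semilinear group has centraliser with trivial odd core. -/
theorem graph_involution_core_bot (hn : 3 ≤ n) (h2 : (2 : F) ≠ 0) {g : GL (Fin n) F} {σ : F ≃+* F}
    {γ : MulAut (Matrix.ProjectiveSpecialLinearGroup (Fin n) F)} (hγ : IsSemi g σ γ)
    (ho : orderOf (γ * itAut n F) = 2)
    (A : Subgroup (MulAut (Matrix.ProjectiveSpecialLinearGroup (Fin n) F)))
    (hinn : ∀ k, MulAut.conj k ∈ A) :
    Cfsg.pPrimeCore 2 ↥(A ⊓ Subgroup.centralizer {γ * itAut n F}) = ⊥ := by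
  classical
  have hn2 : 2 ≤ n := by omega
  haveI : Nonempty (Fin n) := ⟨⟨0, by omega⟩⟩
  have hsq := Induced.comp (normalises_psl (itGL g) σ) hγ (IsSemi.it_conj hγ)
  have e : γ * (itAut n F * γ * itAut n F) = 1 := by
    have := pow_orderOf_eq_one (γ * itAut n F)
    rw [ho, pow_two] at this
    simpa only [mul_assoc] using this
  rw [e] at hsq
  obtain ⟨hσ2, c, hc0, hN⟩ := IsSemi.eq_one hn2 hsq
  have hσσ : ∀ x, σ (σ x) = x := fun x => DFunLike.congr_fun hσ2 x
  by_cases hσ : σ = 1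
  · subst hσ
    refine graph_core_bot hn h2 hσσ hγ ?_ A hinn
    have hg : ((g⁻¹ : GL (Fin n) F) : Matrix (Fin n) (Fin n) F)ᵀ =
        c • ((g⁻¹ : GL (Fin n) F) : Matrix (Fin n) (Fin n) F) := by
      rw [fieldMap_one] at hN
      have e' : itGL g = g⁻¹ * (g * itGL g) := (inv_mul_cancel_left _ _).symm
      rw [← itGL_coe, e', Units.val_mul, hN, Matrix.mul_smul, Matrix.mul_one]
    have hcc : c * c = 1 := by
      have h1 := congrArg Matrix.transpose hg
      rw [Matrix.transpose_transpose, Matrix.transpose_smul, hg, smul_smul] at h1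
      obtain ⟨i, j, hij⟩ : ∃ i j, ((g⁻¹ : GL (Fin n) F) : Matrix (Fin n) (Fin n) F) i j ≠ 0 := by
        by_contra hno
        push Not at hno
        exact (g⁻¹).ne_zero (Matrix.ext hno)
      have := congrFun (congrFun h1 i) j
      rw [Matrix.smul_apply, smul_eq_mul] at this
      exact (mul_right_cancel₀ hij ((one_mul _).trans this)).symm
    show ((formMat g 1).map _)ᵀ = _ ∨ _
    rw [show formMat g (1 : F ≃+* F) = ((g⁻¹ : GL (Fin n) F) : Matrix (Fin n) (Fin n) F) by
      rw [formMat, fieldMap_one]]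
    rcases mul_self_eq_one_iff.1 hcc with h | h
    · left
      rw [show ⇑(1 : F ≃+* F) = id from rfl, Matrix.map_id, hg, h, one_smul]
    · exact Or.inr ⟨rfl, by rw [hg, h, neg_one_smul]⟩
  · have hord : orderOf σ = 2 := orderOf_eq_prime (by rw [pow_two]; exact hσ2) hσ
    obtain ⟨δ, hδ⟩ := exists_induced (S := Matrix.SpecialLinearGroup (Fin n) F) rho_injective
      (normalises_psl g 1)
    obtain ⟨φ, hφ⟩ := exists_induced (S := Matrix.SpecialLinearGroup (Fin n) F) rho_injective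
      (normalises_psl 1 σ)
    have h1 := Induced.comp (normalises_psl 1 σ) hδ hφ
    rw [map_one, mul_one, one_mul] at h1
    have hγ' : γ = δ * φ := Induced.ext (normalises_psl g σ) hγ h1
    rw [hγ', mul_assoc] at ho ⊢
    obtain ⟨η, -, hη⟩ := graphField_coset hn hφ hord ((mem_inndiagPSL_iff δ).2 ⟨g, hδ⟩) ho
    have hconj : η⁻¹ * (δ * (φ * itAut n F)) * η⁻¹⁻¹ = φ * itAut n F := by rw [hη]; group
    haveI : Fact (Nat.Prime 2) := ⟨Nat.prime_two⟩
    rw [← Balance.core_map_conj A η⁻¹, hconj]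
    refine graph_core_bot hn h2 hσσ hφ (Or.inl ?_) _ (Balance.inn_le_map_conj A hinn _)
    rw [formMat, inv_one, map_one, Units.val_one, Matrix.map_one _ (map_zero σ) (map_one σ),
      Matrix.transpose_one]

end Cfsg.Agent.LocalEven61.PSLBalance
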