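import Cfsg.Agent.LocalEven61.PSLBalanceField
import Cfsg.Agent.LocalEven61.PSLBalanceGraph

/-!
Failure of local balance for outer automorphisms of prime order of `PSL_n(q)`.
-/

set_option autoImplicit false

namespace Cfsg.Agent.LocalEven61.PSLBalance

open Matrix Cfsg.Agent.AutPSL
open Cfsg.Agent.CG26.PSpLB (Fix)

universe u

variable {n : ℕ} {F : Type u} [Field F] [Fintype F]

theorem criterion (hn : 2 ≤ n) {r : ℕ} [Fact r.Prime] [CharP F r]
    (A : Subgroup (MulAut (Matrix.ProjectiveSpecialLinearGroup (Fin n) F)))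
    (hinn : ∀ k, MulAut.conj k ∈ A) {p : ℕ} [Fact p.Prime] (hpr : p ≠ r)
    (β : MulAut (Matrix.ProjectiveSpecialLinearGroup (Fin n) F)) (hord : orderOf β = p)
    (hnot : ¬ Cfsg.IsInnerDiagonalAutPSL β) :
    Cfsg.pPrimeCore p ↥(A ⊓ Subgroup.centralizer {β}) ≠ ⊥ ↔
      ((∃ γ φ : MulAut (Matrix.ProjectiveSpecialLinearGroup (Fin n) F),
        Cfsg.IsInnerDiagonalAutPSL γ ∧ Cfsg.IsFieldAutPSL φ ∧ β = φ.trans γ) ∧
        Nat.Coprime p (Nat.card (Fix β))) := by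
  classical
  have hp : p.Prime := Fact.out
  have hβp : β ^ p = 1 := hord ▸ pow_orderOf_eq_one β
  obtain ⟨g, σ, γ, hγ, hor⟩ := exists_semi hn β
  obtain ⟨δ, hδ⟩ := exists_induced (S := Matrix.SpecialLinearGroup (Fin n) F) rho_injective
    (normalises_psl g 1)
  obtain ⟨φ, hφ⟩ := exists_induced (S := Matrix.SpecialLinearGroup (Fin n) F) rho_injective
    (normalises_psl 1 σ)
  have h1 := Induced.comp (normalises_psl 1 σ) hδ hφ
  rw [map_one, mul_one, one_mul] at h1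
  have hγ' : γ = δ * φ := Induced.ext (normalises_psl g σ) hγ h1
  rcases hor with rfl | ⟨h3, rfl⟩
  · -- field type
    have hfield : ∃ γ' φ' : MulAut (Matrix.ProjectiveSpecialLinearGroup (Fin n) F),
        Cfsg.IsInnerDiagonalAutPSL γ' ∧ Cfsg.IsFieldAutPSL φ' ∧ β = φ'.trans γ' :=
      ⟨δ, φ, (isInnerDiagonal_iff δ).2 ⟨g, hδ⟩, ⟨σ, (isStdField_iff σ φ).2 hφ⟩, hγ'⟩
    have hσ1 : σ ≠ 1 := fun e => hnot ((isInnerDiagonal_iff β).2 ⟨g, e ▸ hγ⟩)
    have hpw := IsSemi.pow hγ p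
    rw [hβp] at hpw
    have hσo : orderOf σ = p := orderOf_eq_prime (IsSemi.eq_one hn hpw).1 hσ1
    obtain ⟨η, -, hη⟩ := field_coset hn hφ ((mem_inndiagPSL_iff δ).2 ⟨g, hδ⟩)
      (by rw [← hγ', hord, orderOf_stdField hn hφ, hσo])
    have hconj : η⁻¹ * β * η⁻¹⁻¹ = φ := by rw [hγ', hη]; group
    obtain ⟨e1, e2, e3⟩ := fix_hyps (r := r) hn hpr hσo hφ
    rw [Balance.core_iff_conj (center_psl hn) η⁻¹ (by rwa [hconj]) (by rwa [hconj]) (by rwa [hconj])
      A hinn]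
    exact ⟨fun h => ⟨hfield, h⟩, fun h => h.2⟩
  · -- graph type
    have hp2 : p = 2 := by
      by_contra hne
      obtain ⟨k, hk⟩ := hp.odd_of_ne_two hne
      have hsq := Induced.comp (normalises_psl (itGL g) σ) hγ (IsSemi.it_conj hγ)
      have e : γ * (itAut n F * γ * itAut n F) = (γ * itAut n F) ^ 2 := by rw [pow_two]; group
      rw [e] at hsq
      have hk' := IsSemi.pow hsq (k + 1)
      have e2 : ((γ * itAut n F) ^ 2) ^ (k + 1) = γ * itAut n F := by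
        rw [← pow_mul, show 2 * (k + 1) = p + 1 by omega, pow_succ, hβp, one_mul]
      rw [e2] at hk'
      exact semi_not_eq_mul_it h3 hk' hγ rfl
    subst hp2
    have h2 : (2 : F) ≠ 0 := fun h0 => hpr
      ((Nat.prime_dvd_prime_iff_eq Fact.out Nat.prime_two).1
        ((CharP.cast_eq_zero_iff F r 2).1 (by exact_mod_cast h0))).symm
    refine iff_of_false (fun h => h (graph_involution_core_bot h3 h2 hγ hord A hinn)) ?_
    rintro ⟨⟨γ', φ', hγd, ⟨τ, hτ⟩, he⟩, -⟩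
    obtain ⟨g', hg'⟩ := (isInnerDiagonal_iff γ').1 hγd
    have h4 := Induced.comp (normalises_psl 1 τ) hg' ((isStdField_iff τ φ').1 hτ)
    exact semi_not_eq_mul_it h3 h4 hγ he.symm

end Cfsg.Agent.LocalEven61.PSLBalance
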