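import Cfsg.Agent.LocalEven61.PSLBalanceBasic
import Cfsg.Agent.LocalEven61.Balance
import Cfsg.Agent.Lib.LinearGroup.Simple
import Cfsg.Agent.Lib.LinearGroup.SmallPSL
import Cfsg.Agent.S0265

/-!
The fixed points of a standard field automorphism of prime order on `PSL_n(q)`.
-/

set_option autoImplicit false

namespace Cfsg.Agent.LocalEven61.PSLBalance

open Matrix Cfsg.Agent.AutPSL
open Cfsg.Agent.CG26.PSpLB (Fix conj_comm_iff conj_injective)

universe u v

theorem small_three : ∀ m : Matrix.SpecialLinearGroup (Fin 2) (ZMod 3),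
    ¬ (m.1 0 1 = 0 ∧ m.1 1 0 = 0 ∧ m.1 0 0 = m.1 1 1) →
      ∃ a : Matrix.SpecialLinearGroup (Fin 2) (ZMod 3),
        ¬ ((m*a*m⁻¹*a⁻¹).1 0 1 = 0 ∧ (m*a*m⁻¹*a⁻¹).1 1 0 = 0 ∧
          (m*a*m⁻¹*a⁻¹).1 0 0 = (m*a*m⁻¹*a⁻¹).1 1 1) ∧
        (((m*a*m⁻¹*a⁻¹)*(m*a*m⁻¹*a⁻¹)).1 0 1 = 0 ∧ ((m*a*m⁻¹*a⁻¹)*(m*a*m⁻¹*a⁻¹)).1 1 0 = 0 ∧
          ((m*a*m⁻¹*a⁻¹)*(m*a*m⁻¹*a⁻¹)).1 0 0 = ((m*a*m⁻¹*a⁻¹)*(m*a*m⁻¹*a⁻¹)).1 1 1) := by
  decide +kernel

theorem small_two : ∀ m : Matrix.SpecialLinearGroup (Fin 2) (ZMod 2),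
    ¬ (m.1 0 1 = 0 ∧ m.1 1 0 = 0 ∧ m.1 0 0 = m.1 1 1) →
      ∃ a : Matrix.SpecialLinearGroup (Fin 2) (ZMod 2),
        ¬ ((m*a*m⁻¹*a⁻¹).1 0 1 = 0 ∧ (m*a*m⁻¹*a⁻¹).1 1 0 = 0 ∧
          (m*a*m⁻¹*a⁻¹).1 0 0 = (m*a*m⁻¹*a⁻¹).1 1 1) ∧
        ((m*a*m⁻¹*a⁻¹)*(m*a*m⁻¹*a⁻¹)*(m*a*m⁻¹*a⁻¹) = 1) := by
  decide +kernel

theorem scalar_two_iff {R : Type*} [Field R] (m : Matrix.SpecialLinearGroup (Fin 2) R) :
    (m.1 0 1 = 0 ∧ m.1 1 0 = 0 ∧ m.1 0 0 = m.1 1 1) ↔
      m ∈ Subgroup.center (Matrix.SpecialLinearGroup (Fin 2) R) := by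
  constructor
  · rintro ⟨h1, h2, h3⟩
    refine mem_center_of_scalar (c := m.1 0 0) ?_
    ext i j; fin_cases i <;> fin_cases j <;> simp [h1, h2, h3]
  · intro h
    obtain ⟨c, hc⟩ := scalar_of_mem_center h
    simp [hc]

theorem pow_mem_center {n k : ℕ} {R : Type*} [Field R] (x : Matrix.SpecialLinearGroup (Fin n) R) {c : R}
    (h : (x : Matrix (Fin n) (Fin n) R) ^ k = c • 1) :
    x ^ k ∈ Subgroup.center (Matrix.SpecialLinearGroup (Fin n) R) :=
  mem_center_of_scalar (c := c) (by rw [Matrix.SpecialLinearGroup.coe_pow]; exact h)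

section

variable {n : ℕ} {F₀ : Type u} [Field F₀] [Fintype F₀]

/-- A normal non-central subgroup of `SL_n(q)` contains elements of order `p` modulo the centre,
for every prime `p` dividing the order, other than the characteristic when the group is small. -/
theorem exists_mem_normal (hn : 2 ≤ n) {p : ℕ} [Fact p.Prime] (hp0 : (p : F₀) ≠ 0)
    (hdvd : p ∣ Nat.card (Matrix.SpecialLinearGroup (Fin n) F₀))
    (M : Subgroup (Matrix.SpecialLinearGroup (Fin n) F₀)) [M.Normal]
    (hM : ¬ M ≤ Subgroup.center _) :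
    ∃ t ∈ M, t ∉ Subgroup.center (Matrix.SpecialLinearGroup (Fin n) F₀) ∧
      t ^ p ∈ Subgroup.center (Matrix.SpecialLinearGroup (Fin n) F₀) := by
  classical
  have hp : p.Prime := Fact.out
  by_cases hsimple : n = 2 → ∃ a : F₀, a ≠ 0 ∧ a ^ 2 ≠ 1
  · haveI : Nontrivial (Fin n) := Fin.nontrivial_iff_two_le.mpr hn
    haveI := LinearGroup.isSimpleGroup_PSL' (ι := Fin n) (F := F₀) (by simpa using hsimple)
    -- some element has order `p` modulo the centre
    obtain ⟨z, hz1, hz2⟩ : ∃ z : Matrix.SpecialLinearGroup (Fin n) F₀,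
        z ∉ Subgroup.center _ ∧ z ^ p ∈ Subgroup.center _ := by
      obtain ⟨z, hz⟩ := exists_prime_orderOf_dvd_card' p hdvd
      by_cases hzc : z ∈ Subgroup.center (Matrix.SpecialLinearGroup (Fin n) F₀)
      swap
      · exact ⟨z, hzc, by rw [← hz, pow_orderOf_eq_one]; exact one_mem _⟩
      obtain ⟨ζ, hζ⟩ := scalar_of_mem_center hzc
      haveI : NeZero n := ⟨by omega⟩
      have hζp : ζ ^ p = 1 := by
        have h := congrArg (fun s : Matrix.SpecialLinearGroup (Fin n) F₀ => s.1 0 0)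
          (hz ▸ pow_orderOf_eq_one z)
        simpa [Matrix.SpecialLinearGroup.coe_pow, hζ, smul_pow] using h
      have hζ1 : ζ ≠ 1 := fun e => by
        have : z = 1 := Subtype.ext (by rw [hζ, e, one_smul]; rfl)
        rw [this, orderOf_one] at hz
        exact hp.one_lt.ne hz
      have hζ0 : ζ ≠ 0 := fun e => by rw [e, zero_pow hp.ne_zero] at hζp; exact zero_ne_one hζp
      let j1 : Fin n := ⟨1, by omega⟩
      have h01 : (0 : Fin n) ≠ j1 := fun h => by have := congrArg Fin.val h; simp [j1] at this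
      rcases hp.eq_two_or_odd' with rfl | hodd
      · by_cases hn2 : n = 2
        · subst hn2
          refine ⟨⟨!![0, 1; -1, 0], by simp [Matrix.det_fin_two]⟩, ?_, ?_⟩
          · intro h
            have := ((scalar_two_iff _).2 h).1
            simp at this
          · refine pow_mem_center _ (c := -1) ?_
            show (!![0, 1; -1, 0] : Matrix (Fin 2) (Fin 2) F₀) ^ 2 = _
            rw [pow_two]
            ext i j; fin_cases i <;> fin_cases j <;> simp [Matrix.mul_apply]
        · let j2 : Fin n := ⟨2, by omega⟩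
          let d : Fin n → F₀ := fun i => if i = 0 ∨ i = j1 then -1 else 1
          refine ⟨⟨Matrix.diagonal d, ?_⟩, ?_, ?_⟩
          · rw [Matrix.det_diagonal, ← Finset.mul_prod_erase _ _ (Finset.mem_univ (0 : Fin n)),
              ← Finset.mul_prod_erase _ _ (Finset.mem_erase.2 ⟨h01.symm, Finset.mem_univ j1⟩)]
            rw [Finset.prod_eq_one (s := (Finset.univ.erase (0 : Fin n)).erase j1)]
            · simp [d]
            · intro x hx
              simp only [Finset.mem_erase] at hx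
              simp [d, hx.1, hx.2.1]
          · intro h
            obtain ⟨c, hc⟩ := scalar_of_mem_center h
            have e0 := congrFun (congrFun hc 0) 0
            have e2 := congrFun (congrFun hc j2) j2
            have h20 : ¬ (j2 = 0 ∨ j2 = j1) := by
              rintro (h | h) <;> have := congrArg Fin.val h <;> simp [j1, j2] at this
            simp [d, h20] at e0 e2
            rw [← e2] at e0
            exact hp0 (by push_cast; linear_combination -e0)
          · refine pow_mem_center _ (c := 1) ?_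
            show Matrix.diagonal d ^ 2 = _
            rw [pow_two, Matrix.diagonal_mul_diagonal, one_smul,
              Matrix.diagonal_eq_one]
            funext i; simp [d]; split_ifs <;> simp
      · let d : Fin n → F₀ := fun i => if i = 0 then ζ else if i = j1 then ζ⁻¹ else 1
        refine ⟨⟨Matrix.diagonal d, ?_⟩, ?_, ?_⟩
        · rw [Matrix.det_diagonal, ← Finset.mul_prod_erase _ _ (Finset.mem_univ (0 : Fin n)),
            ← Finset.mul_prod_erase _ _ (Finset.mem_erase.2 ⟨h01.symm, Finset.mem_univ j1⟩)]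
          rw [Finset.prod_eq_one (s := (Finset.univ.erase (0 : Fin n)).erase j1)]
          · simp [d, h01.symm, hζ0]
          · intro x hx
            simp only [Finset.mem_erase] at hx
            simp [d, hx.1, hx.2.1]
        · intro h
          obtain ⟨c, hc⟩ := scalar_of_mem_center h
          have e0 := congrFun (congrFun hc 0) 0
          have e1 := congrFun (congrFun hc j1) j1
          simp [d, h01.symm] at e0 e1
          rw [← e0] at e1
          have h2 : ζ ^ 2 = 1 := by
            rw [pow_two]; nth_rw 1 [← e1]; exact inv_mul_cancel₀ hζ0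
          obtain ⟨k, rfl⟩ := hodd
          rw [pow_succ, pow_mul, h2, one_pow, one_mul] at hζp
          exact hζ1 hζp
        · refine pow_mem_center _ (c := 1) ?_
          show Matrix.diagonal d ^ p = _
          rw [Matrix.diagonal_pow, one_smul, Matrix.diagonal_eq_one]
          funext i
          simp only [Pi.pow_apply, d]
          split_ifs <;> simp [hζp, inv_pow]
    have hmap : M.map (QuotientGroup.mk' (Subgroup.center (Matrix.SpecialLinearGroup (Fin n) F₀))) = ⊤ := by
      refine ((Subgroup.Normal.map inferInstance _ (QuotientGroup.mk'_surjective _)).eq_bot_or_eq_top).resolve_left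
        fun h => hM fun t ht => ?_
      have : QuotientGroup.mk' _ t ∈ (⊥ : Subgroup (Matrix.SpecialLinearGroup (Fin n) F₀ ⧸ Subgroup.center _)) :=
        h ▸ Subgroup.mem_map_of_mem _ ht
      exact (QuotientGroup.eq_one_iff t).1 (Subgroup.mem_bot.1 this)
    obtain ⟨t, ht, hte⟩ := (hmap ▸ Subgroup.mem_top
      (QuotientGroup.mk' (Subgroup.center (Matrix.SpecialLinearGroup (Fin n) F₀)) z) :
      QuotientGroup.mk' _ z ∈ M.map _)
    refine ⟨t, ht, fun h => hz1 ?_, ?_⟩
    · exact (QuotientGroup.eq_one_iff z).1 (hte.symm.trans ((QuotientGroup.eq_one_iff t).2 h))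
    · rw [← QuotientGroup.eq_one_iff] at hz2 ⊢
      rw [QuotientGroup.mk_pow] at hz2 ⊢
      exact (congrArg (· ^ p) hte).trans hz2
  · push Not at hsimple
    obtain ⟨rfl, hsq⟩ := hsimple
    have hcard : Fintype.card F₀ = 2 ∨ Fintype.card F₀ = 3 := by
      have h1 : (Finset.univ : Finset F₀) ⊆ {0, 1, -1} := fun a _ => by
        by_cases ha : a = 0
        · simp [ha]
        · rcases sq_eq_one_iff.1 (hsq a ha) with h | h <;> simp [h]
      have h2 := (Finset.card_le_card h1).trans Finset.card_le_three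
      rw [Finset.card_univ] at h2
      have := Fintype.one_lt_card (α := F₀)
      omega
    obtain ⟨m, hm, hmc⟩ := Set.not_subset.1 hM
    have hp6 : ∀ q, Fintype.card F₀ = q → p ∣ Nat.card (Matrix.SpecialLinearGroup (Fin 2) (ZMod q)) ∧
        ((p : ℕ) : ZMod q) ≠ 0 := by
      intro q hq
      rcases hcard with h | h
      · obtain rfl : q = 2 := by omega
        have e := ZMod.ringEquivOfPrime F₀ Nat.prime_two h
        exact ⟨(Nat.card_congr (LinearGroup.slCongr (n := Fin 2) e).toEquiv).symm ▸ hdvd,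
          fun h0 => hp0 (by rw [← map_natCast e, h0, map_zero])⟩
      · obtain rfl : q = 3 := by omega
        have e := ZMod.ringEquivOfPrime F₀ Nat.prime_three h
        exact ⟨(Nat.card_congr (LinearGroup.slCongr (n := Fin 2) e).toEquiv).symm ▸ hdvd,
          fun h0 => hp0 (by rw [← map_natCast e, h0, map_zero])⟩
    rcases hcard with h | h
    · have e := LinearGroup.slCongr (n := Fin 2) (ZMod.ringEquivOfPrime F₀ Nat.prime_two h)
      have hmc' : e.symm m ∉ Subgroup.center _ := fun hc => hmc (by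
        rw [← e.apply_symm_apply m]
        exact Subgroup.mem_center_iff.2 fun g => by
          obtain ⟨g, rfl⟩ := e.surjective g
          rw [← map_mul, ← map_mul, Subgroup.mem_center_iff.1 hc g])
      obtain ⟨a, ha1, ha2⟩ := small_two _ fun hc => hmc' ((scalar_two_iff _).1 hc)
      obtain rfl : p = 3 := by
        obtain ⟨hd, h0⟩ := hp6 2 h
        have h6 : Nat.card (Matrix.SpecialLinearGroup (Fin 2) (ZMod 2)) = 6 := by
          rw [Nat.card_eq_fintype_card]; decide +kernel
        rw [h6] at hd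
        have := Nat.le_of_dvd (by norm_num) hd
        interval_cases p <;> first | rfl | (exfalso; revert hd h0; decide) | (exfalso; revert hp; decide)
      refine ⟨e (e.symm m * a * (e.symm m)⁻¹ * a⁻¹), ?_, ?_, ?_⟩
      · rw [map_mul, map_mul, map_mul, map_inv, map_inv, e.apply_symm_apply,
          mul_assoc m, mul_assoc m]
        exact M.mul_mem hm (Subgroup.Normal.conj_mem ‹M.Normal› _ (M.inv_mem hm) (e a))
      · intro hc
        refine ha1 ((scalar_two_iff _).2 (Subgroup.mem_center_iff.2 fun g => e.injective ?_))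
        exact (map_mul e g _).trans ((Subgroup.mem_center_iff.1 hc (e g)).trans (map_mul e _ g).symm)
      · rw [← map_pow, pow_succ, pow_two, ha2, map_one]
        exact one_mem _
    · have e := LinearGroup.slCongr (n := Fin 2) (ZMod.ringEquivOfPrime F₀ Nat.prime_three h)
      have hmc' : e.symm m ∉ Subgroup.center _ := fun hc => hmc (by
        rw [← e.apply_symm_apply m]
        exact Subgroup.mem_center_iff.2 fun g => by
          obtain ⟨g, rfl⟩ := e.surjective g
          rw [← map_mul, ← map_mul, Subgroup.mem_center_iff.1 hc g])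
      obtain ⟨a, ha1, ha2⟩ := small_three _ fun hc => hmc' ((scalar_two_iff _).1 hc)
      obtain rfl : p = 2 := by
        obtain ⟨hd, h0⟩ := hp6 3 h
        have h6 : Nat.card (Matrix.SpecialLinearGroup (Fin 2) (ZMod 3)) = 24 := by
          rw [Nat.card_eq_fintype_card]; decide +kernel
        rw [h6] at hd
        have := Nat.le_of_dvd (by norm_num) hd
        interval_cases p <;> first | rfl | (exfalso; revert hd h0; decide) | (exfalso; revert hp; decide)
      refine ⟨e (e.symm m * a * (e.symm m)⁻¹ * a⁻¹), ?_, ?_, ?_⟩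
      · rw [map_mul, map_mul, map_mul, map_inv, map_inv, e.apply_symm_apply,
          mul_assoc m, mul_assoc m]
        exact M.mul_mem hm (Subgroup.Normal.conj_mem ‹M.Normal› _ (M.inv_mem hm) (e a))
      · intro hc
        refine ha1 ((scalar_two_iff _).2 (Subgroup.mem_center_iff.2 fun g => e.injective ?_))
        exact (map_mul e g _).trans ((Subgroup.mem_center_iff.1 hc (e g)).trans (map_mul e _ g).symm)
      · have h2' := (scalar_two_iff _).1 ha2
        rw [← map_pow, pow_two]
        refine Subgroup.mem_center_iff.2 fun g => ?_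
        obtain ⟨g, rfl⟩ := e.surjective g
        rw [← map_mul, ← map_mul, Subgroup.mem_center_iff.1 h2' g]

end

variable {n : ℕ} {F : Type u} [Field F] [Fintype F]

/-- The properties of the fixed points of a standard field automorphism of order `p`. -/
theorem fix_hyps (hn : 2 ≤ n) {r : ℕ} [Fact r.Prime] [CharP F r] {p : ℕ} [Fact p.Prime] (hpr : p ≠ r)
    {σ : F ≃+* F} (hσ : orderOf σ = p) {φ : MulAut (Matrix.ProjectiveSpecialLinearGroup (Fin n) F)}
    (hφ : IsSemi 1 σ φ) :
    Fix φ ≠ ⊥ ∧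
      (∀ β : MulAut (Matrix.ProjectiveSpecialLinearGroup (Fin n) F), (∀ k ∈ Fix φ, β k = k) → β ^ p = 1) ∧
      (p ∣ Nat.card (Fix φ) → ∀ M : Subgroup (Matrix.ProjectiveSpecialLinearGroup (Fin n) F), M ≤ Fix φ →
        (∀ l ∈ Fix φ, ∀ a ∈ M, l * a * l⁻¹ ∈ M) → (Nat.card M).Coprime p → M = ⊥) := by
  classical
  have hp : p.Prime := Fact.out
  haveI : Nonempty (Fin n) := ⟨⟨0, by omega⟩⟩
  haveI : Nontrivial (Fin n) := Fin.nontrivial_iff_two_le.mpr hn
  let F₀ := (σ.toRingHom).eqLocusField (RingHom.id F)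
  let i : F₀ →+* F := F₀.subtype
  letI : Fintype F₀ := Fintype.ofFinite _
  let ψ : Matrix.SpecialLinearGroup (Fin n) F₀ →* Matrix.ProjectiveSpecialLinearGroup (Fin n) F :=
    (QuotientGroup.mk' _).comp (Matrix.SpecialLinearGroup.map i)
  have hψfix : ∀ t, ψ t ∈ Fix φ := fun t => by
    refine hφ _ _ ?_
    rw [act_apply, one_mul, inv_one, mul_one]
    exact Units.ext (Matrix.ext fun a b => ((t.1 a b).2).symm)
  have hψ1 : ∀ t, ψ t = 1 ↔ t ∈ Subgroup.center (Matrix.SpecialLinearGroup (Fin n) F₀) := by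
    intro t
    show (QuotientGroup.mk (Matrix.SpecialLinearGroup.map i t) :
      Matrix.ProjectiveSpecialLinearGroup (Fin n) F) = 1 ↔ _
    rw [QuotientGroup.eq_one_iff]
    constructor
    · intro h
      refine Subgroup.mem_center_iff.2 fun s => ?_
      have e := Subgroup.mem_center_iff.1 h (Matrix.SpecialLinearGroup.map i s)
      rw [← map_mul, ← map_mul] at e
      exact Subtype.ext (Matrix.ext fun a b => i.injective
        (congrArg (fun z : Matrix.SpecialLinearGroup (Fin n) F => z.1 a b) e))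
    · intro h
      obtain ⟨c, hc⟩ := scalar_of_mem_center h
      refine mem_center_of_scalar (c := i c) ?_
      ext a b
      show i (t.1 a b) = _
      rw [hc]
      by_cases hab : a = b <;> simp [hab]
  have hfixall : ∀ β : MulAut (Matrix.ProjectiveSpecialLinearGroup (Fin n) F),
      (∀ t, β (ψ t) = ψ t) → ∃ (c : Fˣ) (τ : F ≃+* F), IsSemi (scalarGL (Fin n) c) τ β ∧
        ∀ y, τ (i y) = i y := fun β hβ => semi_of_fix_rational hn i hβ
  refine ⟨fun e => ?_, fun β hβ => ?_, fun hdvd M hM hnor hcop => ?_⟩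
  · let a : Fin n → F₀ := Pi.single ⟨0, by omega⟩ 1
    let b : Fin n → F₀ := Pi.single ⟨1, by omega⟩ 1
    have hba : b ⬝ᵥ a = 0 := by
      have : (⟨1, by omega⟩ : Fin n) ≠ ⟨0, by omega⟩ := by simp
      simp [a, b, this]
    have h1 := hψfix (tau a b hba)
    rw [e, Subgroup.mem_bot, hψ1] at h1
    obtain ⟨c, hc⟩ := scalar_of_mem_center h1
    rw [tau_coe] at hc
    have e1 := congrFun (congrFun hc ⟨0, by omega⟩) ⟨1, by omega⟩
    simp [tauM, a, b, vecMulVec_apply] at e1
  · obtain ⟨c, τ, hs, hτ⟩ := hfixall β fun t => hβ _ (hψfix t)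
    have hτp : τ ^ p = 1 := hσ ▸ pow_eq_one_of_fixes fun y hy => hτ ⟨y, hy⟩
    exact semi_scalar_pow hτp hs
  -- order divisibility
  have hdvd0 : p ∣ Nat.card (Matrix.SpecialLinearGroup (Fin n) F₀) := by
    obtain ⟨f', hr', hF⟩ := FiniteField.card F r
    obtain ⟨f, hf, hF⟩ : ∃ f : ℕ, 1 ≤ f ∧ Fintype.card F = r ^ f := ⟨f', f'.pos, hF⟩
    have hF₀ : Fintype.card F₀ = r ^ (f / p) := by
      rw [← (card_fixed_eq hσ hr' hF hf).2, Fintype.card_eq_nat_card]; rfl
    obtain ⟨-, ⟨e⟩, -⟩ := field_centralizer hn hr' hF hf hφ hσ F₀ hF₀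
    have hZ := center_psl (F := F) hn
    let j : Fix φ →* ↥(Cfsg.inndiagPSL n F ⊓ Subgroup.centralizer {φ}) :=
      ((MulAut.conj : Matrix.ProjectiveSpecialLinearGroup (Fin n) F →* _).comp (Fix φ).subtype).codRestrict _
        fun k => by
          refine ⟨?_, (conj_comm_iff hZ).2 k.2⟩
          obtain ⟨s, hs'⟩ := QuotientGroup.mk_surjective (k : Matrix.ProjectiveSpecialLinearGroup (Fin n) F)
          rw [SetLike.mem_coe, ← pgl_range]
          exact ⟨rho n F s, by rw [pgl_rho, hs']; rfl⟩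
    have hj : Function.Injective j := fun a b h =>
      Subtype.ext (conj_injective hZ (congrArg Subtype.val h))
    have h1 := hdvd.trans ((Subgroup.card_dvd_of_injective j hj).trans (dvd_of_eq (Nat.card_congr e.toEquiv)))
    rwa [S0265.result n] at h1
  have hp0 : (p : F₀) ≠ 0 := fun h0 => by
    have h3 : (p : F) = 0 := by rw [← map_natCast i, h0, map_zero]
    exact hpr ((Nat.prime_dvd_prime_iff_eq Fact.out hp).1 ((CharP.cast_eq_zero_iff F r p).1 h3)).symm
  haveI : (M.comap ψ).Normal := ⟨fun a ha g => by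
    show ψ (g * a * g⁻¹) ∈ M
    rw [map_mul, map_mul, map_inv]
    exact hnor _ (hψfix g) _ ha⟩
  by_cases hcen : M.comap ψ ≤ Subgroup.center _
  swap
  · exfalso
    obtain ⟨t, ht, ht1, htp⟩ := exists_mem_normal hn hp0 hdvd0 (M.comap ψ) hcen
    replace ht : ψ t ∈ M := ht
    have ho : orderOf (⟨ψ t, ht⟩ : M) = p := by
      rw [Subgroup.orderOf_mk]
      refine orderOf_eq_prime ?_ fun h => ht1 ((hψ1 t).1 h)
      rw [← map_pow]; exact (hψ1 _).2 htp
    exact hp.coprime_iff_not_dvd.1 hcop.symm (ho ▸ orderOf_dvd_natCard (⟨ψ t, ht⟩ : M))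
  refine (Subgroup.eq_bot_iff_forall _).2 fun m hm => ?_
  obtain ⟨s, rfl⟩ := QuotientGroup.mk_surjective m
  -- `m` normalises, hence centralises, the rational subgroup
  have hcomm : ∀ t, MulAut.conj (QuotientGroup.mk s : Matrix.ProjectiveSpecialLinearGroup (Fin n) F) (ψ t) = ψ t := by
    intro t
    have hc : pgl n F (rho n F s) ∈ Subgroup.centralizer ({φ} : Set _) := by
      rw [pgl_rho]; exact (conj_comm_iff (center_psl hn)).2 (hM hm)
    obtain ⟨g₀, d, hg₀, hgd⟩ := (comm_field_iff hn hφ _).1 hc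
    have hpgl : pgl n F g₀ = MulAut.conj (QuotientGroup.mk s : Matrix.ProjectiveSpecialLinearGroup (Fin n) F) := by
      rw [← pgl_rho, hgd, map_mul, pgl_scalar, mul_one]
    let T : Matrix (Fin n) (Fin n) F₀ := Matrix.of fun a b =>
      ⟨(act g₀ 1 (rho n F (Matrix.SpecialLinearGroup.map i t)) : Matrix (Fin n) (Fin n) F) a b, by
        have h1 : fieldMap σ (act g₀ 1 (rho n F (Matrix.SpecialLinearGroup.map i t))) =
            act g₀ 1 (rho n F (Matrix.SpecialLinearGroup.map i t)) := by
          have ht : fieldMap σ (rho n F (Matrix.SpecialLinearGroup.map i t)) =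
              rho n F (Matrix.SpecialLinearGroup.map i t) :=
            Units.ext (Matrix.ext fun a b => (t.1 a b).2)
          rw [act_apply, fieldMap_one, map_mul, map_mul, map_inv, hg₀, ht]
        exact congrArg (fun g : GL (Fin n) F => (g : Matrix (Fin n) (Fin n) F) a b) h1⟩
    have hT : T.map i = (act g₀ 1 (rho n F (Matrix.SpecialLinearGroup.map i t)) : Matrix (Fin n) (Fin n) F) := rfl
    obtain ⟨s', hs'⟩ := normalises_psl g₀ 1 (Matrix.SpecialLinearGroup.map i t)
    have hdet : T.det = 1 := i.injective (by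
      rw [RingHom.map_det, map_one]
      show (T.map i).det = 1
      rw [hT, ← hs', rho_coe]; exact s'.2)
    have himg : MulAut.conj (QuotientGroup.mk s : Matrix.ProjectiveSpecialLinearGroup (Fin n) F) (ψ t) =
        ψ ⟨T, hdet⟩ := by
      rw [← hpgl]
      exact isSemi_pgl g₀ _ (Matrix.SpecialLinearGroup.map i ⟨T, hdet⟩) (Units.ext hT)
    obtain ⟨T', hT'⟩ : ∃ T' : Matrix.SpecialLinearGroup (Fin n) F₀, T' = ⟨T, hdet⟩ := ⟨_, rfl⟩
    replace himg : MulAut.conj (QuotientGroup.mk s : Matrix.ProjectiveSpecialLinearGroup (Fin n) F) (ψ t) =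
        ψ T' := by rw [hT']; exact himg
    have hmem : T' * t⁻¹ ∈ M.comap ψ := by
      show ψ (T' * t⁻¹) ∈ M
      rw [map_mul, map_inv, ← himg, MulAut.conj_apply, mul_assoc _ (ψ t), mul_assoc]
      simpa only [mul_assoc] using M.mul_mem hm (hnor _ (hψfix t) _ (M.inv_mem hm))
    have h1 := (hψ1 _).2 (hcen hmem)
    rw [map_mul, map_inv, mul_inv_eq_one] at h1
    rw [himg, h1]
  obtain ⟨c, τ, hs, -⟩ := hfixall _ hcomm
  obtain ⟨-, d, -, hd⟩ := IsSemi.unique hn (conj_mk_isSemi s) hs
  rw [rho_coe, scalarGL_coe, smul_smul] at hd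
  exact (QuotientGroup.eq_one_iff _).2 (mem_center_of_scalar hd)

end Cfsg.Agent.LocalEven61.PSLBalance
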