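import Cfsg.Agent.LocalEven61.PSUBalanceBasic
import Cfsg.Agent.LocalEven61.Balance
import Cfsg.Agent.LocalEven61.FormGeomOdd
import Cfsg.Agent.LocalEven61.FormGeomAlt
import Cfsg.Agent.LocalEven61.Semilinear

/-!
Graph involutions of `PSU_n(q)`, `q` odd: the centraliser has trivial odd core and the fixed
group has even order.
-/

set_option autoImplicit false

namespace Cfsg.Agent.LocalEven61.PSUBalance

open Matrix Cfsg.Agent.Unitary
open Cfsg.Agent.AutPSU hiding app
open Cfsg.Agent.AutPSL (act act_apply act_coe fieldMap fieldMap_one scalarGL scalarGL_coe scalarGL_mul_comm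
  tauM normGL)
open Cfsg.Agent.LocalEven61.PSLBalance (unipotent_eigen app_comm_of_act pow_eq_one_of_fixes)
open Cfsg.Agent.LocalEven61.FormGeom
open Cfsg.Agent.CG26.PSpLB (Fix conj_comm_iff conj_injective)

universe u

variable {n q : ℕ} {F : Type u} [Field F] [Fintype F] (hF : Fintype.card F = q ^ 2)

include hF

theorem semi_mul_pgu {g : GL (Fin n) F} (hg : g ∈ GU n F q) {σ : F ≃+* F}
    {γ : MulAut (PSU n F q)} (hγ : IsSemi g σ γ) (k : GU n F q) :
    γ * pgu n F q k = pgu n F q ⟨act g σ (k : GL (Fin n) F),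
      mul_mem (mul_mem hg (fieldMap_mem_GU k.2 σ)) (inv_mem hg)⟩ * γ := by
  obtain ⟨φ, hφ⟩ := AutPSL.exists_induced (S := SU n F q) rho_injective
    (normalises_psu (one_mem (GU n F q)) σ)
  have h1 := (isSemi_pgu ⟨g, hg⟩).comp (normalises_psu (one_mem (GU n F q)) σ) hφ
  rw [map_one, mul_one, one_mul] at h1
  have hγ' : γ = pgu n F q ⟨g, hg⟩ * φ := AutPSL.Induced.ext (normalises_psu hg σ) hγ h1
  have hk : (⟨act g σ (k : GL (Fin n) F), mul_mem (mul_mem hg (fieldMap_mem_GU k.2 σ)) (inv_mem hg)⟩ : GU n F q) =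
      ⟨g, hg⟩ * ⟨fieldMap σ (k : GL (Fin n) F), fieldMap_mem_GU k.2 σ⟩ * ⟨g, hg⟩⁻¹ := Subtype.ext rfl
  rw [hγ', mul_assoc, semi_comm_pgu hF hφ, hk, map_mul, map_mul, map_inv]
  group

theorem pgu_eq_iff (hn : 3 ≤ n) {g h : GU n F q} :
    pgu n F q g = pgu n F q h ↔ ∃ c : Fˣ, (g : GL (Fin n) F) = (h : GL (Fin n) F) * scalarGL _ c := by
  rw [eq_comm, ← inv_mul_eq_one (a := pgu n F q h), ← map_inv, ← map_mul, pgu_eq_one_iff hF hn]
  exact exists_congr fun c => inv_mul_eq_iff_eq_mul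

omit hF in
theorem normGL_conj (τ : F ≃+* F) (g a : GL (Fin n) F) (k : ℕ) :
    normGL τ (a⁻¹ * g * fieldMap τ a) k = a⁻¹ * normGL τ g k * fieldMap (τ ^ k) a := by
  induction k with
  | zero =>
    show (1 : GL (Fin n) F) = _
    rw [pow_zero, AutPSL.fieldMap_one, show normGL τ g 0 = 1 from rfl, mul_one, inv_mul_cancel]
  | succ k ih =>
    show a⁻¹ * g * fieldMap τ a * fieldMap τ (normGL τ (a⁻¹ * g * fieldMap τ a) k) =
      a⁻¹ * (g * fieldMap τ (normGL τ g k)) * fieldMap (τ ^ (k + 1)) a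
    rw [ih, map_mul, map_mul, map_inv, pow_succ', AutPSL.fieldMap_mul]
    group

theorem scalar_semi_eq_one {g : GL (Fin n) F} (hg : g ∈ GU n F q) {τ : F ≃+* F}
    {β : MulAut (PSU n F q)} (hs : IsSemi g τ β) (hτ : τ = 1) {c : Fˣ}
    (hc : g = scalarGL (Fin n) c) : β = 1 := by
  subst hτ
  exact AutPSL.Induced.ext (normalises_psu hg 1) hs (AutPSU.scalar_semi hF hc)

set_option maxHeartbeats 2000000 in
/-- The centraliser of a graph involution has trivial odd core; its fixed group has even order. -/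
theorem graph_core_bot (hn : 3 ≤ n) (h32 : ¬ (n = 3 ∧ q = 2)) (h2 : (2 : F) ≠ 0)
    {σ : F ≃+* F} (hσ : orderOf σ = 2) (hσq : ∀ x, σ x = x ^ q)
    {g : GL (Fin n) F} (hg : g ∈ GU n F q) {γ : MulAut (PSU n F q)} (hγ : IsSemi g σ γ)
    (ho : orderOf γ = 2) (A : Subgroup (MulAut (PSU n F q))) (hinn : ∀ k, MulAut.conj k ∈ A) :
    Cfsg.pPrimeCore 2 ↥(A ⊓ Subgroup.centralizer {γ}) = ⊥ ∧ 2 ∣ Nat.card (Fix γ) := by
  classical
  have hn2 : 2 ≤ n := by omega
  haveI : NeZero n := ⟨by omega⟩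
  haveI : Nonempty (Fin n) := ⟨0⟩
  have hZ := center_psu hF hn
  have hσ2 : σ * σ = 1 := by rw [← pow_two, ← hσ, pow_orderOf_eq_one]
  have hσσ : ∀ x, σ (σ x) = x := fun x => DFunLike.congr_fun hσ2 x
  have hmap : ∀ X : Matrix (Fin n) (Fin n) F, X.map (fun x => x ^ q) = X.map σ := fun X =>
    Matrix.ext fun a b => (hσq _).symm
  -- the scalar `g σ(g)`
  obtain ⟨hNU, hpw⟩ := IsSemi.pow hg hγ 2
  rw [← ho, pow_orderOf_eq_one, ho, show σ ^ 2 = 1 by rw [pow_two]; exact hσ2] at hpw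
  obtain ⟨-, u, hu⟩ := IsSemi.eq_one hF hn hNU hpw
  have hgσ : g * fieldMap σ g = scalarGL (Fin n) u := by
    rw [← hu]
    show g * fieldMap σ g = g * fieldMap σ (g * fieldMap σ 1)
    rw [map_one, mul_one]
  have hgram : (g : Matrix (Fin n) (Fin n) F)ᵀ * (g : Matrix (Fin n) (Fin n) F).map σ = 1 := by
    rw [← hmap]; exact (mem_GU_iff_gram hF).1 hg
  obtain ⟨G, hGd⟩ : ∃ G, G = (g : Matrix (Fin n) (Fin n) F) := ⟨_, rfl⟩
  obtain ⟨Gi, hGid⟩ : ∃ Gi, Gi = ((g⁻¹ : GL (Fin n) F) : Matrix (Fin n) (Fin n) F) := ⟨_, rfl⟩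
  have hGGi : G * Gi = 1 := by rw [hGd, hGid, ← Units.val_mul, mul_inv_cancel, Units.val_one]
  have hGiG : Gi * G = 1 := by rw [hGd, hGid, ← Units.val_mul, inv_mul_cancel, Units.val_one]
  obtain ⟨c, hcd⟩ : ∃ c : F, c = ((u⁻¹ : Fˣ) : F) := ⟨_, rfl⟩
  have hcu : c * (u : F) = 1 := by rw [hcd, ← Units.val_mul, inv_mul_cancel, Units.val_one]
  have hσG : G.map σ = (u : F) • Gi := by
    have h := congrArg (fun x : GL (Fin n) F => Gi * (x : Matrix (Fin n) (Fin n) F)) hgσ
    simp only [Units.val_mul, scalarGL_coe, ← hGd, ← Matrix.mul_assoc, hGiG, Matrix.one_mul,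
      Matrix.mul_smul, Matrix.mul_one] at h
    rw [hGd]
    exact h
  have hGt : Gᵀ = c • G := by
    rw [← hGd, hσG, Matrix.mul_smul] at hgram
    have h := congrArg (fun X => c • (X * G)) hgram
    simp only [Matrix.smul_mul, Matrix.mul_assoc, hGiG, Matrix.mul_one, Matrix.one_mul, smul_smul,
      hcu, one_smul] at h
    exact h
  have hcc : c * c = 1 := by
    have h1 := congrArg Matrix.transpose hGt
    rw [Matrix.transpose_transpose, Matrix.transpose_smul, hGt, smul_smul] at h1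
    obtain ⟨i, j, hij⟩ : ∃ i j, G i j ≠ 0 := by
      by_contra hno
      push Not at hno
      exact g.ne_zero (hGd ▸ Matrix.ext hno)
    have := congrFun (congrFun h1 i) j
    rw [Matrix.smul_apply, smul_eq_mul] at this
    exact (mul_right_cancel₀ hij ((one_mul _).trans this)).symm
  have hGit : Giᵀ = c • Gi := by
    have h := congrArg (fun X => c • (X * Gi)) (show Giᵀ * Gᵀ = 1 by rw [← transpose_mul, hGGi, transpose_one])
    simp only [hGt, Matrix.mul_smul, Matrix.smul_mul, Matrix.mul_assoc, hGGi, Matrix.mul_one,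
      Matrix.one_mul, smul_smul, hcc, one_smul] at h
    exact h
  have hcσ : σ c = c := by
    rcases mul_self_eq_one_iff.1 hcc with h | h <;> simp [h]
  have hucσ : σ (u : F) = u := by
    have : (u : F) = c := by
      calc (u : F) = c * c * (u : F) := by rw [hcc, one_mul]
        _ = c := by rw [mul_assoc, hcu, mul_one]
    rw [this, hcσ]
  -- descent
  obtain ⟨d, hd⟩ := AutPSL.exists_norm_eq σ u⁻¹ (by rw [Units.val_inv_eq_inv_val, map_inv₀, hucσ])
  obtain ⟨a, ha⟩ := AutPSL.hilbert90 σ (g * scalarGL _ d) (by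
    rw [AutPSL.normGL_scalar, AutPSL.normGL_scalarGL, hd]
    rw [show normGL σ g (orderOf σ) = g * fieldMap σ g from by
      rw [hσ]
      show g * fieldMap σ (g * fieldMap σ 1) = _
      rw [map_one, mul_one], hgσ, ← map_mul, mul_inv_cancel]
    exact map_one _)
  have hga : g * fieldMap σ a = a * scalarGL _ d⁻¹ := by
    calc g * fieldMap σ a = g * scalarGL _ d * fieldMap σ a * scalarGL _ d⁻¹ := by
          rw [mul_assoc g (scalarGL _ d), scalarGL_mul_comm d, ← mul_assoc g, mul_assoc _ (scalarGL _ d),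
            ← map_mul, mul_inv_cancel]
          exact ((congrArg (g * fieldMap σ a * ·) (map_one _)).trans (mul_one _)).symm
      _ = a * scalarGL _ d⁻¹ := by rw [ha, inv_mul_cancel_right]
  obtain ⟨Am, hAd⟩ : ∃ Am, Am = (a : Matrix (Fin n) (Fin n) F) := ⟨_, rfl⟩
  obtain ⟨Ai, hAid⟩ : ∃ Ai, Ai = ((a⁻¹ : GL (Fin n) F) : Matrix (Fin n) (Fin n) F) := ⟨_, rfl⟩
  have hAAi : Am * Ai = 1 := by rw [hAd, hAid, ← Units.val_mul, mul_inv_cancel, Units.val_one]
  have hAiA : Ai * Am = 1 := by rw [hAd, hAid, ← Units.val_mul, inv_mul_cancel, Units.val_one]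
  have hAAi' : Am.map σ * Ai.map σ = 1 := by
    rw [← Matrix.map_mul, hAAi, Matrix.map_one _ (map_zero σ) (map_one σ)]
  have hσA : Am.map σ = ((d⁻¹ : Fˣ) : F) • (Gi * Am) := by
    have h := congrArg (fun x : GL (Fin n) F => Gi * (x : Matrix (Fin n) (Fin n) F)) hga
    simp only [Units.val_mul, scalarGL_coe, ← hGd, ← Matrix.mul_assoc, hGiG, Matrix.one_mul,
      Matrix.mul_smul, Matrix.mul_one, ← hAd] at h
    rw [hAd] at h ⊢
    exact h
  obtain ⟨H₀, hH₀⟩ : ∃ H₀, H₀ = Amᵀ * Am.map σ := ⟨_, rfl⟩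
  have hH₀t : H₀ᵀ = c • H₀ := by
    rw [hH₀, hσA, Matrix.mul_smul, Matrix.transpose_smul, Matrix.transpose_mul, Matrix.transpose_mul,
      Matrix.transpose_transpose, hGit, Matrix.mul_smul, Matrix.smul_mul, Matrix.mul_assoc, smul_comm]
  have hH₀σ : H₀.map σ = c • H₀ := by
    rw [← hH₀t, hH₀, Matrix.map_mul, Matrix.transpose_mul, Matrix.transpose_transpose, ← Matrix.transpose_map]
    congr 1
    exact Matrix.ext fun a b => hσσ _
  obtain ⟨κ, hκ0, hκ⟩ : ∃ κ : F, κ ≠ 0 ∧ σ κ = c * κ := by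
    rcases mul_self_eq_one_iff.1 hcc with h | h
    · exact ⟨1, one_ne_zero, by rw [h, map_one, one_mul]⟩
    · obtain ⟨θ, hθ0, hθ⟩ := exists_θ hF
      exact ⟨θ, hθ0, by rw [h, hσq]; linear_combination hθ⟩
  let F₀ := (σ.toRingHom).eqLocusField (RingHom.id F)
  let i : F₀ →+* F := F₀.subtype
  letI : Fintype F₀ := Fintype.ofFinite _
  have hfix : ∀ a b, σ ((κ⁻¹ • H₀) a b) = (κ⁻¹ • H₀) a b := fun a b => by
    have h := congrFun (congrFun hH₀σ a) b
    simp only [Matrix.map_apply, Matrix.smul_apply, smul_eq_mul] at h ⊢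
    rw [map_mul, map_inv₀, h, hκ]
    rcases mul_self_eq_one_iff.1 hcc with hc1 | hc1 <;> simp [hc1]
  let H₁ : Matrix (Fin n) (Fin n) F₀ := Matrix.of fun a b => ⟨(κ⁻¹ • H₀) a b, hfix a b⟩
  have hH₁ : H₁.map i = κ⁻¹ • H₀ := rfl
  have hH₀1 : H₀ = κ • H₁.map i := by rw [hH₁, smul_smul, mul_inv_cancel₀ hκ0, one_smul]
  have hdet : IsUnit H₁.det := by
    refine isUnit_iff_ne_zero.2 fun h => ?_
    have h' : (H₁.map i).det = 0 := by
      rw [show H₁.map i = i.mapMatrix H₁ from rfl, ← RingHom.map_det, h, map_zero]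
    rw [hH₁, Matrix.det_smul, hH₀, Matrix.det_mul, Matrix.det_transpose,
      show Am.map σ = σ.toRingHom.mapMatrix Am from rfl, ← RingHom.map_det] at h'
    have hA0 : Am.det ≠ 0 := hAd ▸ Matrix.GeneralLinearGroup.det_ne_zero a
    rcases mul_eq_zero.1 h' with h'' | h''
    · exact inv_ne_zero hκ0 (eq_zero_of_pow_eq_zero h'')
    · rcases mul_eq_zero.1 h'' with h3 | h3
      · exact hA0 h3
      · exact hA0 ((map_eq_zero σ.toRingHom).1 h3)
  have h20 : (2 : F₀) ≠ 0 := fun h => h2 (by rw [← map_ofNat i, h, map_zero])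
  -- base change
  let Ψ : GL (Fin n) F₀ →* GL (Fin n) F :=
    (MulAut.conj a).toMonoidHom.comp (Matrix.GeneralLinearGroup.map i)
  have hΨ : ∀ h, Ψ h = a * Matrix.GeneralLinearGroup.map i h * a⁻¹ := fun h => rfl
  have hiσ : ∀ X : Matrix (Fin n) (Fin n) F₀, (X.map i).map σ = X.map i := fun X =>
    Matrix.ext fun a b => (X a b).2
  have hΨgram : ∀ h : GL (Fin n) F₀,
      ((Ψ h : GL (Fin n) F) : Matrix (Fin n) (Fin n) F)ᵀ * ((Ψ h : GL (Fin n) F) : Matrix (Fin n) (Fin n) F).map σ =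
        Aiᵀ * (κ • ((h : Matrix (Fin n) (Fin n) F₀)ᵀ * H₁ * (h : Matrix (Fin n) (Fin n) F₀)).map i) * Ai.map σ := by
    intro h
    rw [hΨ, Units.val_mul, Units.val_mul, ← hAd, ← hAid,
      show ((Matrix.GeneralLinearGroup.map i h : GL (Fin n) F) : Matrix (Fin n) (Fin n) F) =
        (h : Matrix (Fin n) (Fin n) F₀).map i from rfl,
      Matrix.transpose_mul, Matrix.transpose_mul, Matrix.map_mul, Matrix.map_mul, hiσ, Matrix.map_mul,
      Matrix.map_mul, Matrix.transpose_map, hH₁]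
    simp only [Matrix.mul_smul, Matrix.smul_mul, smul_smul, mul_inv_cancel₀ hκ0, one_smul, hH₀,
      Matrix.mul_assoc]
  have hΨGU : ∀ h : GL (Fin n) F₀, IsSimil H₁ (1 : F₀ ≃+* F₀) h 1 → Ψ h ∈ GU n F q := by
    intro h hh
    rw [mem_GU_iff_gram hF, hmap, hΨgram]
    have e := mat_of_isSimil hh
    rw [show ⇑(1 : F₀ ≃+* F₀) = id from rfl, Matrix.map_id, one_smul] at e
    rw [e, ← hH₀1, hH₀, ← Matrix.mul_assoc, ← Matrix.transpose_mul, hAAi, Matrix.transpose_one,
      Matrix.one_mul, hAAi']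
  have hΨcomm : ∀ h, act g σ (Ψ h) = Ψ h := by
    intro h
    have hfix' : fieldMap σ (Matrix.GeneralLinearGroup.map i h) = Matrix.GeneralLinearGroup.map i h :=
      Units.ext (hiσ _)
    rw [act_apply, hΨ, map_mul, map_mul, map_inv, hfix']
    calc g * (fieldMap σ a * Matrix.GeneralLinearGroup.map i h * (fieldMap σ a)⁻¹) * g⁻¹
        = (g * fieldMap σ a) * Matrix.GeneralLinearGroup.map i h * (g * fieldMap σ a)⁻¹ := by group
      _ = _ := by
        rw [hga, mul_assoc a, scalarGL_mul_comm, _root_.mul_inv_rev]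
        group
  have hcomm : ∀ h (hh : IsSimil H₁ (1 : F₀ ≃+* F₀) h 1),
      pgu n F q ⟨Ψ h, hΨGU h hh⟩ * γ = γ * pgu n F q ⟨Ψ h, hΨGU h hh⟩ := fun h hh => by
    rw [semi_mul_pgu hF hg hγ]
    congr 2
    exact Subtype.ext (hΨcomm h).symm
  have hlift : ∀ h (hh : IsSimil H₁ (1 : F₀ ≃+* F₀) h 1), (h : Matrix (Fin n) (Fin n) F₀).det = 1 →
      ∃ s : SU n F q, rho n F q s = Ψ h ∧ piU n F q s ∈ Fix γ := by
    intro h hh hdet1
    obtain ⟨s, hs⟩ := (range_toGU (F := F) (n := n) (q := q)).ge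
      (show (⟨Ψ h, hΨGU h hh⟩ : GU n F q) ∈ (detGU : GU n F q →* Fˣ).ker from Units.ext (by
        show ((Ψ h : GL (Fin n) F) : Matrix (Fin n) (Fin n) F).det = 1
        rw [hΨ, Units.val_mul, Units.val_mul, Matrix.det_units_conj]
        show (i.mapMatrix (h : Matrix (Fin n) (Fin n) F₀)).det = 1
        rw [← RingHom.map_det, hdet1, map_one]))
    refine ⟨s, congrArg Subtype.val hs, (conj_comm_iff hZ).1 (Subgroup.mem_centralizer_singleton_iff.2 ?_)⟩
    rw [← pgu_rho, hs]
    exact hcomm h hh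
  have hsym : (c = 1 → (H₁.map (1 : F₀ ≃+* F₀))ᵀ = H₁) ∧ (c = -1 → H₁ᵀ = -H₁) := by
    have e : ∀ a b, i (H₁ b a) = c * i (H₁ a b) := fun a b => by
      show (κ⁻¹ • H₀) b a = c * (κ⁻¹ • H₀) a b
      have := congrFun (congrFun hH₀t a) b
      simp only [Matrix.transpose_apply, Matrix.smul_apply, smul_eq_mul] at this ⊢
      rw [this]; ring
    constructor <;> intro hc1 <;> ext a b
    · show i (H₁ b a) = i (H₁ a b)
      rw [e a b, hc1, one_mul]
    · rw [Matrix.transpose_apply, Matrix.neg_apply]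
      show i (H₁ b a) = i (-H₁ a b)
      rw [e a b, hc1, map_neg, neg_one_mul]
  refine ⟨Balance.core_two_bot hZ ?_ ?_ A hinn, ?_⟩
  · -- odd order automorphisms fixing the fixed points
    intro β _ hodd hβ
    obtain ⟨g', τ, hg', hs⟩ := AutPSU.exists_semi hF hn h32 β
    obtain ⟨k, hk⟩ : ∃ k, k = orderOf β := ⟨_, rfl⟩
    obtain ⟨hNk, hpk⟩ := IsSemi.pow hg' hs k
    rw [hk, pow_orderOf_eq_one, ← hk] at hpk
    obtain ⟨hτk, l, hl⟩ := IsSemi.eq_one hF hn hNk hpk
    obtain ⟨g'', hg''⟩ : ∃ g'', g'' = a⁻¹ * g' * fieldMap τ a := ⟨_, rfl⟩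
    have hl'' : ((normGL τ g'' k : GL (Fin n) F) : Matrix (Fin n) (Fin n) F) = (l : F) • 1 := by
      rw [hg'', normGL_conj, hτk, AutPSL.fieldMap_one, hl, ← scalarGL_mul_comm, mul_assoc,
        inv_mul_cancel, mul_one, scalarGL_coe]
    have htw : ∀ h (hh : IsSimil H₁ (1 : F₀ ≃+* F₀) h 1), (h : Matrix (Fin n) (Fin n) F₀).det = 1 →
        ∃ c' : F, ∀ x, app g'' τ ((h : Matrix (Fin n) (Fin n) F₀).map i *ᵥ x) =
          c' • ((h : Matrix (Fin n) (Fin n) F₀).map i *ᵥ app g'' τ x) := by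
      intro h hh hdet1
      obtain ⟨s, hsΨ, hsF⟩ := hlift h hh hdet1
      obtain ⟨c', hc'⟩ := act_of_semi hF hn2 hg' hs (hβ _ hsF)
      refine ⟨c', app_comm_of_act (X := Matrix.GeneralLinearGroup.map i h)
        (Y := Matrix.GeneralLinearGroup.map i h) ?_⟩
      have e : act g'' τ (Matrix.GeneralLinearGroup.map i h) = a⁻¹ * act g' τ (Ψ h) * a := by
        rw [hg'', act_apply, act_apply, hΨ, map_mul, map_mul, map_inv]
        group
      rw [e, Units.val_mul, Units.val_mul, ← hsΨ, hc', hsΨ, hΨ, Matrix.mul_smul, Matrix.smul_mul,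
        ← Units.val_mul, ← Units.val_mul]
      congr 2
      group
    have key : ∀ x : Fin n → F₀, ∃ ν : F, app g'' τ (⇑i ∘ x) = ν • (⇑i ∘ x) := by
      rcases mul_self_eq_one_iff.1 hcc with hc1 | hc1
      · refine lines_of_half_turns (hsym.1 hc1) (fun _ => rfl) hdet h20 hn i g'' τ ?_
        intro u' v hu hv huv x
        have hvu : bf H₁ (1 : F₀ ≃+* F₀) v u' = 0 := by
          rw [bf_swap (hsym.1 hc1) (fun _ => rfl), huv, map_zero]
        obtain ⟨h, hh⟩ : ∃ h, h = rfl' H₁ (1 : F₀ ≃+* F₀) u' hu * rfl' H₁ 1 v hv := ⟨_, rfl⟩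
        have hhm : (h : Matrix (Fin n) (Fin n) F₀) = rflM H₁ 1 u' * rflM H₁ 1 v := by rw [hh]; rfl
        have hsim : IsSimil H₁ (1 : F₀ ≃+* F₀) h 1 := by
          rw [hh]
          have := (rfl'_isSimil (hsym.1 hc1) (fun _ => rfl) hu).mul (rfl'_isSimil (hsym.1 hc1) (fun _ => rfl) hv)
          rwa [one_mul] at this
        obtain ⟨c', hc'⟩ := htw h hsim (by rw [hhm, Matrix.det_mul, rflM_det hu, rflM_det hv, neg_one_mul, neg_neg])
        rw [hhm] at hc'
        have hS : (rflM H₁ 1 u' * rflM H₁ 1 v) * (rflM H₁ 1 u' * rflM H₁ 1 v) = 1 := by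
          refine Matrix.ext_of_mulVec_single fun j => ?_
          rw [← mulVec_mulVec, one_mulVec, ← mulVec_mulVec, ← mulVec_mulVec]
          have hcm : ∀ z, rflM H₁ 1 v *ᵥ (rflM H₁ 1 u' *ᵥ z) = rflM H₁ 1 u' *ᵥ (rflM H₁ 1 v *ᵥ z) := fun z => by
            simp only [rflM_mulVec, bf_sub_left, bf_smul_left, huv, hvu, mul_zero, sub_zero]
            module
          rw [hcm, mulVec_mulVec _ (rflM _ 1 u') (rflM _ 1 u'), rflM_sq hu, one_mulVec, mulVec_mulVec,
            rflM_sq hv, one_mulVec]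
        have hSv : (rflM H₁ 1 u' * rflM H₁ 1 v).map i *ᵥ (⇑i ∘ v) = -(⇑i ∘ v) := by
          funext j
          rw [← RingHom.map_mulVec i _ v j, ← mulVec_mulVec, rflM_apply_self hv, mulVec_neg,
            rflM_apply_orth hvu, Pi.neg_apply, map_neg]
          rfl
        have hv0 : ⇑i ∘ v ≠ 0 := fun e => hv (by
          have : v = 0 := funext fun j => i.injective ((congrFun e j).trans (map_zero i).symm)
          rw [this]; exact bf_zero_left _)
        have hSi : (rflM H₁ 1 u' * rflM H₁ 1 v).map i * (rflM H₁ 1 u' * rflM H₁ 1 v).map i = 1 := by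
          rw [← Matrix.map_mul, hS, Matrix.map_one _ (map_zero i) (map_one i)]
        have := hc' x
        rw [sign_eq_one h2 g'' τ hSi hc' hv0 hSv (hk ▸ hodd) hτk hl'', one_smul] at this
        exact this
      · intro v
        have halt := hsym.2 hc1
        by_cases hv : v = 0
        · refine ⟨0, ?_⟩
          have e : ⇑i ∘ v = 0 := funext fun j => by rw [hv]; exact map_zero i
          rw [zero_smul, e]
          exact (congrArg _ (funext fun _ => map_zero τ)).trans (mulVec_zero _)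
        obtain ⟨b, hb⟩ : ∃ b, b = (1 : F₀) • (H₁ *ᵥ (⇑(1 : F₀ ≃+* F₀) ∘ v)) := ⟨_, rfl⟩
        have hb0 : b ≠ 0 := fun h => by
          obtain ⟨x, hx⟩ := exists_bf_eq (τ := (1 : F₀ ≃+* F₀)) hdet hv 1
          rw [hb, one_smul] at h
          rw [bf, h, dotProduct_zero] at hx
          exact zero_ne_one hx
        have hba : b ⬝ᵥ v = 0 := by
          rw [hb, one_smul, dotProduct_comm]
          exact bf_self_alt halt h20 v
        obtain ⟨c', hc'⟩ := htw (tr halt h20 v 1) (tr_isSimil halt h20 v 1) (trM_det halt h20 v 1)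
        have hS : ((tr halt h20 v 1 : GL (Fin n) F₀) : Matrix (Fin n) (Fin n) F₀).map i =
            tauM (⇑i ∘ v) (⇑i ∘ b) := by
          show (trM H₁ v 1).map i = _
          ext k l
          simp [trM, tauM, vecMulVec_apply, Matrix.one_apply, apply_ite i, hb]
        simp only [hS] at hc'
        have hdot : (⇑i ∘ b) ⬝ᵥ (⇑i ∘ v) = 0 := by rw [← RingHom.map_dotProduct, hba, map_zero]
        have hiv : ⇑i ∘ v ≠ 0 := fun e => hv (funext fun j => i.injective ((congrFun e j).trans (map_zero i).symm))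
        have hfixa : tauM (⇑i ∘ v) (⇑i ∘ b) *ᵥ (⇑i ∘ v) = ⇑i ∘ v := by
          rw [AutPSL.tauM_mulVec, hdot, zero_smul, add_zero]
        have e1 := hc' (⇑i ∘ v)
        rw [hfixa] at e1
        have hc0 : c' ≠ 0 := fun h0 => app_ne_zero g'' τ hiv (by rw [e1, h0, zero_smul])
        have hone : c' = 1 := by
          have := unipotent_eigen (k := c'⁻¹) hdot (app_ne_zero g'' τ hiv)
            (by rw [eq_inv_smul_iff₀ hc0]; exact e1.symm)
          simpa using this
        refine line_of_comm_tau i g'' τ (a := v) (b := b) hb0 fun x => ?_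
        rw [hc' x, hone, one_smul]
    obtain ⟨⟨e, he0, he⟩, hτ⟩ := scalar_of_lines i hn2 g'' τ key
    have hτ1 : τ = 1 := by
      have hd2 : orderOf τ ∣ 2 := orderOf_dvd_of_pow_eq_one
        (hσ ▸ pow_eq_one_of_fixes fun y hy => hτ ⟨y, hy⟩)
      have hdk : orderOf τ ∣ k := orderOf_dvd_of_pow_eq_one hτk
      exact orderOf_eq_one_iff.1 (Nat.eq_one_of_dvd_coprimes (Nat.coprime_two_left.2 (hk ▸ hodd)) hd2 hdk)
    obtain ⟨e', -, he'⟩ := AutPSL.exists_scalarGL he0 he
    refine scalar_semi_eq_one hF hg' hs hτ1 (c := e') ?_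
    rw [hτ1, AutPSL.fieldMap_one] at hg''
    calc g' = a * g'' * a⁻¹ := by rw [hg'']; group
      _ = scalarGL _ e' := by rw [he', ← scalarGL_mul_comm, mul_inv_cancel_right]
  · -- the fixed points have no normal subgroup of odd order
    intro M hM hinv hodd
    let X : Subgroup (GL (Fin n) F) :=
      { carrier := {x | ∃ s : SU n F q, piU n F q s ∈ M ∧ ∃ e : Fˣ, x = rho n F q s * scalarGL _ e}
        one_mem' := ⟨1, by rw [map_one]; exact one_mem M, 1, by
          rw [map_one, one_mul]; exact (map_one _).symm⟩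
        mul_mem' := by
          rintro _ _ ⟨s, hs, e, rfl⟩ ⟨s', hs', e', rfl⟩
          refine ⟨s * s', by rw [map_mul]; exact mul_mem hs hs', e * e', ?_⟩
          rw [map_mul, show scalarGL (Fin n) (e * e') = scalarGL _ e * scalarGL _ e' from map_mul _ _ _,
            mul_assoc, ← mul_assoc (scalarGL _ e), scalarGL_mul_comm e]
          group
        inv_mem' := by
          rintro _ ⟨s, hs, e, rfl⟩
          refine ⟨s⁻¹, by rw [map_inv]; exact inv_mem hs, e⁻¹, ?_⟩
          rw [_root_.mul_inv_rev, ← map_inv (rho n F q),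
            show scalarGL (Fin n) e⁻¹ = (scalarGL _ e)⁻¹ from map_inv _ _]
          rw [← show scalarGL (Fin n) e⁻¹ = (scalarGL _ e)⁻¹ from map_inv _ _, scalarGL_mul_comm] }
    set M' := X.comap Ψ with hM'
    have hsim : ∀ h ∈ M', ∃ μ, IsSimil H₁ (1 : F₀ ≃+* F₀) h μ := by
      rintro h ⟨s, -, e, hse⟩
      have hse' : Ψ h = rho n F q s * scalarGL _ e := hse
      have hsgram : (rho n F q s : Matrix (Fin n) (Fin n) F)ᵀ * (rho n F q s : Matrix (Fin n) (Fin n) F).map σ = 1 := by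
        rw [← hmap]; exact (mem_GU_iff_gram hF).1 (toGU s).2
      have h1 := hΨgram h
      rw [hse', Units.val_mul, scalarGL_coe, Matrix.mul_smul, Matrix.mul_one, Matrix.transpose_smul,
        Matrix.map_smul' σ _ _ (map_mul σ), Matrix.smul_mul, Matrix.mul_smul, smul_smul, hsgram] at h1
      have h3 := congrArg (fun X => Amᵀ * X * Am.map σ) h1
      simp only [Matrix.mul_smul, Matrix.smul_mul, Matrix.mul_one] at h3
      rw [show Amᵀ * (Aiᵀ * ((h : Matrix (Fin n) (Fin n) F₀)ᵀ * H₁ * (h : Matrix (Fin n) (Fin n) F₀)).map i *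
          Ai.map σ) * Am.map σ = (Amᵀ * Aiᵀ) * ((h : Matrix (Fin n) (Fin n) F₀)ᵀ * H₁ * (h : Matrix (Fin n) (Fin n) F₀)).map i *
          (Ai.map σ * Am.map σ) by simp only [Matrix.mul_assoc],
        ← Matrix.transpose_mul, hAiA, Matrix.transpose_one, Matrix.one_mul, ← Matrix.map_mul, hAiA,
        Matrix.map_one _ (map_zero σ) (map_one σ), Matrix.mul_one, ← hH₀, hH₀1, smul_smul] at h3
      have hμ : σ ((e : F) * σ (e : F)) = (e : F) * σ (e : F) := by rw [map_mul, hσσ, mul_comm]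
      refine ⟨⟨_, hμ⟩, isSimil_of_mat ?_⟩
      rw [show ⇑(1 : F₀ ≃+* F₀) = id from rfl, Matrix.map_id]
      refine Matrix.ext fun a b => i.injective ?_
      have h4 := congrFun (congrFun h3 a) b
      simp only [Matrix.smul_apply, Matrix.map_apply, smul_eq_mul] at h4
      rw [Matrix.smul_apply, smul_eq_mul, map_mul]
      show i _ = ((e : F) * σ (e : F)) * i (H₁ a b)
      exact mul_left_cancel₀ hκ0 (by rw [← h4]; ring)
    have hnorm : ∀ k, IsSimil H₁ (1 : F₀ ≃+* F₀) k 1 → ∀ h ∈ M', k * h * k⁻¹ ∈ M' := by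
      rintro k hk h ⟨s, hs, e, hse⟩
      obtain ⟨s', hs'⟩ := normalises_psu (hΨGU k hk) 1 s
      refine ⟨s', ?_, e, ?_⟩
      · have := hinv _ (hcomm k hk) _ hs
        rwa [show pgu n F q ⟨Ψ k, hΨGU k hk⟩ (piU n F q s) = piU n F q s' from
          isSemi_pgu ⟨Ψ k, hΨGU k hk⟩ s s' hs'] at this
      · rw [map_mul, map_mul, map_inv, hse, hs', act_apply, AutPSL.fieldMap_one]
        simp only [mul_assoc]
        rw [scalarGL_mul_comm e]
    have hpow : ∀ h ∈ M', ∃ k, Odd k ∧ ∃ c : F₀,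
        ((h ^ k : GL (Fin n) F₀) : Matrix (Fin n) (Fin n) F₀) = c • 1 := by
      rintro h ⟨s, hs, e, hse⟩
      refine ⟨Nat.card M, hodd, ?_⟩
      have h1 := congrArg Subtype.val (pow_card_eq_one' (x := (⟨piU n F q s, hs⟩ : M)))
      rw [SubmonoidClass.coe_pow, ← map_pow, OneMemClass.coe_one, piU, QuotientGroup.mk'_apply,
        QuotientGroup.eq_one_iff] at h1
      obtain ⟨r, hr⟩ := scalar_of_mem_center hF hn2 h1
      have h2' : Ψ (h ^ Nat.card M) = rho n F q (s ^ Nat.card M) * scalarGL _ e ^ Nat.card M := by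
        rw [map_pow, show Ψ h = _ from hse, map_pow, Commute.mul_pow (scalarGL_mul_comm e _).symm]
      have hsc : ∃ r' : F, ((Ψ (h ^ Nat.card M) : GL (Fin n) F) : Matrix (Fin n) (Fin n) F) = r' • 1 := by
        refine ⟨r * (e : F) ^ Nat.card M, ?_⟩
        rw [h2', Units.val_mul, hr, Units.val_pow_eq_pow_val, scalarGL_coe, smul_pow, one_pow,
          Matrix.smul_mul, Matrix.one_mul, smul_smul]
      obtain ⟨r', hr'⟩ := hsc
      have h4 : ((h ^ Nat.card M : GL (Fin n) F₀) : Matrix (Fin n) (Fin n) F₀).map i = r' • 1 := by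
        have h5 := congrArg (fun X => Ai * X * Am) hr'
        simp only [hΨ, Units.val_mul, ← hAd, ← hAid, ← Matrix.mul_assoc, hAiA, Matrix.one_mul,
          Matrix.mul_smul, Matrix.smul_mul, Matrix.mul_one] at h5
        rw [Matrix.mul_assoc, hAiA, Matrix.mul_one] at h5
        exact h5
      refine ⟨((h ^ Nat.card M : GL (Fin n) F₀) : Matrix (Fin n) (Fin n) F₀) 0 0, Matrix.ext fun a b => i.injective ?_⟩
      have h00 := congrFun (congrFun h4 0) 0
      have hab := congrFun (congrFun h4 a) b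
      simp only [Matrix.map_apply, Matrix.smul_apply, smul_eq_mul] at h00 hab ⊢
      rw [map_mul, hab, h00, Matrix.one_apply_eq, mul_one]
      by_cases e : a = b <;> simp [Matrix.one_apply, e]
    have hall : ∀ h ∈ M', ∃ c : F₀, (h : Matrix (Fin n) (Fin n) F₀) = c • 1 := by
      rcases mul_self_eq_one_iff.1 hcc with hc1 | hc1
      · exact scalar_of_odd_orth (hsym.1 hc1) (fun _ => rfl) hdet h20 hn M' hsim hnorm hpow
      · exact scalar_of_odd_alt (hsym.2 hc1) h20 hdet hn M' hsim hnorm hpow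
    refine (Subgroup.eq_bot_iff_forall _).2 fun m hm => ?_
    obtain ⟨s, rfl⟩ := QuotientGroup.mk_surjective m
    -- `a⁻¹ s a` is rational up to a scalar
    have hcs : pgu n F q (toGU s) * γ = γ * pgu n F q (toGU s) := by
      rw [pgu_rho]
      exact Subgroup.mem_centralizer_singleton_iff.1 ((conj_comm_iff hZ).2 (hM hm))
    rw [semi_mul_pgu hF hg hγ, mul_left_inj, eq_comm, pgu_eq_iff hF hn] at hcs
    obtain ⟨e, he⟩ := hcs
    obtain ⟨x, hx⟩ : ∃ x, x = a⁻¹ * rho n F q s * a := ⟨_, rfl⟩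
    have hσx : fieldMap σ x = x * scalarGL _ e := by
      have he' : g * fieldMap σ (rho n F q s) * g⁻¹ = rho n F q s * scalarGL _ e := he
      calc fieldMap σ x = (g * fieldMap σ a)⁻¹ * (g * fieldMap σ (rho n F q s) * g⁻¹) * (g * fieldMap σ a) := by
            rw [hx, map_mul, map_mul, map_inv]; group
        _ = (a * scalarGL _ d⁻¹)⁻¹ * (rho n F q s * scalarGL _ e) * (a * scalarGL _ d⁻¹) := by rw [hga, he']
        _ = (scalarGL _ d⁻¹)⁻¹ * (x * scalarGL _ e) * scalarGL _ d⁻¹ := by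
            rw [hx, _root_.mul_inv_rev]
            simp only [mul_assoc]
            rw [← mul_assoc (scalarGL _ e) a, scalarGL_mul_comm e a]
            simp only [mul_assoc]
        _ = x * scalarGL _ e := by
            rw [mul_assoc, ← scalarGL_mul_comm d⁻¹, inv_mul_cancel_left]
    have hNe : AutPSL.normU σ (orderOf σ) e = 1 := by
      have h := congrArg (fieldMap σ) hσx
      rw [map_mul, AutPSL.fieldMap_scalarGL, ← AutPSL.fieldMap_mul, hσ2, AutPSL.fieldMap_one, hσx, mul_assoc,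
        eq_comm, mul_eq_left, ← map_mul] at h
      have h' := AutPSL.scalarGL_injective (h.trans (map_one _).symm)
      apply Units.ext
      rw [hσ, AutPSL.normU_two]
      exact congrArg Units.val h'
    obtain ⟨d', hd'⟩ := AutPSL.exists_twist σ e hNe
    have hx' : fieldMap σ (x * scalarGL _ d') = x * scalarGL _ d' := by
      rw [map_mul, hσx, AutPSL.fieldMap_scalarGL, mul_assoc, ← map_mul, hd']
      congr 2
      exact div_mul_cancel d' _
    let T : Matrix (Fin n) (Fin n) F₀ := Matrix.of fun a b =>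
      ⟨((x * scalarGL _ d' : GL (Fin n) F) : Matrix (Fin n) (Fin n) F) a b,
        congrArg (fun g : GL (Fin n) F => (g : Matrix (Fin n) (Fin n) F) a b) hx'⟩
    have hT : T.map i = ((x * scalarGL _ d' : GL (Fin n) F) : Matrix (Fin n) (Fin n) F) := rfl
    have hTu : IsUnit T.det := by
      refine isUnit_iff_ne_zero.2 fun hz => ?_
      have h' : (T.map i).det = 0 := by
        rw [show T.map i = i.mapMatrix T from rfl, ← RingHom.map_det, hz, map_zero]
      rw [hT] at h'
      exact Matrix.GeneralLinearGroup.det_ne_zero _ h'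
    obtain ⟨h, hh⟩ : ∃ h, h = Matrix.GeneralLinearGroup.mk'' T hTu := ⟨_, rfl⟩
    have hΨh : Ψ h = rho n F q s * scalarGL _ d' := by
      rw [hΨ, hh, show Matrix.GeneralLinearGroup.map i (Matrix.GeneralLinearGroup.mk'' T hTu) = x * scalarGL _ d' from
        Units.ext hT, hx, mul_assoc a, mul_assoc (_ * a) (scalarGL _ d'), scalarGL_mul_comm d' a⁻¹]
      group
    obtain ⟨c', hc'⟩ := hall h ⟨s, hm, d', hΨh⟩
    refine (QuotientGroup.eq_one_iff _).2 (mem_center_of_scalar hF hn2 (r := i c' * ((d'⁻¹ : Fˣ) : F)) ?_)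
    have h5 : rho n F q s = Ψ h * scalarGL _ d'⁻¹ := by
      rw [hΨh, mul_assoc, ← map_mul, mul_inv_cancel]
      exact ((congrArg (rho n F q s * ·) (map_one _)).trans (mul_one _)).symm
    rw [h5, hΨ, Units.val_mul, Units.val_mul, Units.val_mul, scalarGL_coe,
      show ((Matrix.GeneralLinearGroup.map i h : GL (Fin n) F) : Matrix (Fin n) (Fin n) F) =
        (h : Matrix (Fin n) (Fin n) F₀).map i from rfl, hc', ← hAd, ← hAid,
      show ((c' • (1 : Matrix (Fin n) (Fin n) F₀)).map i) = i c' • (1 : Matrix (Fin n) (Fin n) F) from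
        Matrix.ext fun a b => by by_cases e : a = b <;> simp [Matrix.one_apply, e]]
    simp only [Matrix.mul_smul, Matrix.smul_mul, Matrix.mul_one, hAAi, smul_smul, mul_comm]
  · -- the fixed group has even order
    have heven : ∀ (h : GL (Fin n) F₀), IsSimil H₁ (1 : F₀ ≃+* F₀) h 1 →
        (h : Matrix (Fin n) (Fin n) F₀).det = 1 →
        (∀ k, Odd k → ∀ r : F₀, ((h ^ k : GL (Fin n) F₀) : Matrix (Fin n) (Fin n) F₀) ≠ r • 1) →
        2 ∣ Nat.card (Fix γ) := by
      intro h hh hdet1 hns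
      obtain ⟨s, hs, hsF⟩ := hlift h hh hdet1
      obtain ⟨k, hk⟩ : ∃ k, k = orderOf (⟨piU n F q s, hsF⟩ : Fix γ) := ⟨_, rfl⟩
      refine Nat.dvd_trans ?_ (orderOf_dvd_natCard (⟨piU n F q s, hsF⟩ : Fix γ))
      rw [← hk]
      by_contra hodd
      have hk1 : piU n F q (s ^ k) = 1 := by
        rw [map_pow]
        have := congrArg Subtype.val (pow_orderOf_eq_one (⟨piU n F q s, hsF⟩ : Fix γ))
        rw [hk]; exact this
      rw [piU, QuotientGroup.mk'_apply, QuotientGroup.eq_one_iff] at hk1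
      obtain ⟨r, hr⟩ := scalar_of_mem_center hF hn2 hk1
      rw [map_pow, hs, ← map_pow, hΨ, Units.val_mul, Units.val_mul, ← hAd, ← hAid] at hr
      have h5 := congrArg (fun X => Ai * X * Am) hr
      simp only [← Matrix.mul_assoc, hAiA, Matrix.one_mul, Matrix.mul_smul, Matrix.smul_mul,
        Matrix.mul_one] at h5
      rw [Matrix.mul_assoc, hAiA, Matrix.mul_one] at h5
      refine hns k (Nat.odd_iff.2 (by omega))
        (((h ^ k : GL (Fin n) F₀) : Matrix (Fin n) (Fin n) F₀) 0 0) (Matrix.ext fun a b => i.injective ?_)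
      have h00 := congrFun (congrFun h5 0) 0
      have hab := congrFun (congrFun h5 a) b
      have hval : ((Matrix.GeneralLinearGroup.map i (h ^ k) : GL (Fin n) F) : Matrix (Fin n) (Fin n) F) =
          ((h ^ k : GL (Fin n) F₀) : Matrix (Fin n) (Fin n) F₀).map i := rfl
      rw [hval] at h00 hab
      simp only [Matrix.map_apply, Matrix.smul_apply, smul_eq_mul] at h00 hab ⊢
      rw [map_mul, hab, h00, Matrix.one_apply_eq, mul_one]
      by_cases e : a = b <;> simp [Matrix.one_apply, e]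
    rcases mul_self_eq_one_iff.1 hcc with hc1 | hc1
    · have hs1 := hsym.1 hc1
      obtain ⟨v, hv⟩ := exists_aniso hs1 (fun _ => rfl) hdet h20 hn
      obtain ⟨w, hw, hwv⟩ := exists_aniso_orth hs1 (fun _ => rfl) hdet h20 hn (x := v)
      have hvw : bf H₁ (1 : F₀ ≃+* F₀) v w = 0 := by rw [bf_swap hs1 (fun _ => rfl), hwv, map_zero]
      obtain ⟨t, htv, htw', ht⟩ := exists_orth_pair hs1 (fun _ => rfl) hdet hn h20 hv hw hwv
      obtain ⟨h, hh⟩ : ∃ h, h = rfl' H₁ (1 : F₀ ≃+* F₀) w hw * rfl' H₁ 1 v hv := ⟨_, rfl⟩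
      have hhm : (h : Matrix (Fin n) (Fin n) F₀) = rflM H₁ 1 w * rflM H₁ 1 v := by rw [hh]; rfl
      refine heven h ?_ (by rw [hhm, Matrix.det_mul, rflM_det hw, rflM_det hv, neg_one_mul, neg_neg]) ?_
      · rw [hh]
        have := (rfl'_isSimil hs1 (fun _ => rfl) hw).mul (rfl'_isSimil hs1 (fun _ => rfl) hv)
        rwa [one_mul] at this
      · intro k hk r hr
        have happ : ∀ j, ((h ^ j : GL (Fin n) F₀) : Matrix (Fin n) (Fin n) F₀) *ᵥ v = (-1 : F₀) ^ j • v ∧
            ((h ^ j : GL (Fin n) F₀) : Matrix (Fin n) (Fin n) F₀) *ᵥ t = t := by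
          intro j
          induction j with
          | zero => simp
          | succ j ih =>
            rw [pow_succ', Units.val_mul, ← mulVec_mulVec, ← mulVec_mulVec, ih.1, ih.2, mulVec_smul, hhm,
              ← mulVec_mulVec, ← mulVec_mulVec, rflM_apply_self hv, mulVec_neg, rflM_apply_orth hvw,
              rflM_apply_orth htv, rflM_apply_orth htw', pow_succ, mul_neg_one, neg_smul, smul_neg]
            exact ⟨rfl, rfl⟩
        obtain ⟨e1, e2⟩ := happ k
        rw [hr, smul_mulVec, one_mulVec] at e1 e2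
        rw [hk.neg_one_pow] at e1
        have h3 : ((2 : F₀) * bf H₁ (1 : F₀ ≃+* F₀) v v) = 0 := by
          have f1 := congrArg (fun z => bf H₁ (1 : F₀ ≃+* F₀) z v) e1
          have f2 := congrArg (fun z => bf H₁ (1 : F₀ ≃+* F₀) z t) e2
          simp only [bf_smul_left] at f1 f2
          have hr1 : r = 1 := mul_right_cancel₀ ht (f2.trans (one_mul _).symm)
          rw [hr1] at f1
          linear_combination f1
        exact hv ((mul_eq_zero.1 h3).resolve_left h20)
    · have halt := hsym.2 hc1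
      obtain ⟨e, f, hef, -, -⟩ := exists_hyperbolic hdet hn
      refine heven (tr halt h20 f 2 * tr halt h20 e 1) ?_ ?_ fun k hk r =>
        odd_pow_ne_scalar halt h20 hdet hn hef (mul_one 2) hk r
      · have := (tr_isSimil halt h20 f 2).mul (tr_isSimil halt h20 e 1)
        rwa [one_mul] at this
      · rw [Units.val_mul, Matrix.det_mul]
        show (trM H₁ f 2).det * (trM H₁ e 1).det = 1
        rw [trM_det halt h20, trM_det halt h20, one_mul]

end Cfsg.Agent.LocalEven61.PSUBalance
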