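import Cfsg.Agent.LocalEven61.PSUBalanceField
import Cfsg.Agent.LocalEven61.PSUBalanceGraph

/-!
Failure of local balance for outer automorphisms of prime order of `PSU_n(q)`.
-/

set_option autoImplicit false

namespace Cfsg.Agent.LocalEven61.PSUBalance

open Matrix Cfsg.Agent.Unitary
open Cfsg.Agent.AutPSU hiding app
open Cfsg.Agent.CG26.PSpLB (Fix)

universe u

variable {n q : ℕ} {F : Type u} [Field F] [Fintype F]

theorem not_simple_three_two (hF : Fintype.card F = q ^ 2) (hK : IsSimpleGroup (PSU n F q)) :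
    ¬ (n = 3 ∧ q = 2) := by
  rintro ⟨rfl, rfl⟩
  obtain ⟨N, hNn, hN, -, ⟨ψ⟩⟩ := S0827.result (show Fintype.card F = 4 by rw [hF]; rfl)
  haveI := hK
  rcases hNn.eq_bot_or_eq_top with h | h
  · rw [h, Subgroup.card_bot] at hN
    exact absurd hN (by norm_num)
  · have h8 : Nat.card ((PSU 3 F 2) ⧸ N) = 8 := by
      rw [Nat.card_congr ψ.toEquiv, Nat.card_eq_fintype_card (α := QuaternionGroup 2)]; rfl
    rw [← Subgroup.index_eq_card, h, Subgroup.index_top] at h8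
    exact absurd h8 (by norm_num)

theorem criterion (hF : Fintype.card F = q ^ 2) (hn : 3 ≤ n) (h32 : ¬ (n = 3 ∧ q = 2))
    {r : ℕ} [hr : Fact r.Prime] [CharP F r]
    (A : Subgroup (MulAut (PSU n F q))) (hinn : ∀ k, MulAut.conj k ∈ A) {p : ℕ} [Fact p.Prime]
    (hpr : p ≠ r) (β : MulAut (PSU n F q)) (hord : orderOf β = p)
    (hnot : ¬ Cfsg.IsInnerDiagonalAutPSU β) :
    Cfsg.pPrimeCore p ↥(A ⊓ Subgroup.centralizer {β}) ≠ ⊥ ↔
      ((∃ γ φ : MulAut (PSU n F q), Cfsg.IsInnerDiagonalAutPSU γ ∧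
        (∃ σ : F ≃+* F, Cfsg.IsFieldAutPSUOf σ φ) ∧ β = φ.trans γ) ∧
        Nat.Coprime p (Nat.card (Fix β))) := by
  classical
  have hp : p.Prime := Fact.out
  have hp0 : (p : F) ≠ 0 := fun h0 => hpr
    ((Nat.prime_dvd_prime_iff_eq hr.out hp).1 ((CharP.cast_eq_zero_iff F r p).1 h0)).symm
  obtain ⟨g, σ, hg, hs⟩ := AutPSU.exists_semi hF hn h32 β
  obtain ⟨φ, hφ⟩ := AutPSL.exists_induced (S := SU n F q) rho_injective
    (normalises_psu (one_mem (GU n F q)) σ)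
  have h1 := (isSemi_pgu ⟨g, hg⟩).comp (normalises_psu (one_mem (GU n F q)) σ) hφ
  rw [map_one, mul_one, one_mul] at h1
  have hβ' : β = pgu n F q ⟨g, hg⟩ * φ := AutPSL.Induced.ext (normalises_psu hg σ) hs h1
  have hfield : ∃ γ φ' : MulAut (PSU n F q), Cfsg.IsInnerDiagonalAutPSU γ ∧
      (∃ τ : F ≃+* F, Cfsg.IsFieldAutPSUOf τ φ') ∧ β = φ'.trans γ :=
    ⟨pgu n F q ⟨g, hg⟩, φ, (isInnerDiagonal_iff _).2 ⟨g, hg, isSemi_pgu ⟨g, hg⟩⟩,
      ⟨σ, (isFieldAut_iff σ φ).2 hφ⟩, hβ'⟩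
  have hσ1 : σ ≠ 1 := fun e => hnot ((isInnerDiagonal_iff β).2 ⟨g, hg, e ▸ hs⟩)
  obtain ⟨hNU, hpw⟩ := IsSemi.pow hg hs p
  rw [← hord, pow_orderOf_eq_one, hord] at hpw
  have hσ : orderOf σ = p := orderOf_eq_prime (IsSemi.eq_one hF hn hNU hpw).1 hσ1
  obtain ⟨m, -, hm⟩ := FiniteField.card F r
  obtain ⟨f, -, hqf⟩ : ∃ f ≤ (m : ℕ), q = r ^ f :=
    (Nat.dvd_prime_pow hr.out).1 ⟨q, by rw [← hm, hF, pow_two]⟩
  have hf : 1 ≤ f := Nat.one_le_iff_ne_zero.2 fun e => by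
    have := two_le_q hF
    rw [hqf, e, pow_zero] at this
    omega
  have hF' : Fintype.card F = r ^ (2 * f) := by rw [hF, hqf, ← pow_mul, mul_comm]
  rcases hp.eq_two_or_odd' with rfl | hodd
  · -- graph type
    have h2 : (2 : F) ≠ 0 := by exact_mod_cast hp0
    have hσq : ∀ x, σ x = x ^ q := fun x => by
      rw [AutPSL.involution_eq_pow hσ hr.out hF' (by omega) x, Nat.mul_div_cancel_left f two_pos, hqf]
    obtain ⟨hcore, hdvd⟩ := graph_core_bot hF hn h32 h2 hσ hσq hg hs hord A hinn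
    refine iff_of_false (fun h => h hcore) fun h => ?_
    exact Nat.prime_two.coprime_iff_not_dvd.1 h.2 hdvd
  · -- field type
    let L : Subfield F := σ.toRingHom.eqLocusField (RingHom.id F)
    letI : Fintype L := Fintype.ofFinite L
    have hi : ∀ y : F, σ y = y ↔ ∃ z, L.subtype z = y :=
      fun y => ⟨fun h => ⟨⟨y, h⟩, rfl⟩, fun ⟨z, hz⟩ => hz ▸ z.2⟩
    obtain ⟨hdvd, hcard⟩ := AutPSL.card_fixed_eq hσ hr.out hF' (by omega)
    have hpf : p ∣ f := Nat.Coprime.dvd_of_dvd_mul_left (Nat.coprime_two_right.2 hodd) hdvd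
    have hF₀ : Fintype.card L = (r ^ (f / p)) ^ 2 := by
      rw [← Nat.card_eq_fintype_card, ← pow_mul, mul_comm, ← Nat.mul_div_assoc 2 hpf, ← hcard]
      rfl
    have hq : q = (r ^ (f / p)) ^ p := by rw [hqf, ← pow_mul, Nat.div_mul_cancel hpf]
    obtain ⟨η, -, hη⟩ := AutPSU.field_coset hF L.subtype hi hF₀ hodd hq hσ hn hφ
      ((mem_inndiag_iff _).2 ⟨⟨g, hg⟩, rfl⟩) (by rw [← hβ', hord])
    have hconj : η⁻¹ * β * η⁻¹⁻¹ = φ := by rw [hβ', hη]; group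
    obtain ⟨e1, e2, e3⟩ := fix_hyps hF L.subtype hi hF₀ hodd hq hσ hn hp0 hφ
    rw [Balance.core_iff_conj (center_psu hF hn) η⁻¹ (by rwa [hconj]) (by rwa [hconj])
      (by rwa [hconj]) A hinn]
    exact ⟨fun h => ⟨hfield, h⟩, fun h => h.2⟩

end Cfsg.Agent.LocalEven61.PSUBalance
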