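import Cfsg.Agent.AutPSU.FieldClass
import Cfsg.Agent.LocalEven61.PSLBalanceBasic

/-!
Automorphisms of `PSU_n(q)` fixing the subgroup over a subfield of odd index.
-/

set_option autoImplicit false

namespace Cfsg.Agent.LocalEven61.PSUBalance

open Matrix Cfsg.Agent.Unitary Cfsg.Agent.AutPSU
open Cfsg.Agent.AutPSL (act act_apply act_coe fieldMap scalarGL scalarGL_coe tauM tauM_mulVec exists_scalarGL
  Induced.ext normGL_scalarGL)
open Cfsg.Agent.LocalEven61.PSLBalance (unipotent_eigen app_comm_of_act pow_eq_one_of_fixes)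

universe u v

variable {n q : ℕ} {F : Type u} [Field F] [Fintype F] (hF : Fintype.card F = q ^ 2)

include hF

theorem scalar_of_mem_center (hn : 2 ≤ n) {s : SU n F q} (h : s ∈ Subgroup.center (SU n F q)) :
    ∃ r : F, (rho n F q s : Matrix (Fin n) (Fin n) F) = r • 1 := by
  obtain ⟨r, hr⟩ := (mem_center_iff hF hn).1 h
  exact ⟨r, Matrix.ext_of_mulVec_single fun i => by
    rw [Matrix.smul_mulVec, Matrix.one_mulVec]; exact hr _⟩

theorem mem_center_of_scalar (hn : 2 ≤ n) {s : SU n F q} {r : F}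
    (h : (rho n F q s : Matrix (Fin n) (Fin n) F) = r • 1) : s ∈ Subgroup.center (SU n F q) :=
  (mem_center_iff hF hn).2 ⟨r, fun x => by
    show (rho n F q s : Matrix (Fin n) (Fin n) F) *ᵥ x = _
    rw [h, Matrix.smul_mulVec, Matrix.one_mulVec]⟩

theorem act_of_semi (hn : 2 ≤ n) {g : GL (Fin n) F} (hg : g ∈ GU n F q) {τ : F ≃+* F}
    {β : MulAut (PSU n F q)} (hβ : IsSemi g τ β) {s t : SU n F q}
    (h : β (QuotientGroup.mk s) = QuotientGroup.mk t) :
    ∃ c : F, (act g τ (rho n F q s) : Matrix (Fin n) (Fin n) F) =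
      c • (rho n F q t : Matrix (Fin n) (Fin n) F) := by
  obtain ⟨s', hs'⟩ := normalises_psu hg τ s
  rw [hβ s s' hs'] at h
  obtain ⟨r, hr⟩ := (piU_eq_iff hF hn (s := t) (t := s')).1 h.symm
  refine ⟨r, ?_⟩
  rw [← hs']
  refine Matrix.ext_of_mulVec_single fun i => ?_
  rw [Matrix.smul_mulVec]
  exact hr _

theorem center_psu (hn : 3 ≤ n) : Subgroup.center (PSU n F q) = ⊥ := by
  refine (Subgroup.eq_bot_iff_forall _).2 fun m hm => ?_
  obtain ⟨s, rfl⟩ := QuotientGroup.mk_surjective m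
  have h1 : MulAut.conj (piU n F q s) = 1 := MulEquiv.ext fun y => by
    rw [MulAut.conj_apply, MulAut.one_apply, mul_inv_eq_iff_eq_mul]
    exact (Subgroup.mem_center_iff.1 hm y).symm
  rw [← pgu_rho] at h1
  obtain ⟨c, hc⟩ := (pgu_eq_one_iff hF hn).1 h1
  exact (QuotientGroup.eq_one_iff _).2 (mem_center_of_scalar hF (by omega) (r := (c : F)) (by
    rw [show rho n F q s = scalarGL (Fin n) c from hc, scalarGL_coe]))

theorem semi_scalar_pow (hn : 1 ≤ n) {c : Fˣ} (hc : scalarGL (Fin n) c ∈ GU n F q) {τ : F ≃+* F}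
    {k : ℕ} (hτ : τ ^ k = 1) {β : MulAut (PSU n F q)} (hβ : IsSemi (scalarGL (Fin n) c) τ β) :
    β ^ k = 1 := by
  obtain ⟨hN, h⟩ := IsSemi.pow hc hβ k
  rw [hτ, normGL_scalarGL] at h
  rw [normGL_scalarGL] at hN
  exact AutPSL.Induced.ext (normalises_psu hN 1) h (scalar_semi hF rfl)

section sub

variable {F₀ : Type v} [Field F₀] [Fintype F₀] {q₀ r : ℕ} (i : F₀ →+* F)
  (hF₀ : Fintype.card F₀ = q₀ ^ 2) (hr : Odd r) (hq : q = q₀ ^ r)

/-- Extension of scalars. -/
def suMap : SU n F₀ q₀ →* SU n F q :=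
  ((Matrix.SpecialLinearGroup.map i).comp (SU n F₀ q₀).subtype).codRestrict _ fun s =>
    (map_mem_GU_iff hF i hF₀ hr hq (Matrix.SpecialLinearGroup.toGL s.1)).2 s.2

theorem rho_suMap (s : SU n F₀ q₀) :
    (rho n F q (suMap hF i hF₀ hr hq s) : Matrix (Fin n) (Fin n) F) =
      (rho n F₀ q₀ s : Matrix (Fin n) (Fin n) F₀).map i := rfl

include hF₀ hr hq

/-- An automorphism fixing pointwise the subgroup over the small field is induced by a scalar and
an automorphism fixing the small field. -/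
theorem semi_of_fix_rational (hn : 3 ≤ n) (h32 : ¬ (n = 3 ∧ q = 2)) {β : MulAut (PSU n F q)}
    (hβ : ∀ t : SU n F₀ q₀,
      β (piU n F q (suMap hF i hF₀ hr hq t)) = piU n F q (suMap hF i hF₀ hr hq t)) :
    ∃ (c : Fˣ) (τ : F ≃+* F), scalarGL (Fin n) c ∈ GU n F q ∧ IsSemi (scalarGL (Fin n) c) τ β ∧
      ∀ y, τ (i y) = i y := by
  classical
  haveI : NeZero n := ⟨by omega⟩
  obtain ⟨g, τ, hg, hs⟩ := AutPSU.exists_semi hF hn h32 β
  obtain ⟨θ, hθ0, hθ⟩ := exists_θ hF₀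
  -- rational isotropic vectors are eigenvectors
  have hiso : ∀ u : Fin n → F₀, herm q₀ u u = 0 → u ≠ 0 →
      ∃ ν : F, FormGeom.app g τ (⇑i ∘ u) = ν • (⇑i ∘ u) := by
    intro u hu hu0
    have htau : (rho n F q (suMap hF i hF₀ hr hq (tv hF₀ hu hθ)) : Matrix (Fin n) (Fin n) F) =
        tauM (⇑i ∘ u) (⇑i ∘ (θ • fun j => u j ^ q₀)) := by
      rw [rho_suMap, show (rho n F₀ q₀ (tv hF₀ hu hθ) : Matrix (Fin n) (Fin n) F₀) =
        unitaryTransvection n q₀ u θ from coe_tv hF₀ hu hθ]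
      ext k l
      simp [unitaryTransvection, tauM, vecMulVec_apply, Matrix.one_apply, apply_ite i]
      ring
    obtain ⟨c, hc⟩ := act_of_semi hF (by omega) hg hs (hβ (tv hF₀ hu hθ))
    have key := app_comm_of_act hc
    simp only [htau] at key
    have hb0 : (θ • fun j => u j ^ q₀) ≠ 0 := by
      rw [smul_ne_zero_iff]
      exact ⟨hθ0, fun h => hu0 (funext fun j => (pow_q_eq_zero_iff hF₀).1 (congrFun h j))⟩
    have hdot : (⇑i ∘ (θ • fun j => u j ^ q₀)) ⬝ᵥ (⇑i ∘ u) = 0 := by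
      rw [← RingHom.map_dotProduct, smul_dotProduct, AutPSU.dot_pow, hu, smul_zero, map_zero]
    have hiu : ⇑i ∘ u ≠ 0 := fun e0 => hu0 (funext fun k => i.injective ((congrFun e0 k).trans (map_zero i).symm))
    have hfix : tauM (⇑i ∘ u) (⇑i ∘ (θ • fun j => u j ^ q₀)) *ᵥ (⇑i ∘ u) = ⇑i ∘ u := by
      rw [tauM_mulVec, hdot, zero_smul, add_zero]
    have e1 := key (⇑i ∘ u)
    rw [hfix] at e1
    have hc0 : c ≠ 0 := fun h0 => FormGeom.app_ne_zero g τ hiu (by rw [e1, h0, zero_smul])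
    have hc1 : c = 1 := by
      have := unipotent_eigen (k := c⁻¹) hdot (FormGeom.app_ne_zero g τ hiu)
        (by rw [eq_inv_smul_iff₀ hc0]; exact e1.symm)
      simpa using this
    refine FormGeom.line_of_comm_tau i g τ hb0 fun x => ?_
    rw [key x, hc1, one_smul]
  obtain ⟨S, e, f, h, hS, hcard⟩ := exists_frame (F := F₀) hF₀ hn
  obtain ⟨k, hk⟩ : (Sᶜ).Nonempty := Finset.card_pos.1 (by
    rw [Finset.card_compl, Fintype.card_fin, hcard]; omega)
  have hmap : ∀ x y : Fin n → F₀, herm q (⇑i ∘ x) (⇑i ∘ y) = i (herm q₀ x y) := fun x y => by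
    simp [herm, hermForm, map_sum, map_mul, AutPSU.map_pow_q hF i hF₀ hr hq]
  have happ : ∀ x y, herm q (FormGeom.app g τ x) (FormGeom.app g τ y) = τ (herm q x y) := fun x y =>
    herm_app hg τ x y
  obtain ⟨le, hle⟩ := hiso e h.ee h.e_ne
  obtain ⟨lf, hlf⟩ := hiso f h.ff ((h.swap hF₀).e_ne)
  have hie : ⇑i ∘ e ≠ 0 := fun e0 => h.e_ne (funext fun k => i.injective ((congrFun e0 k).trans (map_zero i).symm))
  have hif : ⇑i ∘ f ≠ 0 := fun e0 => (h.swap hF₀).e_ne (funext fun k => i.injective ((congrFun e0 k).trans (map_zero i).symm))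
  have hle0 : le ≠ 0 := fun h0 => FormGeom.app_ne_zero g τ hie (by rw [hle, h0, zero_smul])
  have hlf0 : lf ≠ 0 := fun h0 => FormGeom.app_ne_zero g τ hif (by rw [hlf, h0, zero_smul])
  -- the isotropic vectors `e + b f + w`
  have step : ∀ (w : Fin n → F₀) (b : F₀), Orth2 q₀ e f w → b + b ^ q₀ = -herm q₀ w w →
      FormGeom.app g τ (⇑i ∘ w) = le • (⇑i ∘ w) ∧ τ (i b) * lf = le * i b := by
    intro w b hw hb
    have hxiso : herm q₀ (e + b • f + w) (e + b • f + w) = 0 := by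
      simp only [herm_add_left, herm_add_right hF₀, herm_smul_left, herm_smul_right hF₀, h.ee, h.ff, h.ef,
        h.fe hF₀, hw.1, hw.2, herm_swap hF₀ w e, herm_swap hF₀ w f, zero_pow_q hF₀]
      linear_combination hb
    have hxne : e + b • f + w ≠ 0 := fun e0 => by
      have := congrArg (fun z => herm q₀ z f) e0
      simp [herm_add_left, herm_smul_left, h.ef, h.ff, hw.2] at this
    obtain ⟨ν, hν⟩ := hiso _ hxiso hxne
    have hsplit : ⇑i ∘ (e + b • f + w) = ⇑i ∘ e + i b • (⇑i ∘ f) + ⇑i ∘ w := by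
      rw [FormGeom.comp_add, FormGeom.comp_add, FormGeom.comp_smul]
    rw [hsplit, FormGeom.app_add, FormGeom.app_add, FormGeom.app_smul, hle, hlf] at hν
    have hTwe : herm q (FormGeom.app g τ (⇑i ∘ w)) (⇑i ∘ e) = 0 := by
      have := happ (⇑i ∘ w) (⇑i ∘ e)
      rw [hle, herm_smul_right hF, hmap, hw.1, map_zero, map_zero] at this
      exact (mul_eq_zero.1 this).resolve_left (pow_ne_zero _ hle0)
    have hTwf : herm q (FormGeom.app g τ (⇑i ∘ w)) (⇑i ∘ f) = 0 := by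
      have := happ (⇑i ∘ w) (⇑i ∘ f)
      rw [hlf, herm_smul_right hF, hmap, hw.2, map_zero, map_zero] at this
      exact (mul_eq_zero.1 this).resolve_left (pow_ne_zero _ hlf0)
    have e1 := congrArg (fun z => herm q z (⇑i ∘ f)) hν
    simp only [herm_add_left, herm_smul_left, hTwf, hmap, h.ef, h.ff, hw.2, map_zero, map_one, mul_zero,
      mul_one, add_zero] at e1
    have e2 := congrArg (fun z => herm q z (⇑i ∘ e)) hν
    simp only [herm_add_left, herm_smul_left, hTwe, hmap, h.ee, h.fe hF₀, hw.1, map_zero, map_one, mul_zero,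
      mul_one, add_zero, zero_add] at e2
    subst e1
    refine ⟨?_, e2⟩
    rw [smul_add, smul_add, smul_smul, smul_smul, e2, add_assoc, add_assoc, add_right_inj,
      add_right_inj] at hν
    exact hν
  have hwk : ∀ a : F₀, Orth2 q₀ e f (a • eI k) := fun a =>
    (hS _).2 (Submodule.smul_mem _ a (eI_mem_supp (Finset.mem_compl.1 hk)))
  have hb : ∀ b : F₀, τ (i b) * lf = le * i b := by
    intro b
    have ht : (-(b + b ^ q₀)) ^ q₀ = -(b + b ^ q₀) := by
      rw [neg_pow_q hF₀, add_pow_q hF₀, pow_q_pow_q hF₀, add_comm]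
    obtain ⟨a, ha⟩ := Unitary.exists_norm_eq hF₀ ht
    refine (step (a • eI k) b (hwk a) ?_).2
    rw [herm_smul_left, herm_smul_right hF₀, herm_eI_eI hF₀, if_pos rfl, mul_one, ← pow_succ', ha, neg_neg]
  have hlfe : lf = le := by simpa using hb 1
  have hw' : ∀ w, Orth2 q₀ e f w → FormGeom.app g τ (⇑i ∘ w) = le • (⇑i ∘ w) := by
    intro w hw
    obtain ⟨b, hb'⟩ := exists_b hF₀ w
    exact (step w b hw hb').1
  have hτ : ∀ y, τ (i y) = i y := fun y => mul_right_cancel₀ hle0 (by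
    have := hb y; rw [hlfe] at this; rw [this, mul_comm])
  obtain ⟨⟨c, hc0, hc⟩, -⟩ := FormGeom.scalar_of_lines i (by omega) g τ fun x => by
    refine ⟨le, ?_⟩
    rw [eq_prj (q := q₀) e f x, FormGeom.comp_add, FormGeom.comp_add, FormGeom.comp_smul,
      FormGeom.comp_smul, FormGeom.app_add, FormGeom.app_add, FormGeom.app_smul, FormGeom.app_smul,
      hτ, hτ, hle, hlf, hlfe, hw' _ (orth2_prj hF₀ h x)]
    module
  obtain ⟨d, -, hd⟩ := exists_scalarGL hc0 hc
  exact ⟨d, τ, hd ▸ hg, hd ▸ hs, hτ⟩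

end sub

end Cfsg.Agent.LocalEven61.PSUBalance
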