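import Cfsg.Agent.LocalEven61.PSUBalanceBasic
import Cfsg.Agent.LocalEven61.Balance
import Cfsg.Agent.Lib.Unitary.Simple
import Cfsg.Agent.S0827

/-!
The fixed points of a standard field automorphism of odd prime order on `PSU_n(q)`.
-/

set_option autoImplicit false

namespace Cfsg.Agent.LocalEven61.PSUBalance

open Matrix Cfsg.Agent.Unitary Cfsg.Agent.AutPSU
open Cfsg.Agent.AutPSL (act act_apply act_coe fieldMap fieldMap_one scalarGL scalarGL_coe)
open Cfsg.Agent.CG26.PSpLB (Fix conj_comm_iff conj_injective)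

universe u v

theorem quaternion_involution_unique : ∀ g : QuaternionGroup 2, g * g = 1 → g = 1 ∨ g = QuaternionGroup.a 2 := by
  decide

section normal

variable {n q : ℕ} {F : Type u} [Field F] [Fintype F] (hF : Fintype.card F = q ^ 2)

include hF

/-- A normal non-central subgroup of `SU_n(q)` contains elements of order `p` modulo the centre for
every odd prime `p`, other than the characteristic, dividing the order. -/
theorem exists_mem_normal (hn : 3 ≤ n) {p : ℕ} [Fact p.Prime] (hp2 : p ≠ 2) (hp0 : (p : F) ≠ 0)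
    (hdvd : p ∣ Nat.card (GU n F q)) (M : Subgroup (SU n F q)) [M.Normal]
    (hM : ¬ M ≤ Subgroup.center _) :
    ∃ t ∈ M, t ∉ Subgroup.center (SU n F q) ∧ t ^ p ∈ Subgroup.center (SU n F q) := by
  classical
  have hp : p.Prime := Fact.out
  haveI : NeZero n := ⟨by omega⟩
  obtain ⟨z, hz1, hz2⟩ : ∃ z : SU n F q, z ∉ Subgroup.center _ ∧ z ^ p ∈ Subgroup.center _ := by
    -- a root of unity of order `p` and norm one suffices
    have htorus : ∀ ζ : F, ζ ^ p = 1 → ζ ≠ 1 → ζ * ζ ^ q = 1 →
        ∃ z : SU n F q, z ∉ Subgroup.center _ ∧ z ^ p ∈ Subgroup.center _ := by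
      intro ζ hζp hζ1 hζn
      have hζ0 : ζ ≠ 0 := fun e => by rw [e, zero_pow hp.ne_zero] at hζp; exact zero_ne_one hζp
      let j1 : Fin n := ⟨1, by omega⟩
      have h01 : (0 : Fin n) ≠ j1 := fun h => by have := congrArg Fin.val h; simp [j1] at this
      let d : Fin n → F := fun i => if i = 0 then ζ else if i = j1 then ζ⁻¹ else 1
      obtain ⟨A, hA1, hA⟩ := exists_diagonal hF d fun i => by
        show (ite _ _ _ : F) * (ite _ _ _ : F) ^ q = 1
        split_ifs
        · exact hζn
        · rw [inv_pow, ← mul_inv, hζn, inv_one]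
        · rw [one_mul, one_pow]
      have hdet : ((A : GL (Fin n) F) : Matrix (Fin n) (Fin n) F).det = 1 := by
        rw [hA1, ← Finset.mul_prod_erase _ _ (Finset.mem_univ (0 : Fin n)),
          ← Finset.mul_prod_erase _ _ (Finset.mem_erase.2 ⟨h01.symm, Finset.mem_univ j1⟩),
          Finset.prod_eq_one (s := (Finset.univ.erase (0 : Fin n)).erase j1)]
        · simp [d, h01.symm, hζ0]
        · intro x hx
          simp only [Finset.mem_erase] at hx
          simp [d, hx.1, hx.2.1]
      obtain ⟨z, hz⟩ : ∃ z : SU n F q, ∀ x : Fin n → F, z • x = fun i => d i * x i := by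
        obtain ⟨z, hz⟩ := (range_toGU (F := F) (n := n) (q := q)).ge (show A ∈ (detGU : GU n F q →* Fˣ).ker from Units.ext hdet)
        exact ⟨z, fun x => by rw [← toGU_smul, hz]; exact hA x⟩
      refine ⟨z, fun hc => ?_, (mem_center_iff hF (by omega)).2 ⟨1, fun x => ?_⟩⟩
      · obtain ⟨r, hr⟩ := (mem_center_iff hF (by omega)).1 hc
        have e0 := congrFun ((hz _).symm.trans (hr (Pi.single 0 1))) 0
        have e1 := congrFun ((hz _).symm.trans (hr (Pi.single j1 1))) j1
        simp [d, h01.symm] at e0 e1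
        rw [← e0] at e1
        have h2 : ζ ^ 2 = 1 := by rw [pow_two]; nth_rw 1 [← e1]; exact inv_mul_cancel₀ hζ0
        obtain ⟨k, rfl⟩ := hp.odd_of_ne_two hp2
        rw [pow_succ, pow_mul, h2, one_pow, one_mul] at hζp
        exact hζ1 hζp
      · have hpow : ∀ k : ℕ, (z ^ k) • x = fun i => d i ^ k * x i := by
          intro k
          induction k with
          | zero => simp
          | succ k ih =>
            rw [pow_succ', mul_smul, ih, hz]
            funext i; ring
        rw [hpow, one_smul]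
        funext i
        simp only [d]
        split_ifs <;> simp [hζp, inv_pow]
    by_cases hq1 : p ∣ q + 1
    · have hd : p ∣ Nat.card Fˣ := by
        rw [Nat.card_units, Nat.card_eq_fintype_card, hF]
        refine hq1.trans ⟨q - 1, ?_⟩
        have := two_le_q hF
        rw [← Nat.sq_sub_sq q 1, one_pow]
      obtain ⟨ζ, hζ⟩ := exists_prime_orderOf_dvd_card' p hd
      obtain ⟨k, hk⟩ := hq1
      refine htorus ζ ?_ ?_ ?_
      · rw [← Units.val_pow_eq_pow_val, ← hζ, pow_orderOf_eq_one, Units.val_one]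
      · intro e
        rw [Units.val_eq_one.1 e, orderOf_one] at hζ
        exact hp.one_lt.ne hζ
      · rw [← pow_succ', hk, pow_mul, ← Units.val_pow_eq_pow_val, ← hζ, pow_orderOf_eq_one, Units.val_one,
          one_pow]
    · have hdvd' : p ∣ Nat.card (SU n F q) := by
        rw [← card_SU_mul hF (by omega)] at hdvd
        exact (hp.dvd_mul.1 hdvd).resolve_left hq1
      obtain ⟨z, hz⟩ := exists_prime_orderOf_dvd_card' p hdvd'
      by_cases hzc : z ∈ Subgroup.center (SU n F q)
      swap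
      · exact ⟨z, hzc, by rw [← hz, pow_orderOf_eq_one]; exact one_mem _⟩
      obtain ⟨r, hr⟩ := scalar_of_mem_center hF (by omega) hzc
      have hr0 : r ≠ 0 := fun h0 => by
        rw [h0, zero_smul] at hr
        exact (rho n F q z).ne_zero hr
      obtain ⟨u, hu0, hu⟩ := AutPSL.exists_scalarGL hr0 hr
      refine htorus r ?_ ?_ ?_
      · have e : rho n F q z ^ p = 1 := by rw [← map_pow, ← hz, pow_orderOf_eq_one, map_one]
        have e' := congrArg (fun x : GL (Fin n) F => (x : Matrix (Fin n) (Fin n) F) 0 0) e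
        simpa [Units.val_pow_eq_pow_val, hr, smul_pow] using e'
      · intro e1
        have : z = 1 := rho_injective (Units.ext (by rw [hr, e1, one_smul, map_one, Units.val_one]))
        rw [this, orderOf_one] at hz
        exact hp.one_lt.ne hz
      · have hmem : scalarGL (Fin n) u ∈ GU n F q := by rw [← hu]; exact z.2
        have h1 := (scalarGL_mem_GU hF (by omega) u).1 hmem
        rwa [hu0] at h1
  by_cases h32 : n = 3 ∧ q = 2
  · obtain ⟨rfl, rfl⟩ := h32
    have hF4 : Fintype.card F = 4 := by rw [hF]; rfl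
    obtain rfl : p = 3 := by
      have h216 : p ∣ 216 * 3 := by
        have h : Nat.card (GU 3 F 2) = 648 := by
          rw [Unitary.card_GU hF]; decide
        rw [h] at hdvd
        exact hdvd.trans (by norm_num)
      rw [show 216 * 3 = 2 ^ 3 * 3 ^ 4 by norm_num] at h216
      rcases hp.dvd_mul.1 h216 with h | h
      · exact absurd ((Nat.prime_dvd_prime_iff_eq hp Nat.prime_two).1 (hp.dvd_of_dvd_pow h)) hp2
      · exact (Nat.prime_dvd_prime_iff_eq hp Nat.prime_three).1 (hp.dvd_of_dvd_pow h)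
    -- some element of the image has order three
    set E := M.map (QuotientGroup.mk' (Subgroup.center (SU 3 F 2))) with hE
    by_cases h3 : 3 ∣ Nat.card E
    · obtain ⟨⟨e, t, ht, rfl⟩, he⟩ := exists_prime_orderOf_dvd_card' 3 h3
      replace he : orderOf (QuotientGroup.mk' (Subgroup.center (SU 3 F 2)) t) = 3 :=
        (orderOf_injective E.subtype E.subtype_injective _).trans he
      refine ⟨t, ht, fun hc => ?_, ?_⟩
      · rw [QuotientGroup.mk'_apply, (QuotientGroup.eq_one_iff t).2 hc, orderOf_one] at he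
        exact absurd he (by norm_num)
      · refine (QuotientGroup.eq_one_iff _).1 ?_
        show QuotientGroup.mk' (Subgroup.center (SU 3 F 2)) (t ^ 3) = 1
        rw [map_pow]
        exact orderOf_dvd_iff_pow_eq_one.1 he.dvd
    exfalso
    obtain ⟨N, hNn, hN, -, ⟨ψ⟩⟩ := S0827.result hF4
    haveI : E.Normal := Subgroup.Normal.map inferInstance _ (QuotientGroup.mk'_surjective _)
    have hEN : E ⊓ N = ⊥ := by
      apply Subgroup.eq_bot_of_card_eq
      have h9 : Nat.card ↥(E ⊓ N) ∣ 3 ^ 2 := by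
        rw [show 3 ^ 2 = Nat.card N by rw [hN]; norm_num]
        exact Subgroup.card_dvd_of_le inf_le_right
      have hcop : Nat.Coprime (Nat.card ↥(E ⊓ N)) (3 ^ 2) :=
        (((Nat.prime_three.coprime_iff_not_dvd).2 fun h =>
          h3 (h.trans (Subgroup.card_dvd_of_le inf_le_left))).symm).pow_right 2
      exact hcop.eq_one_of_dvd h9
    have hEne : E ≠ ⊥ := fun h => hM fun t ht => by
      have : QuotientGroup.mk' _ t ∈ (⊥ : Subgroup (SU 3 F 2 ⧸ Subgroup.center _)) :=
        h ▸ Subgroup.mem_map_of_mem _ ht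
      exact (QuotientGroup.eq_one_iff t).1 (Subgroup.mem_bot.1 this)
    have h72 : Nat.card (PSU 3 F 2) = 72 := by
      have h := Subgroup.card_eq_card_quotient_mul_card_subgroup N
      rw [hN, Nat.card_congr ψ.toEquiv, Nat.card_eq_fintype_card (α := QuaternionGroup 2), show Fintype.card (QuaternionGroup 2) = 8 from rfl] at h
      exact h
    have h2E : 2 ∣ Nat.card E := by
      by_contra h2
      refine hEne (Subgroup.eq_bot_of_card_eq _ ?_)
      have hd : Nat.card E ∣ 72 := h72 ▸ Subgroup.card_subgroup_dvd_card E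
      have hcop : Nat.Coprime (Nat.card E) 72 := by
        rw [show 72 = 2 ^ 3 * 3 ^ 2 by norm_num]
        exact Nat.Coprime.mul_right (((Nat.prime_two.coprime_iff_not_dvd).2 h2).symm.pow_right 3)
          (((Nat.prime_three.coprime_iff_not_dvd).2 h3).symm.pow_right 2)
      exact hcop.eq_one_of_dvd hd
    obtain ⟨⟨x, hxE⟩, hx⟩ := exists_prime_orderOf_dvd_card' 2 h2E
    replace hx : orderOf x = 2 := (orderOf_injective E.subtype E.subtype_injective _).trans hx
    -- every involution equals `x`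
    have huniq : ∀ y : PSU 3 F 2, orderOf y = 2 → y = x := by
      intro y hy
      have himg : ∀ y : PSU 3 F 2, orderOf y = 2 → ψ (QuotientGroup.mk y) = QuaternionGroup.a 2 := by
        intro y hy
        refine (quaternion_involution_unique _ ?_).resolve_left fun h => ?_
        · rw [← map_mul, ← QuotientGroup.mk_mul, ← pow_two, orderOf_dvd_iff_pow_eq_one.1 hy.dvd,
            QuotientGroup.mk_one, map_one]
        · rw [map_eq_one_iff _ ψ.injective, QuotientGroup.eq_one_iff] at h
          have := orderOf_dvd_natCard (⟨y, h⟩ : N)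
          rw [Subgroup.orderOf_mk, hy, hN] at this
          norm_num at this
      have hm : x⁻¹ * y ∈ N := QuotientGroup.eq.1 (ψ.injective ((himg x hx).trans (himg y hy).symm))
      have hcomm : x * (x⁻¹ * y) = x⁻¹ * y * x :=
        Subgroup.commute_of_normal_of_disjoint E N inferInstance hNn (disjoint_iff.2 hEN) x _ hxE hm
      have hxx : x * x = 1 := (pow_two x).symm.trans (orderOf_dvd_iff_pow_eq_one.1 hx.dvd)
      have hyy : y * y = 1 := (pow_two y).symm.trans (orderOf_dvd_iff_pow_eq_one.1 hy.dvd)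
      have hnn : (x⁻¹ * y) ^ 2 = 1 := by
        have e : y * y = x * x * (x⁻¹ * y) ^ 2 := by
          calc y * y = x * (x⁻¹ * y) * (x * (x⁻¹ * y)) := by group
            _ = x * ((x⁻¹ * y) * x) * (x⁻¹ * y) := by group
            _ = x * (x * (x⁻¹ * y)) * (x⁻¹ * y) := by rw [← hcomm]
            _ = _ := by rw [pow_two]; group
        rw [hyy, hxx, one_mul] at e
        exact e.symm
      have hd2 := orderOf_dvd_of_pow_eq_one hnn
      have hd9 := orderOf_dvd_natCard (⟨_, hm⟩ : N)
      rw [Subgroup.orderOf_mk, hN] at hd9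
      exact inv_mul_eq_one.1 (orderOf_eq_one_iff.1 (Nat.eq_one_of_dvd_coprimes (by norm_num) hd2 hd9)) |>.symm
    obtain ⟨S, e, f, h, -, -⟩ := exists_frame (F := F) hF (le_refl 3)
    obtain ⟨θ, hθ0, hθ⟩ := exists_θ hF
    have hinv : ∀ {u : Fin 3 → F} (hu : herm 2 u u = 0), u ≠ 0 → orderOf (piU 3 F 2 (tv hF hu hθ)) = 2 := by
      intro u hu hu0
      obtain ⟨v, -, -, huv⟩ := exists_partner hF (S := ∅) (u := u) (by simp [supp_empty]) hu hu0
      refine orderOf_eq_prime ?_ fun h1 => ?_
      · rw [← map_pow, show tv hF hu hθ ^ 2 = 1 from ?_, map_one]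
        refine rho_injective (FormGeom.gl_ext fun z => ?_)
        rw [map_pow, pow_two, map_one, Units.val_one, Matrix.one_mulVec, Units.val_mul, ← mulVec_mulVec]
        show tv hF hu hθ • (tv hF hu hθ • z) = z
        rw [tv_smul, tv_smul, herm_add_left, herm_smul_left, hu, mul_zero, add_zero]
        haveI : CharP F 2 := by
          haveI : Fact (Nat.Prime 2) := ⟨Nat.prime_two⟩
          exact charP_of_card_eq_prime_pow (show Fintype.card F = 2 ^ 2 from hF)
        have h2 : (2 : F) = 0 := CharTwo.two_eq_zero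
        linear_combination (norm := module) h2 • ((θ * herm 2 z u) • u)
      · rw [piU, QuotientGroup.mk'_apply, QuotientGroup.eq_one_iff, mem_center_iff hF (by norm_num)] at h1
        obtain ⟨r, hr⟩ := h1
        have e1 := hr u
        rw [tv_smul, hu, mul_zero, zero_smul, add_zero] at e1
        have e2 := hr v
        rw [tv_smul] at e2
        have hr1 : r = 1 := by
          by_contra hne
          have : (r - 1) • u = 0 := by rw [sub_smul, one_smul, ← e1, sub_self]
          exact (smul_eq_zero.1 this).elim (fun h => hne (sub_eq_zero.1 h)) hu0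
        rw [hr1, one_smul, add_eq_left, smul_eq_zero] at e2
        rcases e2 with h' | h'
        · rcases mul_eq_zero.1 h' with h'' | h''
          · exact hθ0 h''
          · rw [herm_swap hF u v, huv, one_pow] at h''
            exact one_ne_zero h''
        · exact hu0 h'
    have heq := (huniq _ (hinv h.ee h.e_ne)).trans (huniq _ (hinv h.ff (h.swap hF).e_ne)).symm
    obtain ⟨r, hr⟩ := (piU_eq_iff hF (by norm_num)).1 heq
    have e1 := hr e
    rw [tv_smul, tv_smul, h.ee, mul_zero, zero_smul, add_zero, h.ef, mul_one] at e1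
    have e2 := congrArg (fun z => herm 2 z e) e1
    simp only [herm_add_left, herm_smul_left, h.ee, h.fe hF, mul_zero, mul_one, zero_add] at e2
    exact hθ0 e2
  · haveI := Unitary.isSimpleGroup_PSU hF hn h32
    have hmap : M.map (QuotientGroup.mk' (Subgroup.center (SU n F q))) = ⊤ := by
      refine ((Subgroup.Normal.map inferInstance _ (QuotientGroup.mk'_surjective _)).eq_bot_or_eq_top).resolve_left
        fun h => hM fun t ht => ?_
      have : QuotientGroup.mk' _ t ∈ (⊥ : Subgroup (SU n F q ⧸ Subgroup.center _)) :=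
        h ▸ Subgroup.mem_map_of_mem _ ht
      exact (QuotientGroup.eq_one_iff t).1 (Subgroup.mem_bot.1 this)
    obtain ⟨t, ht, hte⟩ := (hmap ▸ Subgroup.mem_top (QuotientGroup.mk' (Subgroup.center (SU n F q)) z) :
      QuotientGroup.mk' _ z ∈ M.map _)
    refine ⟨t, ht, fun h => hz1 ?_, ?_⟩
    · exact (QuotientGroup.eq_one_iff z).1 (hte.symm.trans ((QuotientGroup.eq_one_iff t).2 h))
    · rw [← QuotientGroup.eq_one_iff] at hz2 ⊢
      rw [QuotientGroup.mk_pow] at hz2 ⊢
      exact (congrArg (· ^ p) hte).trans hz2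

end normal

variable {n q : ℕ} {F : Type u} [Field F] [Fintype F] (hF : Fintype.card F = q ^ 2)
  {σ : F ≃+* F} {F₀ : Type v} [Field F₀] [Fintype F₀] {q₀ p : ℕ}
  (i : F₀ →+* F) (hi : ∀ x : F, σ x = x ↔ ∃ y, i y = x) (hF₀ : Fintype.card F₀ = q₀ ^ 2)
  (hpo : Odd p) (hq : q = q₀ ^ p) (hσ : orderOf σ = p)

include hF hi hF₀ hpo hq hσ

/-- The properties of the fixed points of a standard field automorphism of odd order `p`. -/
theorem fix_hyps (hn : 3 ≤ n) [Fact p.Prime] (hp0 : (p : F) ≠ 0) {φ : MulAut (PSU n F q)}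
    (hφ : IsSemi 1 σ φ) :
    Fix φ ≠ ⊥ ∧
      (∀ β : MulAut (PSU n F q), (∀ k ∈ Fix φ, β k = k) → β ^ p = 1) ∧
      (p ∣ Nat.card (Fix φ) → ∀ M : Subgroup (PSU n F q), M ≤ Fix φ →
        (∀ l ∈ Fix φ, ∀ a ∈ M, l * a * l⁻¹ ∈ M) → (Nat.card M).Coprime p → M = ⊥) := by
  classical
  have hp : p.Prime := Fact.out
  have hp2 : p ≠ 2 := fun e => by rw [e] at hpo; exact absurd hpo (by decide)
  haveI : Nonempty (Fin n) := ⟨⟨0, by omega⟩⟩
  have h32 : ¬ (n = 3 ∧ q = 2) := by
    rintro ⟨-, h2⟩
    rw [hq] at h2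
    have h1 := two_le_q hF₀
    have h3 : 2 ≤ p := hp.two_le
    have : 2 ^ 2 ≤ q₀ ^ p := (Nat.pow_le_pow_left h1 2).trans (Nat.pow_le_pow_right (by omega) h3)
    omega
  let ψ : SU n F₀ q₀ →* PSU n F q := (piU n F q).comp (suMap hF i hF₀ hpo hq)
  have hψfix : ∀ t, ψ t ∈ Fix φ := fun t => by
    refine hφ _ _ ?_
    rw [act_apply, one_mul, inv_one, mul_one]
    exact Units.ext (Matrix.ext fun a b => ((hi _).2 ⟨_, rfl⟩).symm)
  have hψ1 : ∀ t, ψ t = 1 ↔ t ∈ Subgroup.center (SU n F₀ q₀) := by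
    intro t
    show (QuotientGroup.mk (suMap hF i hF₀ hpo hq t) : PSU n F q) = 1 ↔ _
    rw [QuotientGroup.eq_one_iff]
    constructor
    · intro h
      refine Subgroup.mem_center_iff.2 fun s => ?_
      have e := Subgroup.mem_center_iff.1 h (suMap hF i hF₀ hpo hq s)
      rw [← map_mul, ← map_mul] at e
      exact Subtype.ext (Subtype.ext (Matrix.ext fun a b => i.injective
        (congrArg (fun z : SU n F q => z.1.1 a b) e)))
    · intro h
      obtain ⟨c, hc⟩ := scalar_of_mem_center hF₀ (by omega) h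
      refine mem_center_of_scalar hF (by omega) (r := i c) ?_
      rw [rho_suMap, hc]
      ext a b
      by_cases hab : a = b <;> simp [hab]
  have hfixall : ∀ β : MulAut (PSU n F q), (∀ t, β (ψ t) = ψ t) →
      ∃ (c : Fˣ) (τ : F ≃+* F), scalarGL (Fin n) c ∈ GU n F q ∧ IsSemi (scalarGL (Fin n) c) τ β ∧
        ∀ y, τ (i y) = i y := fun β hβ => semi_of_fix_rational hF i hF₀ hpo hq hn h32 hβ
  refine ⟨fun e => ?_, fun β hβ => ?_, fun hdvd M hM hnor hcop => ?_⟩
  · obtain ⟨S, e', f, h, -, -⟩ := exists_frame (F := F₀) hF₀ hn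
    obtain ⟨θ, hθ0, hθ⟩ := exists_θ hF₀
    have h1 := hψfix (tv hF₀ h.ee hθ)
    rw [e, Subgroup.mem_bot, hψ1, mem_center_iff hF₀ (by omega)] at h1
    obtain ⟨r, hr⟩ := h1
    have e1 := congrArg (fun z => herm q₀ z f) (hr f)
    simp only [tv_smul, herm_add_left, herm_smul_left, h.ef, h.ff, h.fe hF₀, mul_one, mul_zero, zero_add] at e1
    exact hθ0 e1
  · obtain ⟨c, τ, hc, hs, hτ⟩ := hfixall β fun t => hβ _ (hψfix t)
    have hτp : τ ^ p = 1 := hσ ▸ PSLBalance.pow_eq_one_of_fixes fun y hy => by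
      obtain ⟨z, rfl⟩ := (hi y).1 hy; exact hτ z
    exact semi_scalar_pow hF (by omega) hc hτp hs
  have hdvd0 : p ∣ Nat.card (GU n F₀ q₀) := by
    obtain ⟨e⟩ := exists_centralizer_equiv hF i hi hF₀ hpo hq hσ hn hφ
    have hZ := center_psu hF hn
    let j : Fix φ →* ↥(inndiagPSU n F q ⊓ Subgroup.centralizer {φ}) :=
      ((MulAut.conj : PSU n F q →* _).comp (Fix φ).subtype).codRestrict _ fun k => by
        refine ⟨?_, (conj_comm_iff hZ).2 k.2⟩
        obtain ⟨s, hs'⟩ := QuotientGroup.mk_surjective (k : PSU n F q)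
        exact (mem_inndiag_iff _).2 ⟨toGU s, by rw [pgu_rho, piU, QuotientGroup.mk'_apply, hs']; rfl⟩
    have hj : Function.Injective j := fun a b h =>
      Subtype.ext (conj_injective hZ (congrArg Subtype.val h))
    exact (hdvd.trans ((Subgroup.card_dvd_of_injective j hj).trans (dvd_of_eq (Nat.card_congr e.toEquiv)))).trans
      (Subgroup.card_quotient_dvd_card _)
  have hp0' : (p : F₀) ≠ 0 := fun h0 => hp0 (by rw [← map_natCast i, h0, map_zero])
  haveI : (M.comap ψ).Normal := ⟨fun a ha g => by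
    show ψ (g * a * g⁻¹) ∈ M
    rw [map_mul, map_mul, map_inv]
    exact hnor _ (hψfix g) _ ha⟩
  by_cases hcen : M.comap ψ ≤ Subgroup.center _
  swap
  · exfalso
    obtain ⟨t, ht, ht1, htp⟩ := exists_mem_normal hF₀ hn hp2 hp0' hdvd0 (M.comap ψ) hcen
    replace ht : ψ t ∈ M := ht
    have ho : orderOf (⟨ψ t, ht⟩ : M) = p := by
      rw [Subgroup.orderOf_mk]
      refine orderOf_eq_prime ?_ fun h => ht1 ((hψ1 t).1 h)
      rw [← map_pow]; exact (hψ1 _).2 htp
    exact hp.coprime_iff_not_dvd.1 hcop.symm (ho ▸ orderOf_dvd_natCard (⟨ψ t, ht⟩ : M))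
  refine (Subgroup.eq_bot_iff_forall _).2 fun m hm => ?_
  obtain ⟨s, rfl⟩ := QuotientGroup.mk_surjective m
  have hcomm : ∀ t, MulAut.conj (piU n F q s) (ψ t) = ψ t := by
    intro t
    have hc : pgu n F q (toGU s) ∈ Subgroup.centralizer ({φ} : Set _) := by
      rw [pgu_rho]; exact (conj_comm_iff (center_psu hF hn)).2 (hM hm)
    obtain ⟨g₀, d, hg₀, hd1, hgd⟩ := (AutPSU.comm_field_iff hF i hi hF₀ hpo hq hσ hn hφ _).1 hc
    have hpgu : pgu n F q g₀ = MulAut.conj (piU n F q s) := by
      rw [← pgu_rho]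
      have hgg : toGU s = g₀ * ⟨scalarGL _ d, (scalarGL_mem_GU hF (by omega) d).2 hd1⟩ := Subtype.ext hgd
      rw [hgg, map_mul, show pgu n F q ⟨scalarGL _ d, (scalarGL_mem_GU hF (by omega) d).2 hd1⟩ = 1 from
        (pgu_eq_one_iff hF hn).2 ⟨d, rfl⟩, mul_one]
    obtain ⟨s', hs'⟩ := normalises_psu g₀.2 1 (suMap hF i hF₀ hpo hq t)
    have hrat : ∀ a b, ∃ y, i y = (rho n F q s' : Matrix (Fin n) (Fin n) F) a b := fun a b => by
      refine (hi _).1 ?_
      have h1 : fieldMap σ (rho n F q s') = rho n F q s' := by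
        have ht : fieldMap σ (rho n F q (suMap hF i hF₀ hpo hq t)) = rho n F q (suMap hF i hF₀ hpo hq t) :=
          Units.ext (Matrix.ext fun a b => (hi _).2 ⟨_, rfl⟩)
        rw [hs', act_apply, fieldMap_one, map_mul, map_mul, map_inv, hg₀, ht]
      exact congrArg (fun g : GL (Fin n) F => (g : Matrix (Fin n) (Fin n) F) a b) h1
    choose T hT using hrat
    have hTm : (Matrix.of T).map i = (rho n F q s' : Matrix (Fin n) (Fin n) F) := Matrix.ext hT
    have hdet : (Matrix.of T).det = 1 := i.injective (by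
      rw [RingHom.map_det, map_one]
      show ((Matrix.of T).map i).det = 1
      rw [hTm]; exact s'.1.2)
    obtain ⟨t', ht'⟩ : ∃ t' : SU n F₀ q₀, suMap hF i hF₀ hpo hq t' = s' := by
      refine ⟨⟨⟨Matrix.of T, hdet⟩, ?_⟩, rho_injective (Units.ext ?_)⟩
      · refine (map_mem_GU_iff hF i hF₀ hpo hq (Matrix.SpecialLinearGroup.toGL ⟨Matrix.of T, hdet⟩)).1 ?_
        have : Matrix.GeneralLinearGroup.map i (Matrix.SpecialLinearGroup.toGL ⟨Matrix.of T, hdet⟩) =
            rho n F q s' := Units.ext hTm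
        rw [this]; exact (toGU s').2
      · exact hTm
    have himg : MulAut.conj (piU n F q s) (ψ t) = ψ t' := by
      rw [← hpgu, show ψ t' = piU n F q s' from congrArg (piU n F q) ht']
      exact isSemi_pgu g₀ _ s' hs'
    have hmem : t' * t⁻¹ ∈ M.comap ψ := by
      show ψ (t' * t⁻¹) ∈ M
      rw [map_mul, map_inv, ← himg, MulAut.conj_apply, mul_assoc _ (ψ t), mul_assoc]
      have hm' : piU n F q s ∈ M := hm
      simpa only [mul_assoc] using M.mul_mem hm' (hnor _ (hψfix t) _ (M.inv_mem hm'))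
    have h1 := (hψ1 _).2 (hcen hmem)
    rw [map_mul, map_inv, mul_inv_eq_one] at h1
    rw [himg, h1]
  obtain ⟨c, τ, hc, hs, -⟩ := hfixall _ hcomm
  rw [← pgu_rho] at hs
  have h1 := AutPSU.isSemi_pgu (toGU s)
  have hcomp := AutPSL.Induced.comp (normalises_psu hc τ) (h1.inverse rho_injective (normalises_psu (toGU s).2 1)) hs
  rw [inv_mul_cancel] at hcomp
  obtain ⟨-, e, he⟩ := IsSemi.eq_one hF hn
    (mul_mem (fieldMap_mem_GU (inv_mem (toGU s).2) _) (fieldMap_mem_GU hc _)) hcomp
  refine (QuotientGroup.eq_one_iff _).2 (mem_center_of_scalar hF (by omega) (r := (c : F) * ((e⁻¹ : Fˣ) : F)) ?_)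
  simp only [inv_one, fieldMap_one] at he
  have e' : rho n F q s = scalarGL (Fin n) (c * e⁻¹) := by
    rw [show scalarGL (Fin n) (c * e⁻¹) = scalarGL (Fin n) c * (scalarGL (Fin n) e)⁻¹ by
      rw [← map_inv]; exact map_mul _ _ _]
    rw [inv_mul_eq_iff_eq_mul] at he
    show ((toGU s : GU n F q) : GL (Fin n) F) = _
    rw [eq_mul_inv_iff_mul_eq]
    exact he.symm
  rw [e', scalarGL_coe]
  rfl

end Cfsg.Agent.LocalEven61.PSUBalance
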