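import Cfsg.Agent.LocalEven61.PSLSylow
import Cfsg.Agent.LocalEven61.ModuleBound
import Cfsg.Agent.LocalEven61.FreeOrbitImage
import Cfsg.Agent.PLocalB.CenterThompson
import Cfsg.Agent.Lib.Transfer.Focal

/-!
Groups of characteristic `p` with a `PSL₂(q)` quotient and a Sylow subgroup in a unique maximal
subgroup: the structure of `Z(J(S))` used in pushing up.
-/

set_option autoImplicit false
set_option linter.style.haveILetI false

namespace Cfsg.Agent.LocalEven61

open Cfsg.Agent.PLocalB (abelianFamily)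

variable {G : Type*} [Group G] [Finite G] {p : ℕ} [Fact p.Prime]
variable {F : Type} [Field F] [Fintype F] {n : ℕ}

/-- The pushing-up hypothesis. -/
structure PUSetup (S : Sylow p G) (K : Subgroup G) [K.Normal] (F : Type) [Field F] [Fintype F]
    (n : ℕ) : Prop where
  charP_cond : Subgroup.centralizer (Cfsg.pCore p G : Set G) ≤ Cfsg.pCore p G
  unique_max : ∃! M : Subgroup G, IsCoatom M ∧ (S : Subgroup G) ≤ M
  one_le : 1 ≤ n
  card_field : Fintype.card F = p ^ n
  iso : Nonempty (G ⧸ K ≃* Matrix.ProjectiveSpecialLinearGroup (Fin 2) F)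

variable {S : Sylow p G} {K : Subgroup G} [K.Normal]

namespace PUSetup

/-- A normal subgroup meets `S` inside `O_p`, or generates `G` with it. -/
theorem inf_le_or_sup_eq_top (h : PUSetup S K F n) (N : Subgroup G) [N.Normal] :
    (S : Subgroup G) ⊓ N ≤ Cfsg.pCore p G ∨ N ⊔ (S : Subgroup G) = ⊤ := by
  obtain ⟨M, ⟨hM, hSM⟩, huniq⟩ := h.unique_max
  have key : ∀ L : Subgroup G, (S : Subgroup G) ≤ L → L = ⊤ ∨ L ≤ M := fun L hL => by
    rcases eq_top_or_exists_le_coatom L with hL' | ⟨M', hM', hLM'⟩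
    · exact Or.inl hL'
    · exact Or.inr (huniq M' ⟨hM', hL.trans hLM'⟩ ▸ hLM')
  rcases key (N ⊔ (S : Subgroup G)) le_sup_right with hNS | hNS
  · exact Or.inr hNS
  refine Or.inl ?_
  have hfr := PLocalB.normalizer_inf_sup_eq_top S N
  have hS : (S : Subgroup G) ≤ Subgroup.normalizer (((S : Subgroup G) ⊓ N : Subgroup G) : Set G) := by
    intro s hs
    rw [Subgroup.mem_normalizer_iff]
    intro x
    constructor
    · rintro ⟨hx, hxN⟩
      exact ⟨(S : Subgroup G).mul_mem ((S : Subgroup G).mul_mem hs hx) (inv_mem hs),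
        (inferInstance : N.Normal).conj_mem x hxN s⟩
    · rintro ⟨hx, hxN⟩
      refine ⟨?_, ?_⟩
      · have := (S : Subgroup G).mul_mem ((S : Subgroup G).mul_mem (inv_mem hs) hx) hs
        rwa [show s⁻¹ * (s * x * s⁻¹) * s = x by group] at this
      · have := (inferInstance : N.Normal).conj_mem _ hxN s⁻¹
        simpa [mul_assoc] using this
  rcases key _ hS with htop | hle
  · haveI : ((S : Subgroup G) ⊓ N).Normal := Subgroup.normalizer_eq_top_iff.1 htop
    exact Thompson.le_pCore inferInstance (S.2.to_le inf_le_left)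
  · exact absurd (top_le_iff.1 (hfr ▸ sup_le hle (le_sup_left.trans hNS))) hM.1

omit [Finite G] in
theorem charP_F (h : PUSetup S K F n) : CharP F p := charP_of_card_eq_prime_pow h.card_field

theorem exists_proj (h : PUSetup S K F n) :
    ∃ π : G →* Matrix.ProjectiveSpecialLinearGroup (Fin 2) F, Function.Surjective π ∧ π.ker = K := by
  obtain ⟨e⟩ := h.iso
  refine ⟨e.toMonoidHom.comp (QuotientGroup.mk' K), e.surjective.comp (QuotientGroup.mk'_surjective K), ?_⟩
  rw [MonoidHom.ker_comp_of_injective, QuotientGroup.ker_mk']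
  exact e.injective

theorem inf_ker_eq (h : PUSetup S K F n) :
    (S : Subgroup G) ⊓ K = Cfsg.pCore p G ∧ Cfsg.pCore p G ≤ K := by
  haveI := h.charP_F
  obtain ⟨π, hπ, hker⟩ := h.exists_proj
  have hQK : Cfsg.pCore p G ≤ K := by
    rw [← hker, ← Subgroup.map_eq_bot_iff]
    haveI : ((Cfsg.pCore p G).map π).Normal := Subgroup.Normal.map inferInstance π hπ
    exact psl_pCore_eq_bot (Thompson.isPGroup_pCore.map π)
  refine ⟨le_antisymm ((h.inf_le_or_sup_eq_top K).resolve_right fun htop => ?_)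
    (le_inf (Thompson.pCore_le_sylow S) hQK), hQK⟩
  obtain ⟨g, hg⟩ := psl_exists_sylow_ne (p := p) (F := F) (S.mapSurjective hπ)
  apply hg
  refine Sylow.ext ?_
  have h1 := congrArg (Subgroup.map π) htop
  rw [Subgroup.map_sup, (Subgroup.map_eq_bot_iff K).2 hker.ge, bot_sup_eq,
    Subgroup.map_top_of_surjective π hπ] at h1
  rw [sylow_smul_coe, Sylow.coe_mapSurjective, h1, Subgroup.map_top_of_surjective _ (MulAut.conj g).surjective]

/-- `q = |S : O_p(G)|`, and the bound for subgroups of `S`. -/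
theorem card_inf (h : PUSetup S K F n) {A : Subgroup G} (hA : A ≤ (S : Subgroup G)) :
    Nat.card ↥A ≤ Nat.card ↥(A ⊓ Cfsg.pCore p G) * p ^ n ∧
    (Nat.card ↥A = Nat.card ↥(A ⊓ Cfsg.pCore p G) * p ^ n →
      A ⊔ Cfsg.pCore p G = (S : Subgroup G)) := by
  haveI := h.charP_F
  obtain ⟨π, hπ, hker⟩ := h.exists_proj
  obtain ⟨hSK, hQK⟩ := h.inf_ker_eq
  have hcard : Nat.card ↥((S : Subgroup G).map π) = p ^ n := by
    rw [← Sylow.coe_mapSurjective hπ, psl_sylow_card, h.card_field]
  have hAQ : (π.comp A.subtype).ker = (A ⊓ Cfsg.pCore p G).subgroupOf A := by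
    ext ⟨x, hx⟩
    rw [MonoidHom.mem_ker, Subgroup.mem_subgroupOf]
    show π x = 1 ↔ x ∈ A ⊓ Cfsg.pCore p G
    rw [← MonoidHom.mem_ker, hker]
    exact ⟨fun hk => ⟨hx, hSK ▸ ⟨hA hx, hk⟩⟩, fun hk => hQK hk.2⟩
  have heq : Nat.card ↥A = Nat.card ↥(A ⊓ Cfsg.pCore p G) * Nat.card ↥(A.map π) := by
    rw [Subgroup.card_eq_card_quotient_mul_card_subgroup (π.comp A.subtype).ker,
      Nat.card_congr (QuotientGroup.quotientKerEquivRange _).toEquiv, MonoidHom.range_comp,
      Subgroup.range_subtype, mul_comm, hAQ,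
      Nat.card_congr (Subgroup.subgroupOfEquivOfLe (inf_le_left : A ⊓ _ ≤ A)).toEquiv]
  refine ⟨heq.trans_le (Nat.mul_le_mul_left _ (hcard ▸ Subgroup.card_le_of_le (Subgroup.map_mono hA))),
    fun he => le_antisymm (sup_le hA (Thompson.pCore_le_sylow S)) fun x hx => ?_⟩
  have h2 : A.map π = (S : Subgroup G).map π := Subgroup.eq_of_le_of_card_ge (Subgroup.map_mono hA)
    (le_of_eq (hcard.trans (Nat.eq_of_mul_eq_mul_left Nat.card_pos (he.symm.trans heq))))
  obtain ⟨a, ha, hax⟩ := h2.symm ▸ Subgroup.mem_map_of_mem π hx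
  have h3 : a⁻¹ * x ∈ Cfsg.pCore p G := hSK.le (Subgroup.mem_inf.2
    ⟨(S : Subgroup G).mul_mem ((S : Subgroup G).inv_mem (hA ha)) hx, by
      rw [← hker, MonoidHom.mem_ker, map_mul, map_inv, hax, inv_mul_cancel]⟩)
  rw [show x = a * (a⁻¹ * x) by group]
  exact Subgroup.mul_mem_sup ha h3

/-- A conjugate of `S` generating `G` together with `S`. -/
theorem sup_conj_eq_top (h : PUSetup S K F n) {g : G} {π : G →* Matrix.ProjectiveSpecialLinearGroup (Fin 2) F}
    (hπ : Function.Surjective π) (hker : π.ker = K)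
    (hg : π g • S.mapSurjective hπ ≠ S.mapSurjective hπ) :
    (S : Subgroup G) ⊔ (S : Subgroup G).map (MulAut.conj g).toMonoidHom = ⊤ := by
  haveI := h.charP_F
  obtain ⟨M, ⟨hM, hSM⟩, huniq⟩ := h.unique_max
  rcases eq_top_or_exists_le_coatom ((S : Subgroup G) ⊔ (S : Subgroup G).map (MulAut.conj g).toMonoidHom) with
    htop | ⟨M', hM', hle⟩
  · exact htop
  exfalso
  obtain rfl := huniq M' ⟨hM', le_sup_left.trans hle⟩
  have h1 := psl_sylow_sup_eq_top _ _ hg
  rw [sylow_smul_coe, Sylow.coe_mapSurjective, Subgroup.map_map,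
    show (MulAut.conj (π g)).toMonoidHom.comp π = π.comp (MulAut.conj g).toMonoidHom by ext x; simp,
    ← Subgroup.map_map, ← Subgroup.map_sup] at h1
  have h2 : M'.map π = ⊤ := top_le_iff.1 (h1.ge.trans (Subgroup.map_mono (sup_le (le_sup_right.trans hle) (le_sup_left.trans hle))))
  have h3 : K ≤ M' := by
    rcases eq_top_or_exists_le_coatom (K ⊔ (S : Subgroup G)) with hKS | ⟨M'', hM'', hle'⟩
    · exfalso
      have h4 := congrArg (Subgroup.map π) hKS
      rw [Subgroup.map_sup, (Subgroup.map_eq_bot_iff K).2 hker.ge, bot_sup_eq,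
        Subgroup.map_top_of_surjective π hπ] at h4
      exact hg (Sylow.ext (by rw [sylow_smul_coe, Sylow.coe_mapSurjective, h4,
        Subgroup.map_top_of_surjective _ (MulAut.conj (π g)).surjective]))
    · exact le_sup_left.trans (huniq M'' ⟨hM'', le_sup_right.trans hle'⟩ ▸ hle')
  exact hM.1 (by
    have := congrArg (Subgroup.comap π) h2
    rwa [Subgroup.comap_map_eq_self (hker ▸ h3), Subgroup.comap_top] at this)

theorem le_pCore_of_centralizes (h : PUSetup S K F n) {V : Subgroup G} [V.Normal]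
    (hne : ¬ V ⊓ Subgroup.centralizer ((S : Subgroup G) : Set G) ≤ Subgroup.center G) :
    (S : Subgroup G) ⊓ Subgroup.centralizer (V : Set G) ≤ Cfsg.pCore p G := by
  refine (h.inf_le_or_sup_eq_top _).resolve_right fun htop => hne fun v hv => ?_
  refine Subgroup.mem_center_iff.2 fun g => ?_
  have : (⊤ : Subgroup G) ≤ Subgroup.centralizer ({v} : Set G) := htop ▸ sup_le
    (fun c hc => Subgroup.mem_centralizer_singleton_iff.2
      (Subgroup.mem_centralizer_iff.1 hc v hv.1).symm)
    (fun s hs => Subgroup.mem_centralizer_singleton_iff.2 (Subgroup.mem_centralizer_iff.1 hv.2 s hs))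
  exact Subgroup.mem_centralizer_singleton_iff.1 (this (Subgroup.mem_top g))

/-- A normal `p`-subgroup on which `G` acts nontrivially is large. -/
theorem relIndex_bound (h : PUSetup S K F n) {V : Subgroup G} [V.Normal] (hVp : IsPGroup p ↥V)
    (hne : ¬ V ⊓ Subgroup.centralizer ((S : Subgroup G) : Set G) ≤ Subgroup.center G) :
    (∀ a ∈ (S : Subgroup G), a ∉ Cfsg.pCore p G →
      p ^ n ≤ (V ⊓ Subgroup.centralizer ({a} : Set G)).relIndex V) ∧
    p ^ n * p ^ n ≤ (V ⊓ Subgroup.center G).relIndex V := by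
  classical
  haveI := h.charP_F
  have hp := (Fact.out : p.Prime)
  have hCQ := h.le_pCore_of_centralizes hne
  have hpos : ∀ W : Subgroup G, 0 < W.relIndex V := fun W =>
    Nat.pos_of_ne_zero (W.subgroupOf V).index_ne_zero_of_finite
  obtain ⟨π, hπ, hker⟩ := h.exists_proj
  obtain ⟨hSK, hQK⟩ := h.inf_ker_eq
  have hex : ∃ a ∈ (S : Subgroup G), a ∉ Cfsg.pCore p G := by
    by_contra! hall
    have h1 := psl_sylow_card (S.mapSurjective hπ)
    rw [Sylow.coe_mapSurjective, (Subgroup.map_eq_bot_iff _).2 (hker ▸ fun x hx => hQK (hall x hx)),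
      Subgroup.card_bot] at h1
    have := Fintype.one_lt_card (α := F)
    omega
  rcases Nat.lt_or_ge n 2 with hn | hn
  · obtain rfl : n = 1 := by have := h.one_le; omega
    have hone : ∀ W : Subgroup G, ¬ V ≤ W → p ≤ W.relIndex V := by
      intro W hW
      obtain ⟨k, hk⟩ := hVp.index (W.subgroupOf V)
      have hk' : W.relIndex V = p ^ k := hk
      rcases Nat.eq_zero_or_pos k with h0 | h0
      · rw [h0, pow_zero, Subgroup.relIndex_eq_one] at hk'
        exact absurd hk' hW
      · rw [hk']; exact Nat.le_self_pow h0.ne' p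
    have hfirst : ∀ a ∈ (S : Subgroup G), a ∉ Cfsg.pCore p G →
        p ^ 1 ≤ (V ⊓ Subgroup.centralizer ({a} : Set G)).relIndex V := fun a ha haQ => by
      rw [pow_one]
      exact hone _ fun hle => haQ (hCQ ⟨ha, Subgroup.mem_centralizer_iff.2 fun v hv =>
        Subgroup.mem_centralizer_singleton_iff.1 (hle hv).2⟩)
    refine ⟨hfirst, ?_⟩
    obtain ⟨a, ha, haQ⟩ := hex
    set W := V ⊓ Subgroup.centralizer ((S : Subgroup G) : Set G)
    set D := V ⊓ Subgroup.center G
    have hDW : D ≤ W := inf_le_inf_left _ (Subgroup.center_le_centralizer _)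
    have h1 := Subgroup.relIndex_mul_relIndex D W V hDW inf_le_left
    rw [← h1, pow_one]
    refine Nat.mul_le_mul ?_ (hone _ fun hle => haQ (hCQ ⟨ha, Subgroup.mem_centralizer_iff.2 fun v hv =>
      ((Subgroup.mem_centralizer_iff.1 (hle hv).2) a ha).symm⟩))
    obtain ⟨k, hk⟩ := (hVp.to_le (inf_le_left : W ≤ V)).index (D.subgroupOf W)
    have hk' : D.relIndex W = p ^ k := hk
    rcases Nat.eq_zero_or_pos k with h0 | h0
    · rw [h0, pow_zero, Subgroup.relIndex_eq_one] at hk'
      exact absurd (hk'.trans inf_le_right) hne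
    · rw [hk']; exact Nat.le_self_pow h0.ne' p
  -- `n ≥ 2`
  haveI : IsSimpleGroup (Matrix.ProjectiveSpecialLinearGroup (Fin 2) F) := psl_simple (by
    rw [h.card_field]
    calc 4 = 2 ^ 2 := by norm_num
      _ ≤ p ^ 2 := Nat.pow_le_pow_left hp.two_le 2
      _ ≤ p ^ n := Nat.pow_le_pow_right hp.pos hn)
  have hCK : Subgroup.centralizer (V : Set G) ≤ K := by
    set C := Subgroup.centralizer (V : Set G)
    rw [← hker, ← Subgroup.map_eq_bot_iff]
    haveI : (C.map π).Normal := Subgroup.Normal.map inferInstance π hπ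
    rcases IsSimpleGroup.eq_bot_or_eq_top_of_normal (C.map π) inferInstance with hb | ht
    · exact hb
    · exfalso
      obtain ⟨M, ⟨hM, hSM⟩, huniq⟩ := h.unique_max
      obtain ⟨a, ha, haQ⟩ := hex
      obtain ⟨Q, hQ⟩ := Transfer.exists_sylow_subgroupOf_normal S C
      have h2 : ((S : Subgroup G) ⊓ C).map π = ⊥ :=
        (Subgroup.map_eq_bot_iff _).2 (hker ▸ hCQ.trans hQK)
      have h3 : ¬ p ∣ Nat.card (Matrix.ProjectiveSpecialLinearGroup (Fin 2) F) := by
        let ρ : ↥C →* Matrix.ProjectiveSpecialLinearGroup (Fin 2) F := π.comp C.subtype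
        have hρ : Function.Surjective ρ := by
          rw [← MonoidHom.range_eq_top, MonoidHom.range_comp, Subgroup.range_subtype]; exact ht
        haveI : Finite (Matrix.ProjectiveSpecialLinearGroup (Fin 2) F) := Finite.of_surjective π hπ
        have h4 : (Q.mapSurjective hρ).toSubgroup = ⊥ := by
          rw [Sylow.coe_mapSurjective, Subgroup.map_eq_bot_iff, hQ]
          intro x hx
          exact (Subgroup.map_eq_bot_iff _).1 h2 ⟨hx, x.2⟩
        intro hdvd
        exact (Q.mapSurjective hρ).ne_bot_of_dvd_card hdvd h4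
      apply h3
      have h5 := psl_sylow_card (S.mapSurjective hπ)
      rw [h.card_field] at h5
      exact (dvd_pow_self p (Nat.one_le_iff_ne_zero.1 h.one_le)).trans
        (h5 ▸ Subgroup.card_subgroup_dvd_card _)
  obtain ⟨ℓ, e, hℓ, hℓ2, hℓp, hdvd, hprim⟩ := exists_primitive_prime_power hp hn
  have hpair : ∀ a ∈ (S : Subgroup G), a ∉ Cfsg.pCore p G → ∃ b : G,
      p ^ n * p ^ n ≤ ((V ⊓ Subgroup.centralizer ({a} : Set G)) ⊓
        (V ⊓ Subgroup.centralizer ({b * a * b⁻¹} : Set G))).relIndex V := by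
    intro a ha haQ
    obtain ⟨i, hi⟩ := S.2 ⟨a, ha⟩
    have hne' : π a ≠ 1 := fun h0 => haQ (hSK ▸ ⟨ha, hker ▸ h0⟩)
    obtain ⟨m, hm⟩ := exists_conj_product_psl h.card_field hℓ hℓ2 hℓp hdvd hne' (i := i)
      (by rw [← map_pow, show a ^ p ^ i = 1 by simpa using congrArg Subtype.val hi, map_one])
    obtain ⟨b, rfl⟩ := hπ m
    refine ⟨b, ?_⟩
    rw [← map_inv, ← map_mul, ← map_mul, ← map_mul] at hm
    have hord : ℓ ^ (e + 1) ∣ orderOf (QuotientGroup.mk (a * (b * a * b⁻¹)) : G ⧸ K) := by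
      refine hm.trans (orderOf_dvd_of_pow_eq_one ?_)
      rw [← map_pow, ← MonoidHom.mem_ker, hker, ← QuotientGroup.eq_one_iff, QuotientGroup.mk_pow,
        pow_orderOf_eq_one]
    obtain ⟨k, j, hk, hkd, hkeq⟩ :=
      dvd_pow_relIndex_sub_one_of_image hℓ hℓp V hVp hCK hord
    rw [← pow_add, ← two_mul]
    refine (Nat.pow_le_pow_right hp.pos (hprim k hk hkd)).trans (hkeq.symm.trans_le ?_)
    refine Nat.le_of_dvd (hpos _) (Subgroup.relIndex_dvd_of_le_left V ?_)
    rintro v ⟨h1, h2⟩
    refine ⟨h1.1, Subgroup.mem_centralizer_singleton_iff.2 ?_⟩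
    exact (((show Commute v a from Subgroup.mem_centralizer_singleton_iff.1 h1.2).mul_right
      (show Commute v _ from Subgroup.mem_centralizer_singleton_iff.1 h2.2)).pow_right _).eq
  refine ⟨fun a ha haQ => ?_, ?_⟩
  · obtain ⟨b, hb⟩ := hpair a ha haQ
    have hb' := hb.trans Subgroup.relIndex_inf_le
    have hconj : (V ⊓ Subgroup.centralizer ({b * a * b⁻¹} : Set G)).relIndex V =
        (V ⊓ Subgroup.centralizer ({a} : Set G)).relIndex V := by
      have hVb : V.map (MulAut.conj b).toMonoidHom = V :=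
        map_conj_of_mem_normalizer' (Subgroup.normalizer_eq_top V ▸ Subgroup.mem_top b)
      have hmap : (V ⊓ Subgroup.centralizer ({a} : Set G)).map (MulAut.conj b).toMonoidHom =
          V ⊓ Subgroup.centralizer ({b * a * b⁻¹} : Set G) := by
        rw [Subgroup.map_inf _ _ _ (MulAut.conj b).injective, hVb]
        congr 1
        ext w
        rw [mem_map_conj, Subgroup.mem_centralizer_singleton_iff,
          Subgroup.mem_centralizer_singleton_iff]
        constructor <;> intro h
        · calc w * (b * a * b⁻¹) = b * ((b⁻¹ * w * b) * a) * b⁻¹ := by group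
            _ = b * (a * (b⁻¹ * w * b)) * b⁻¹ := by rw [h]
            _ = b * a * b⁻¹ * w := by group
        · calc b⁻¹ * w * b * a = b⁻¹ * (w * (b * a * b⁻¹)) * b := by group
            _ = b⁻¹ * (b * a * b⁻¹ * w) * b := by rw [h]
            _ = a * (b⁻¹ * w * b) := by group
      rw [← hmap]
      conv_lhs => arg 2; rw [← hVb]
      exact Subgroup.relIndex_map_map_of_injective _ _ (MulAut.conj b).injective
    rw [hconj] at hb'
    exact Nat.mul_self_le_mul_self_iff.1 hb'
  · obtain ⟨a, ha, haQ⟩ := hex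
    obtain ⟨b, hb⟩ := hpair a ha haQ
    refine hb.trans (Nat.le_of_dvd (hpos _) (Subgroup.relIndex_dvd_of_le_left V ?_))
    rintro v ⟨hv, hvc⟩
    have := Subgroup.mem_center_iff.1 hvc
    exact ⟨⟨hv, Subgroup.mem_centralizer_singleton_iff.2 (this a).symm⟩,
      hv, Subgroup.mem_centralizer_singleton_iff.2 (this _).symm⟩

end PUSetup

end Cfsg.Agent.LocalEven61
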