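import Cfsg.Agent.LocalEven61.PushingUp

/-!
`Z(J(S))` in the pushing-up situation.
-/

set_option autoImplicit false
set_option linter.style.haveILetI false

namespace Cfsg.Agent.LocalEven61

open Cfsg.Agent.PLocalB (abelianFamily AbFamily)

variable {G : Type*} [Group G] [Finite G] {p : ℕ} [Fact p.Prime]
variable {F : Type} [Field F] [Fintype F] {n : ℕ} {S : Sylow p G} {K : Subgroup G} [K.Normal]

/-- `|NH : H| = |N : H ∩ N|` for normal `N`. -/
theorem relIndex_sup_normal_left (H N : Subgroup G) [N.Normal] :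
    H.relIndex (N ⊔ H) = H.relIndex N := by
  have e1 : Nat.card ↥H * H.relIndex (N ⊔ H) = Nat.card ↥(N ⊔ H) := by
    rw [← Subgroup.relIndex_bot_left, ← Subgroup.relIndex_bot_left,
      Subgroup.relIndex_mul_relIndex _ _ _ bot_le le_sup_right]
  have e2 : Nat.card ↥N * N.relIndex H = Nat.card ↥(N ⊔ H) := by
    rw [← Subgroup.relIndex_sup_left H N, ← Subgroup.relIndex_bot_left, ← Subgroup.relIndex_bot_left,
      Subgroup.relIndex_mul_relIndex _ _ _ bot_le le_sup_left]
  have e3 : Nat.card ↥(H ⊓ N) * N.relIndex H = Nat.card ↥H := by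
    rw [← Subgroup.inf_relIndex_left, ← Subgroup.relIndex_bot_left, ← Subgroup.relIndex_bot_left,
      Subgroup.relIndex_mul_relIndex _ _ _ bot_le inf_le_left]
  have e4 : Nat.card ↥(H ⊓ N) * H.relIndex N = Nat.card ↥N := by
    rw [← Subgroup.inf_relIndex_right, ← Subgroup.relIndex_bot_left, ← Subgroup.relIndex_bot_left,
      Subgroup.relIndex_mul_relIndex _ _ _ bot_le inf_le_right]
  refine Nat.eq_of_mul_eq_mul_left (Nat.card_pos (α := ↥H)) ?_
  rw [e1, ← e2, ← e3, ← e4]
  ring

omit [Finite G] in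
theorem mem_center_of_sup_eq_top {X T : Subgroup G} (h : X ⊔ T = ⊤) {v : G}
    (h1 : ∀ x ∈ X, x * v = v * x) (h2 : ∀ x ∈ T, x * v = v * x) : v ∈ Subgroup.center G := by
  refine Subgroup.mem_center_iff.2 fun g => ?_
  have : (⊤ : Subgroup G) ≤ Subgroup.centralizer ({v} : Set G) := h ▸ sup_le
    (fun c hc => Subgroup.mem_centralizer_singleton_iff.2 (h1 c hc))
    (fun c hc => Subgroup.mem_centralizer_singleton_iff.2 (h2 c hc))
  exact Subgroup.mem_centralizer_singleton_iff.1 (this (Subgroup.mem_top g))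

namespace PUSetup

/-- A normal subgroup of `Z(S)` is central. -/
theorem le_center_of_normal (h : PUSetup S K F n) {W : Subgroup G} [W.Normal]
    (hW : W ≤ (S : Subgroup G) ⊓ Subgroup.centralizer ((S : Subgroup G) : Set G)) :
    W ≤ Subgroup.center G := by
  have hSC : (S : Subgroup G) ≤ Subgroup.centralizer (W : Set G) :=
    Subgroup.le_centralizer_iff.1 (hW.trans inf_le_right)
  have htop : Subgroup.centralizer (W : Set G) ⊔ (S : Subgroup G) = ⊤ := by
    refine (h.inf_le_or_sup_eq_top _).resolve_left fun hle => ?_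
    haveI := h.charP_F
    obtain ⟨π, hπ, hker⟩ := h.exists_proj
    obtain ⟨hSK, hQK⟩ := h.inf_ker_eq
    rw [inf_eq_left.2 hSC] at hle
    have h1 := psl_sylow_card (S.mapSurjective hπ)
    rw [Sylow.coe_mapSurjective, (Subgroup.map_eq_bot_iff _).2 (hker ▸ hle.trans hQK),
      Subgroup.card_bot] at h1
    have := Fintype.one_lt_card (α := F)
    omega
  exact fun v hv => mem_center_of_sup_eq_top htop
    (fun x hx => (Subgroup.mem_centralizer_iff.1 hx v hv).symm)
    (fun x hx => Subgroup.mem_centralizer_iff.1 (hW hv).2 x hx)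

/-- If `J(S) ≤ O_p(G)` then `Z(J(S))` is normal. -/
theorem core_normal_of_le (h : PUSetup S K F n)
    (hA : ∀ A, (abelianFamily G).IsMax (S : Subgroup G) A → A ≤ Cfsg.pCore p G) :
    ((abelianFamily G).core (S : Subgroup G)).Normal := by
  have _ := h
  have heq : (abelianFamily G).core (S : Subgroup G) = (abelianFamily G).core (Cfsg.pCore p G) := by
    have hset : ∀ A, (abelianFamily G).IsMax (S : Subgroup G) A ↔
        (abelianFamily G).IsMax (Cfsg.pCore p G) A := by
      refine fun A => ⟨fun hm => ⟨hA A hm, hm.2.1, fun B hB hg =>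
        hm.2.2 B (hB.trans (Thompson.pCore_le_sylow S)) hg⟩, fun hm => ?_⟩
      refine ⟨hm.1.trans (Thompson.pCore_le_sylow S), hm.2.1, fun B hB hg => ?_⟩
      obtain ⟨A', hA'⟩ := (abelianFamily G).exists_isMax (S : Subgroup G)
      exact (hA'.2.2 B hB hg).trans (hm.2.2 A' (hA A' hA') hA'.2.1)
    show sInf _ = sInf _
    exact congrArg sInf (Set.ext hset)
  rw [heq]
  have h1 := (abelianFamily G).normalizer_le_core (Cfsg.pCore p G)
  rw [Subgroup.normalizer_eq_top] at h1
  exact Subgroup.normalizer_eq_top_iff.1 (top_le_iff.1 h1)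

/-- The structure of `Z(J(S))` when `Z(S)` is not normal and `J(S)` is not inside `O_p(G)`. -/
theorem core_decomp (h : PUSetup S K F n)
    (hns : ¬ ((S : Subgroup G) ⊓ Subgroup.centralizer ((S : Subgroup G) : Set G)).Normal)
    (hA : ∃ A, (abelianFamily G).IsMax (S : Subgroup G) A ∧ ¬ A ≤ Cfsg.pCore p G) :
    ∃ R X V : Subgroup G, R.Normal ∧ X.Normal ∧ V.Normal ∧ X ⊔ (S : Subgroup G) = ⊤ ∧
      R ≤ (abelianFamily G).core (S : Subgroup G) ∧ X ≤ Subgroup.centralizer (R : Set G) ∧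
      (abelianFamily G).core (S : Subgroup G) ≤
        ((S : Subgroup G) ⊓ Subgroup.centralizer ((S : Subgroup G) : Set G)) ⊔ R ∧
      V ≤ Cfsg.pCore p G ∧ IsMulCommutative ↥V ∧
      (S : Subgroup G) ⊓ Subgroup.centralizer ((S : Subgroup G) : Set G) ≤ V ∧
      (V ⊓ Subgroup.center G).relIndex V ≤ p ^ n * p ^ n := by
  classical
  haveI := h.charP_F
  obtain ⟨π, hπ, hker⟩ := h.exists_proj
  obtain ⟨hSK, hQK⟩ := h.inf_ker_eq
  set Q := Cfsg.pCore p G with hQdef
  set Zc := (S : Subgroup G) ⊓ Subgroup.centralizer ((S : Subgroup G) : Set G) with hZc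
  set Z := (abelianFamily G).core (S : Subgroup G) with hZdef
  set W := (abelianFamily G).core Q with hWdef
  set V := Subgroup.normalClosure (Zc : Set G) with hVdef
  set q := p ^ n
  have hQS : Q ≤ (S : Subgroup G) := Thompson.pCore_le_sylow S
  haveI hWn : W.Normal := by
    have h1 := (abelianFamily G).normalizer_le_core Q
    rw [Subgroup.normalizer_eq_top] at h1
    exact Subgroup.normalizer_eq_top_iff.1 (top_le_iff.1 h1)
  -- `V = ⟨Z(S)^G⟩` is central in `O_p(G)`
  have hZcQ : Zc ≤ Q := fun x hx => h.charP_cond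
    (Subgroup.centralizer_le (fun y hy => hQS hy) hx.2)
  have hVQ : V ≤ Q := Subgroup.normalClosure_le_normal hZcQ
  have hVC : V ≤ Subgroup.centralizer (Q : Set G) :=
    Subgroup.normalClosure_le_normal fun x hx => Subgroup.centralizer_le (fun y hy => hQS hy) hx.2
  have hVab : IsMulCommutative ↥V := Subgroup.le_centralizer_iff_isMulCommutative.1
    (hVC.trans (Subgroup.centralizer_le (fun y hy => hVQ hy)))
  have hZcV : Zc ≤ V := Subgroup.le_normalClosure
  have hVS : V ⊓ Subgroup.centralizer ((S : Subgroup G) : Set G) = Zc :=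
    le_antisymm (fun x hx => ⟨hQS (hVQ hx.1), hx.2⟩) fun x hx => ⟨hZcV hx, hx.2⟩
  have hne : ¬ V ⊓ Subgroup.centralizer ((S : Subgroup G) : Set G) ≤ Subgroup.center G := by
    rw [hVS]
    intro hc
    exact hns ⟨fun x hx g => by
      rw [Subgroup.mem_center_iff.1 (hc hx) g, mul_inv_cancel_right]
      exact hx⟩
  obtain ⟨hq1, hq2⟩ := h.relIndex_bound (S.2.to_le (hVQ.trans hQS)) hne
  have hposI : ∀ A B : Subgroup G, 0 < A.relIndex B := fun A B =>
    Nat.pos_of_ne_zero (A.subgroupOf B).index_ne_zero_of_finite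
  have hmono : ∀ {A B C : Subgroup G}, A ≤ B → B.relIndex C ≤ A.relIndex C := fun hAB =>
    Nat.le_of_dvd (hposI _ _) (Subgroup.relIndex_dvd_of_le_left _ hAB)
  -- the members of largest order outside `O_p(G)`
  have key : ∀ A, (abelianFamily G).IsMax (S : Subgroup G) A → ¬ A ≤ Q →
      A ⊔ Q = (S : Subgroup G) ∧ V ⊓ A = Zc ∧ Zc.relIndex V = q ∧
      (∀ M, (abelianFamily G).IsMax Q M → (abelianFamily G).IsMax (S : Subgroup G) M) ∧
      W ≤ V ⊔ (W ⊓ A) := by
    intro A hAm hAQ
    obtain ⟨a, ha, haQ⟩ := SetLike.not_le_iff_exists.1 hAQ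
    haveI hAc : IsMulCommutative ↥A := hAm.2.1
    obtain ⟨hc1, hc2⟩ := h.card_inf hAm.1
    haveI : V.Normal := Subgroup.normalClosure_normal
    have hab : (∀ x ∈ A ⊓ Q, ∀ y ∈ V, x * y = y * x) →
        Nat.card ↥(A ⊓ Q) * (A ⊓ V).relIndex V ≤ Nat.card ↥A ∧
        (IsMulCommutative ↥((A ⊓ Q) ⊔ V) ∧
          Nat.card ↥(A ⊓ Q) * (A ⊓ V).relIndex V = Nat.card ↥((A ⊓ Q) ⊔ V)) := by
      intro hcomm
      have hcomm' : IsMulCommutative ↥((A ⊓ Q) ⊔ V) := by
        rw [← Subgroup.le_centralizer_iff_isMulCommutative]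
        have hl : A ⊓ Q ≤ Subgroup.centralizer (((A ⊓ Q) ⊔ V : Subgroup G) : Set G) := by
          refine Subgroup.le_centralizer_iff.1 (sup_le ?_ ?_)
          · exact fun x hx => Subgroup.mem_centralizer_iff.2 fun y hy =>
              congrArg Subtype.val (hAc.is_comm.comm ⟨y, hy.1⟩ ⟨x, hx.1⟩)
          · exact fun x hx => Subgroup.mem_centralizer_iff.2 fun y hy => hcomm y hy x hx
        refine sup_le hl (Subgroup.le_centralizer_iff.1 (sup_le ?_ ?_))
        · exact fun x hx => Subgroup.mem_centralizer_iff.2 fun y hy => (hcomm x hx y hy).symm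
        · exact Subgroup.le_centralizer_iff_isMulCommutative.2 hVab
      have hcard : Nat.card ↥(A ⊓ Q) * (A ⊓ V).relIndex V = Nat.card ↥((A ⊓ Q) ⊔ V) := by
        have e1 : (A ⊓ V).relIndex V = (A ⊓ Q).relIndex V := by
          rw [Subgroup.inf_relIndex_right, ← Subgroup.inf_relIndex_right (A ⊓ Q),
            inf_assoc, inf_eq_right.2 hVQ, Subgroup.inf_relIndex_right]
        rw [e1, sup_comm, ← relIndex_sup_normal_left, ← Subgroup.relIndex_bot_left,
          ← Subgroup.relIndex_bot_left, Subgroup.relIndex_mul_relIndex _ _ _ bot_le le_sup_right]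
      exact ⟨hcard.trans_le (hAm.2.2 _ (sup_le (inf_le_left.trans hAm.1) (hVQ.trans hQS)) hcomm'),
        hcomm', hcard⟩
    have hVcomm : ∀ x ∈ A ⊓ Q, ∀ y ∈ V, x * y = y * x := fun x hx y hy =>
      Subgroup.mem_centralizer_iff.1 (hVC hy) x hx.2
    obtain ⟨hv1, hv2, hv3⟩ := hab hVcomm
    have hAV : A ⊓ V ≤ V ⊓ Subgroup.centralizer ({a} : Set G) := fun x hx =>
      ⟨hx.2, Subgroup.mem_centralizer_singleton_iff.2
        (congrArg Subtype.val (hAc.is_comm.comm ⟨x, hx.1⟩ ⟨a, ha⟩))⟩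
    have hge : q ≤ (A ⊓ V).relIndex V := (hq1 a (hAm.1 ha) haQ).trans (hmono hAV)
    have heqA : Nat.card ↥A = Nat.card ↥(A ⊓ Q) * q :=
      le_antisymm hc1 ((Nat.mul_le_mul_left _ hge).trans hv1)
    have hAVq : (A ⊓ V).relIndex V = q := le_antisymm
      (Nat.le_of_mul_le_mul_left (hv1.trans heqA.le) Nat.card_pos) hge
    have hAQS := hc2 heqA
    have hVA : V ⊓ A = Zc := by
      refine le_antisymm ?_ fun x hx => ⟨hZcV hx, (abelianFamily G).mem_of_centralizes hAm hx.1
        (PLocalB.isMulCommutative_sup_zpowers hAc fun y hy =>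
          Subgroup.mem_centralizer_iff.1 hx.2 y (hAm.1 hy))⟩
      rintro x ⟨hxV, hxA⟩
      refine ⟨hQS (hVQ hxV), ?_⟩
      rw [← hAQS]
      have : A ⊔ Q ≤ Subgroup.centralizer ({x} : Set G) := sup_le
        (fun y hy => Subgroup.mem_centralizer_singleton_iff.2
          (congrArg Subtype.val (hAc.is_comm.comm ⟨y, hy⟩ ⟨x, hxA⟩)))
        (fun y hy => Subgroup.mem_centralizer_singleton_iff.2
          (Subgroup.mem_centralizer_iff.1 (hVC hxV) y hy))
      exact Subgroup.mem_centralizer_iff.2 fun y hy =>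
        Subgroup.mem_centralizer_singleton_iff.1 (this hy)
    have hmaxQ : ∀ M, (abelianFamily G).IsMax Q M → (abelianFamily G).IsMax (S : Subgroup G) M := by
      intro M hM
      refine ⟨hM.1.trans hQS, hM.2.1, fun B hB hg => (hAm.2.2 B hB hg).trans ?_⟩
      rw [heqA, ← hAVq, hv3]
      exact hM.2.2 _ (sup_le inf_le_right hVQ) hv2
    refine ⟨hAQS, hVA, by rw [← hVA, inf_comm]; exact hAVq, hmaxQ, ?_⟩
    have hA0 : (abelianFamily G).IsMax Q ((A ⊓ Q) ⊔ V) := by
      refine ⟨sup_le inf_le_right hVQ, hv2, fun B hB hg => ?_⟩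
      rw [← hv3, hAVq, ← heqA]
      exact hAm.2.2 B (hB.trans hQS) hg
    have hWA0 : W ≤ (A ⊓ Q) ⊔ V := (abelianFamily G).core_le_of_isMax hA0
    haveI : V.Normal := Subgroup.normalClosure_normal
    intro w hw
    obtain ⟨x, hx, v, hv, rfl⟩ := (Subgroup.mem_sup_of_normal_right (s := A ⊓ Q) (t := V)).1 (hWA0 hw)
    have hvW : v ∈ W := by
      refine Subgroup.mem_sInf.2 fun M hM => (abelianFamily G).mem_of_centralizes hM (hVQ hv) ?_
      exact PLocalB.isMulCommutative_sup_zpowers hM.2.1 fun y hy =>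
        Subgroup.mem_centralizer_iff.1 (hVC hv) y (hM.1 hy)
    have hxW : x ∈ W := by simpa using mul_mem hw (inv_mem hvW)
    rw [show x * v = v * x from hVcomm x hx v hv]
    exact Subgroup.mul_mem_sup hv ⟨hxW, hx.1⟩
  obtain ⟨A₀, hA₀, hA₀Q⟩ := hA
  obtain ⟨hA₀S, hA₀V, hZcq, hmax, -⟩ := key A₀ hA₀ hA₀Q
  haveI : V.Normal := Subgroup.normalClosure_normal
  have hZW : Z ≤ W := le_sInf fun M hM => (abelianFamily G).core_le_of_isMax (hmax M hM)
  have hVW : V ≤ W := fun v hv => Subgroup.mem_sInf.2 fun M hM =>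
    (abelianFamily G).mem_of_centralizes hM (hVQ hv)
      (PLocalB.isMulCommutative_sup_zpowers hM.2.1 fun y hy =>
        Subgroup.mem_centralizer_iff.1 (hVC hv) y (hM.1 hy))
  have hZcZ : Zc ≤ Z := fun x hx => Subgroup.mem_sInf.2 fun M hM =>
    (abelianFamily G).mem_of_centralizes hM hx.1
      (PLocalB.isMulCommutative_sup_zpowers hM.2.1 fun y hy =>
        Subgroup.mem_centralizer_iff.1 hx.2 y (hM.1 hy))
  -- `C₁`, the centralizer of `W / V`
  set C₁ : Subgroup G :=
    (Subgroup.centralizer ((W.map (QuotientGroup.mk' V) : Subgroup (G ⧸ V)) : Set (G ⧸ V))).comap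
      (QuotientGroup.mk' V) with hC₁
  haveI : (W.map (QuotientGroup.mk' V)).Normal :=
    Subgroup.Normal.map hWn _ (QuotientGroup.mk'_surjective V)
  haveI : C₁.Normal := Subgroup.Normal.comap inferInstance _
  have hC₁mem : ∀ b, (∀ w ∈ W, ∃ v ∈ V, w * b = b * w * v) → b ∈ C₁ := by
    intro b hb
    rw [hC₁, Subgroup.mem_comap, Subgroup.mem_centralizer_iff]
    rintro _ ⟨w, hw, rfl⟩
    obtain ⟨v, hv, e⟩ := hb w hw
    rw [← map_mul, ← map_mul, e, map_mul, map_mul,
      show QuotientGroup.mk' V v = 1 from (QuotientGroup.eq_one_iff v).2 hv, mul_one]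
  set J := sSup {A | (abelianFamily G).IsMax (S : Subgroup G) A} with hJdef
  have hJS : J ≤ (S : Subgroup G) := sSup_le fun A hA => hA.1
  have hA₀J : A₀ ≤ J := le_sSup hA₀
  have hJC₁ : J ≤ C₁ := sSup_le fun B hB b hb => by
    haveI hBc : IsMulCommutative ↥B := hB.2.1
    refine hC₁mem b fun w hw => ?_
    by_cases hBQ : B ≤ Q
    · refine ⟨1, V.one_mem, ?_⟩
      have hBm : (abelianFamily G).IsMax Q B :=
        ⟨hBQ, hB.2.1, fun D hD hg => hB.2.2 D (hD.trans hQS) hg⟩
      rw [mul_one]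
      exact congrArg Subtype.val
        (hBc.is_comm.comm ⟨w, (abelianFamily G).core_le_of_isMax hBm hw⟩ ⟨b, hb⟩)
    · obtain ⟨v, hv, u, hu, rfl⟩ :=
        (Subgroup.mem_sup_of_normal_left (s := V) (t := W ⊓ B)).1 ((key B hB hBQ).2.2.2.2 hw)
      have hub : u * b = b * u := congrArg Subtype.val (hBc.is_comm.comm ⟨u, hu.2⟩ ⟨b, hb⟩)
      refine ⟨u⁻¹ * (v⁻¹ * (b⁻¹ * v * b)) * u, ?_, ?_⟩
      · have h1 : v⁻¹ * (b⁻¹ * v * b) ∈ V := V.mul_mem (V.inv_mem hv) (by
          simpa using (inferInstance : V.Normal).conj_mem v hv b⁻¹)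
        simpa using (inferInstance : V.Normal).conj_mem _ h1 u⁻¹
      · rw [show v * u * b = v * (u * b) by group, hub]
        group
  set X := Subgroup.normalClosure (J : Set G) with hXdef
  haveI hXn : X.Normal := Subgroup.normalClosure_normal
  have hXC₁ : X ≤ C₁ := Subgroup.normalClosure_le_normal hJC₁
  have hJX : J ≤ X := Subgroup.le_normalClosure
  have hXS : X ⊔ (S : Subgroup G) = ⊤ := (h.inf_le_or_sup_eq_top X).resolve_left fun hle =>
    hA₀Q fun x hx => hle ⟨hA₀.1 hx, hJX (hA₀J hx)⟩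
  -- `Y = V Z` is normal
  set Y := V ⊔ Z with hYdef
  have hYW : Y ≤ W := sup_le hVW hZW
  have hSZ : (S : Subgroup G) ≤ Subgroup.normalizer (Z : Set G) :=
    Subgroup.le_normalizer.trans ((abelianFamily G).normalizer_le_core (S : Subgroup G))
  haveI hYn : Y.Normal := by
    rw [← Subgroup.normalizer_eq_top_iff, eq_top_iff, ← hXS]
    refine sup_le (fun x hx => ?_) (fun x hx => ?_)
    · refine PLocalB.mem_normalizer_of_conj_mem _ _ fun y hy => ?_
      have h1 := Subgroup.mem_centralizer_iff.1 (hXC₁ hx) _ ⟨y, hYW hy, rfl⟩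
      have h2 : y⁻¹ * (x * y * x⁻¹) ∈ V := by
        refine (QuotientGroup.eq_one_iff _).1 ?_
        show QuotientGroup.mk' V (y⁻¹ * (x * y * x⁻¹)) = 1
        simp only [map_mul, map_inv, ← h1]
        group
      simpa using Y.mul_mem hy (Subgroup.mem_sup_left h2)
    · refine PLocalB.mem_normalizer_of_conj_mem _ _ fun y hy => ?_
      obtain ⟨v, hv, z, hz, rfl⟩ := (Subgroup.mem_sup_of_normal_left (s := V) (t := Z)).1 hy
      rw [show x * (v * z) * x⁻¹ = (x * v * x⁻¹) * (x * z * x⁻¹) by group]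
      exact Subgroup.mul_mem_sup ((inferInstance : V.Normal).conj_mem v hv x)
        ((Subgroup.mem_normalizer_iff.1 (hSZ hx) z).1 hz)
  -- the second Sylow subgroup
  obtain ⟨g', hg'⟩ := psl_exists_sylow_ne (p := p) (F := F) (S.mapSurjective hπ)
  obtain ⟨g, rfl⟩ := hπ g'
  have hgen := h.sup_conj_eq_top hπ hker hg'
  set c := (MulAut.conj g).toMonoidHom with hc
  have hinj : Function.Injective c := (MulAut.conj g).injective
  have hVc : V.map c = V :=
    map_conj_of_mem_normalizer' (Subgroup.normalizer_eq_top V ▸ Subgroup.mem_top g)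
  have hYc : Y.map c = Y :=
    map_conj_of_mem_normalizer' (Subgroup.normalizer_eq_top Y ▸ Subgroup.mem_top g)
  have hQc : Q.map c = Q :=
    map_conj_of_mem_normalizer' (Subgroup.normalizer_eq_top Q ▸ Subgroup.mem_top g)
  have hVcen : (V ⊓ Subgroup.center G).relIndex V ≤ q * q := by
    have hle : Zc ⊓ Zc.map c ≤ V ⊓ Subgroup.center G := by
      rintro v ⟨h1, v', h2, rfl⟩
      refine ⟨hZcV h1, mem_center_of_sup_eq_top hgen
        (fun x hx => Subgroup.mem_centralizer_iff.1 h1.2 x hx) ?_⟩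
      rintro _ ⟨x, hx, rfl⟩
      rw [← map_mul, Subgroup.mem_centralizer_iff.1 h2.2 x hx, map_mul]
    refine (hmono hle).trans (Subgroup.relIndex_inf_le.trans (le_of_eq ?_))
    rw [show (Zc.map c).relIndex V = Zc.relIndex V by
      conv_lhs => arg 2; rw [← hVc]
      exact Subgroup.relIndex_map_map_of_injective _ _ hinj, hZcq]
  set R := Y ⊓ Subgroup.centralizer (X : Set G) with hRdef
  haveI : R.Normal := inferInstance
  have hRZ : R ≤ Z := fun r hr => Subgroup.mem_sInf.2 fun M hM =>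
    (abelianFamily G).mem_of_centralizes hM (hQS ((abelianFamily G).core_le Q (hYW hr.1)))
      (PLocalB.isMulCommutative_sup_zpowers hM.2.1 fun y hy =>
        Subgroup.mem_centralizer_iff.1 hr.2 y (hJX ((le_sSup hM : M ≤ J) hy)))
  have hZJ : ∀ z ∈ Z, ∀ j ∈ J, j * z = z * j := fun z hz j hj => by
    have : J ≤ Subgroup.centralizer ({z} : Set G) := sSup_le fun B hB b hb => by
      haveI hBc : IsMulCommutative ↥B := hB.2.1
      exact Subgroup.mem_centralizer_singleton_iff.2 (congrArg Subtype.val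
        (hBc.is_comm.comm ⟨b, hb⟩ ⟨z, (abelianFamily G).core_le_of_isMax hB hz⟩))
    exact Subgroup.mem_centralizer_singleton_iff.1 (this hj)
  have hZR : Z ⊓ Z.map c ≤ R := by
    rintro z ⟨h1, z', h2, e⟩
    refine ⟨Subgroup.mem_sup_right h1, ?_⟩
    set X₁ := J ⊔ J.map c with hX₁
    have hQnJ : Q ≤ Subgroup.normalizer (J : Set G) := by
      intro x hx
      have hxS := Subgroup.le_normalizer (hQS hx)
      rw [Subgroup.mem_normalizer_iff_map_conj_eq]
      apply Subgroup.eq_of_le_of_card_ge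
      · rw [Subgroup.map_le_iff_le_comap]
        refine sSup_le fun B hB => Subgroup.map_le_iff_le_comap.1 (le_sSup ?_)
        have := (abelianFamily G).isMax_map hB (MulAut.conj x)
        rw [show ((S : Subgroup G).map (MulAut.conj x).toMonoidHom) = (S : Subgroup G) from
          Subgroup.mem_normalizer_iff_map_conj_eq.1 hxS] at this
        exact this
      · exact (Subgroup.card_map_of_injective (MulAut.conj x).injective).ge
    have hQn : Q ≤ Subgroup.normalizer (X₁ : Set G) := by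
      intro x hx
      rw [Subgroup.mem_normalizer_iff_map_conj_eq, hX₁, Subgroup.map_sup]
      refine congrArg₂ (· ⊔ ·) (Subgroup.mem_normalizer_iff_map_conj_eq.1 (hQnJ hx)) ?_
      obtain ⟨x', hx', rfl⟩ := hQc.ge hx
      have h3 := Subgroup.mem_normalizer_iff_map_conj_eq.1 (hQnJ hx')
      conv_rhs => rw [← h3]
      rw [Subgroup.map_map, Subgroup.map_map]
      refine congrArg (fun f => J.map f) (MonoidHom.ext fun y => ?_)
      simp [hc]
      group
    have hX₁Q : X₁ ⊔ Q = ⊤ := by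
      rw [eq_top_iff, ← hgen]
      have hJQ : (S : Subgroup G) ≤ J ⊔ Q := hA₀S.ge.trans (sup_le_sup_right hA₀J Q)
      refine sup_le (hJQ.trans (sup_le_sup_right le_sup_left Q)) ?_
      refine (Subgroup.map_mono hJQ).trans ?_
      rw [Subgroup.map_sup, hQc]
      exact sup_le_sup_right le_sup_right Q
    haveI : X₁.Normal := by
      rw [← Subgroup.normalizer_eq_top_iff, eq_top_iff, ← hX₁Q]
      exact sup_le Subgroup.le_normalizer hQn
    have hXX₁ : X ≤ X₁ := Subgroup.normalClosure_le_normal (fun x hx => Subgroup.mem_sup_left hx)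
    refine Subgroup.centralizer_le (fun x hx => hXX₁ hx) ?_
    rw [Subgroup.mem_centralizer_iff]
    have : X₁ ≤ Subgroup.centralizer ({z} : Set G) := sup_le
      (fun j hj => Subgroup.mem_centralizer_singleton_iff.2 (hZJ z h1 j hj)) (by
        rintro _ ⟨j, hj, rfl⟩
        refine Subgroup.mem_centralizer_singleton_iff.2 ?_
        rw [← e, ← map_mul, hZJ z' h2 j hj, map_mul])
    exact fun y hy => Subgroup.mem_centralizer_singleton_iff.1 (this hy)
  have hZq : Z.relIndex Y ≤ q := by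
    rw [hYdef, relIndex_sup_normal_left, ← hZcq]
    exact hmono hZcZ
  have hRq : R.relIndex Z ≤ q := by
    refine (hmono hZR).trans ?_
    rw [Subgroup.inf_relIndex_left]
    calc (Z.map c).relIndex Z ≤ (Z.map c).relIndex Y :=
          Subgroup.relIndex_le_of_le_right le_sup_right (hposI _ _).ne'
      _ = Z.relIndex Y := by
          conv_lhs => arg 2; rw [← hYc]
          exact Subgroup.relIndex_map_map_of_injective _ _ hinj
      _ ≤ q := hZq
  have hZcR : q ≤ R.relIndex (R ⊔ Zc) := by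
    rw [Subgroup.relIndex_sup_left]
    have hle : R ⊓ Zc ≤ V ⊓ Subgroup.center G := fun v hv => ⟨hZcV hv.2, mem_center_of_sup_eq_top hXS
      (fun x hx => Subgroup.mem_centralizer_iff.1 hv.1.2 x hx)
      (fun x hx => Subgroup.mem_centralizer_iff.1 hv.2.2 x hx)⟩
    rw [← Subgroup.inf_relIndex_right]
    have h1 := (hq2.trans (hmono hle))
    rw [← Subgroup.relIndex_mul_relIndex (R ⊓ Zc) Zc V inf_le_right hZcV, hZcq] at h1
    exact Nat.le_of_mul_le_mul_right h1 (pow_pos (Fact.out : p.Prime).pos n)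
  refine ⟨R, X, V, inferInstance, hXn, inferInstance, hXS, hRZ,
    Subgroup.le_centralizer_iff.1 inf_le_right, ?_, hVQ, hVab, hZcV, hVcen⟩
  have h1 := Subgroup.relIndex_mul_relIndex R (R ⊔ Zc) Z le_sup_left (sup_le hRZ hZcZ)
  have h2 : (R ⊔ Zc).relIndex Z = 1 := by
    have h4 := hposI (R ⊔ Zc) Z
    have h5 : q * (R ⊔ Zc).relIndex Z ≤ q * 1 :=
      (Nat.mul_le_mul_right _ hZcR).trans (h1.trans_le (hRq.trans (mul_one q).ge))
    have h6 := Nat.le_of_mul_le_mul_left h5 (pow_pos (Fact.out : p.Prime).pos n)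
    omega
  rw [sup_comm]
  exact Subgroup.relIndex_eq_one.1 h2

end PUSetup

end Cfsg.Agent.LocalEven61
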