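import Cfsg.Agent.Lib.Solvable.Supersolvable
import Cfsg.Agent.Lib.Solvable.Maximal
import Cfsg.Agent.Lib.PComplement.Reduction
import Cfsg.Agent.Lib.Fitting.Huppert
import Cfsg.Agent.Lib.Transfer.Frobenius

/-!
Supersolvability from the orders of subgroups generated by two conjugate elements of prime
power order.
-/

open Subgroup

namespace Cfsg.Agent.LocalEven61.ConjPair

universe u

section Irreducible

variable {q : ℕ} {N : Type*} [CommGroup N] {U : Type*} [Group U]

lemma mem_zpowers_of_zpow_mem [hq : Fact q.Prime] (hexp : ∀ n : N, n ^ q = 1) {c d : N} {m : ℤ}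
    (h : d ^ m ∈ zpowers c) (hd : d ∉ zpowers c) : d ^ m = 1 := by
  by_contra h1
  refine hd ?_
  have hq1 : ∀ n : N, n ≠ 1 → Nat.card (zpowers n) = q := fun n hn => by
    rw [Nat.card_zpowers, orderOf_eq_prime (hexp n) hn]
  have hd1 : d ≠ 1 := fun hd1 => hd (hd1 ▸ one_mem _)
  have hle : zpowers (d ^ m) ≤ zpowers d := zpowers_le.2 ⟨m, rfl⟩
  have : Finite (zpowers d) := Nat.finite_of_card_ne_zero (by rw [hq1 d hd1]; exact hq.out.ne_zero)
  have heq : zpowers (d ^ m) = zpowers d :=
    Subgroup.eq_of_le_of_card_ge hle (by rw [hq1 _ h1, hq1 d hd1])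
  exact (heq.ge.trans (zpowers_le.2 h)) (mem_zpowers d)

lemma zpow_eq_iff [hq : Fact q.Prime] (hexp : ∀ n : N, n ^ q = 1) {c : N} (hc : c ≠ 1) (i j : ℤ) :
    c ^ i = c ^ j ↔ (i : ZMod q) = j := by
  rw [ZMod.intCast_eq_intCast_iff, ← orderOf_eq_prime (hexp c) hc, ← zpow_eq_zpow_iff_modEq]

lemma zpow_congr' [hq : Fact q.Prime] (hexp : ∀ n : N, n ^ q = 1) (c : N) {i j : ℤ}
    (h : (i : ZMod q) = j) : c ^ i = c ^ j := by
  rcases eq_or_ne c 1 with rfl | hc
  · simp
  · exact (zpow_eq_iff hexp hc i j).2 h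

/-- An endomorphism fixing every line of a subgroup is a power map on it. -/
lemma exists_scalar [hq : Fact q.Prime] (hexp : ∀ n : N, n ^ q = 1) (f : N →* N) (S : Subgroup N)
    (h : ∀ c ∈ S, f c ∈ zpowers c) : ∃ k : ℤ, ∀ c ∈ S, f c = c ^ k := by
  by_cases hS : ∀ c ∈ S, c = 1
  · exact ⟨1, fun c hc => by simp [hS c hc]⟩
  push Not at hS
  obtain ⟨c₀, hc₀, hne⟩ := hS
  obtain ⟨k, hk⟩ := h c₀ hc₀
  refine ⟨k, fun d hd => ?_⟩
  by_cases hdc : d ∈ zpowers c₀
  · obtain ⟨i, rfl⟩ := hdc
    show f (c₀ ^ i) = (c₀ ^ i) ^ k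
    rw [map_zpow, ← hk, ← zpow_mul, ← zpow_mul, mul_comm]
  obtain ⟨i, hi⟩ := h d hd
  obtain ⟨j, hj⟩ := h _ (mul_mem hc₀ hd)
  rw [map_mul, ← hk, ← hi] at hj
  simp only [mul_zpow] at hj
  have h1 : d ^ (j - i) = c₀ ^ (k - j) := by
    rw [zpow_sub, zpow_sub, eq_comm, mul_inv_eq_iff_eq_mul, mul_right_comm,
      eq_mul_inv_iff_mul_eq]
    rw [← hj, mul_comm]
  have h2 := mem_zpowers_of_zpow_mem hexp (h1 ▸ ⟨k - j, rfl⟩ : d ^ (j - i) ∈ zpowers c₀) hdc
  have h3 : c₀ ^ j = c₀ ^ k := by
    rw [h2, zpow_sub] at h1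
    exact (mul_inv_eq_one.1 h1.symm).symm
  rw [← hi]
  rw [zpow_sub, mul_inv_eq_one] at h2
  exact h2.symm.trans (zpow_congr' hexp d ((zpow_eq_iff hexp hne j k).1 h3))

/-- The fixed points of an element are a subgroup. -/
def fixedSub (f : MulAut N) : Subgroup N where
  carrier := {n | f n = n}
  one_mem' := map_one f
  mul_mem' := fun {a b} ha hb => by
    simp only [Set.mem_setOf_eq, map_mul] at *
    rw [ha, hb]
  inv_mem' := fun {a} ha => by
    simp only [Set.mem_setOf_eq, map_inv] at *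
    rw [ha]

lemma mem_fixedSub {f : MulAut N} {n : N} : n ∈ fixedSub f ↔ f n = n := Iff.rfl

/-- The displacement of an automorphism. -/
def disp (f : MulAut N) : N →* N where
  toFun n := f n / n
  map_one' := by simp
  map_mul' a b := by rw [map_mul, mul_div_mul_comm]

lemma disp_apply (f : MulAut N) (n : N) : disp f n = f n / n := rfl

variable [Finite N] [Finite U] [Nontrivial N]

theorem card_eq_prime [hq : Fact q.Prime] (hexp : ∀ n : N, n ^ q = 1)
    (hU : Cfsg.IsSupersolvable U) (φ : U →* MulAut N) (hφ : Function.Injective φ)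
    (hirr : ∀ K : Subgroup N, (∀ u, ∀ n ∈ K, φ u n ∈ K) → K = ⊥ ∨ K = ⊤)
    (hline : ∀ (p : ℕ) (x : U), p.Prime → p ≠ q → (∃ a, orderOf x = p ^ a) → ∀ n : N,
      φ x (φ x n / n) ∈ zpowers (φ x n / n)) :
    Nat.card N = q := by
  classical
  have hap : ∀ (x y : U) (n : N), φ (x * y) n = φ x (φ y n) := fun x y n => by rw [map_mul]; rfl
  have hfaith : ∀ x : U, (∀ n, φ x n = n) → x = 1 := fun x hx => hφ (by
    rw [map_one]; exact MulEquiv.ext hx)
  have hfixz : ∀ (x : U) (n : N), φ x n = n → ∀ i : ℤ, φ (x ^ i) n = n := by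
    intro x n hn i
    have h : φ x ∈ MulAction.stabilizer (MulAut N) n := hn
    rw [map_zpow]
    exact zpow_mem h i
  -- an element whose fixed points form an invariant subgroup
  have hinv : ∀ x : U, (∀ u, ∃ i : ℤ, u * x * u⁻¹ = x ^ i) → x ≠ 1 → fixedSub (φ x) = ⊥ := by
    intro x hx hx1
    refine (hirr _ fun u n hn => ?_).resolve_right fun ht => hx1 (hfaith x fun n => ?_)
    · rw [mem_fixedSub] at hn ⊢
      obtain ⟨i, hi⟩ := hx u⁻¹
      rw [inv_inv] at hi
      calc φ x (φ u n) = φ u (φ (x ^ i) n) := by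
            rw [← hap, ← hap, ← hi]; congr 2; group
        _ = φ u n := by rw [hfixz x n hn i]
    · exact mem_fixedSub.1 (ht ▸ mem_top n)
  have hqN : q ∣ Nat.card N := by
    obtain ⟨n, hn⟩ := exists_ne (1 : N)
    exact orderOf_eq_prime (hexp n) hn ▸ orderOf_dvd_natCard n
  have hqel : ∀ (x : U) (e : ℕ), orderOf x = q ^ e →
      (∀ u, ∃ i : ℤ, u * x * u⁻¹ = x ^ i) → x = 1 := by
    intro x e he hx
    by_contra hx1
    have hp : IsPGroup q (zpowers (φ x)) := IsPGroup.of_card (n := e) (by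
      rw [Nat.card_zpowers, orderOf_injective φ hφ, he])
    obtain ⟨n, hn, hn1⟩ := hp.exists_fixed_point_of_prime_dvd_card_of_fixed_point N hqN
      (a := (1 : N)) (fun g => map_one (g : MulAut N))
    refine hn1.symm (mem_bot.1 (hinv x hx hx1 ▸ (mem_fixedSub.2 ?_ : n ∈ fixedSub (φ x))))
    exact hn ⟨φ x, mem_zpowers _⟩
  have hscal : ∀ (p : ℕ) (x : U), p.Prime → (∃ e, orderOf x = p ^ e) →
      (∀ u, ∃ i : ℤ, u * x * u⁻¹ = x ^ i) → ∃ k : ℤ, ∀ n, φ x n = n ^ k := by
    intro p x hp hpe hx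
    rcases eq_or_ne x 1 with rfl | hx1
    · exact ⟨1, fun n => by simp⟩
    rcases eq_or_ne p q with rfl | hpq
    · obtain ⟨e, he⟩ := hpe
      exact absurd (hqel x e he hx) hx1
    have hinj : Function.Injective (disp (φ x)) := by
      rw [injective_iff_map_eq_one]
      intro n hn
      rw [disp_apply, div_eq_one] at hn
      exact mem_bot.1 (hinv x hx hx1 ▸ mem_fixedSub.2 hn)
    obtain ⟨k, hk⟩ := exists_scalar hexp (φ x).toMonoidHom ⊤ (fun c _ => by
      obtain ⟨n, rfl⟩ := (Finite.injective_iff_surjective.1 hinj) c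
      exact hline p x hp hpq hpe n)
    exact ⟨k, fun n => hk n (mem_top n)⟩
  by_cases hcomm : ∀ u : U, u ∈ center U
  · obtain ⟨n₀, hn₀⟩ := exists_ne (1 : N)
    have hpowS : ∀ (u : U), (∀ c ∈ zpowers n₀, φ u c ∈ zpowers n₀) →
        ∀ m : ℕ, ∀ c ∈ zpowers n₀, φ (u ^ m) c ∈ zpowers n₀ := by
      intro u hu m
      induction m with
      | zero => intro c hc; simpa using hc
      | succ m ih => intro c hc; rw [pow_succ', hap]; exact hu _ (ih c hc)
    let T : Subgroup U :=
      { carrier := {u | ∀ c ∈ zpowers n₀, φ u c ∈ zpowers n₀}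
        one_mem' := fun c hc => by simpa using hc
        mul_mem' := fun {u v} hu hv c hc => by rw [hap]; exact hu _ (hv c hc)
        inv_mem' := fun {u} hu c hc => by
          obtain ⟨m, hm⟩ : ∃ m : ℕ, u⁻¹ = u ^ m := by
            refine ⟨orderOf u - 1, inv_eq_of_mul_eq_one_right ?_⟩
            rw [← pow_succ', Nat.sub_add_cancel (orderOf_pos u), pow_orderOf_eq_one]
          rw [hm]; exact hpowS u hu m c hc }
    have hT : T = ⊤ := Transfer.eq_top_of_prime_pow_orderOf_mem fun p hp x hx c hc => by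
      obtain ⟨k, hk⟩ := hscal p x hp hx fun u => ⟨1, by
        rw [zpow_one, mem_center_iff.1 (hcomm x) u, mul_inv_cancel_right]⟩
      rw [hk]; exact zpow_mem hc k
    rcases hirr (zpowers n₀) (fun u => (hT ▸ mem_top u : u ∈ T)) with h | h
    · exact absurd (zpowers_eq_bot.1 h) hn₀
    · rw [← card_top (G := N), ← h, Nat.card_zpowers]
      exact orderOf_eq_prime (hexp n₀) hn₀
  exfalso
  push Not at hcomm
  obtain ⟨u₁, hu₁⟩ := hcomm
  have : Nontrivial (U ⧸ center U) := ⟨⟨(u₁ : U ⧸ center U), 1, fun h =>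
    hu₁ ((QuotientGroup.eq_one_iff u₁).1 h)⟩⟩
  obtain ⟨B, hBn, hBp⟩ := Cfsg.Agent.Solvable.exists_normal_prime_card
    (Cfsg.Agent.Solvable.isSupersolvable_quotient (center U) hU)
  set r := Nat.card B with hr
  have : Fact r.Prime := ⟨hBp⟩
  obtain ⟨a₁, ha₁⟩ := exists_prime_orderOf_dvd_card' (G := B) r dvd_rfl
  have hya : orderOf (a₁ : U ⧸ center U) = r := by rw [Subgroup.orderOf_coe, ha₁]
  obtain ⟨a, e₀, hae, hay⟩ : ∃ a : U, ∃ e, orderOf a = r ^ e ∧
      (a : U ⧸ center U) = (a₁ : U ⧸ center U) := by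
    obtain ⟨x, hx⟩ := QuotientGroup.mk_surjective (a₁ : U ⧸ center U)
    obtain ⟨e, m, hm, hxm⟩ := Nat.exists_eq_pow_mul_and_not_dvd (orderOf_pos x).ne' r hBp.ne_one
    obtain ⟨t, ht⟩ := exists_pow_eq_self_of_coprime (n := m) (x := (a₁ : U ⧸ center U))
      (hya.symm ▸ ((hBp.coprime_iff_not_dvd).2 hm).symm)
    have hdvd : orderOf ((x ^ m) ^ t) ∣ r ^ e := by
      apply orderOf_dvd_of_pow_eq_one
      rw [← pow_mul, ← pow_mul, show m * (t * r ^ e) = r ^ e * m * t by ring, ← hxm, pow_mul,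
        pow_orderOf_eq_one, one_pow]
    obtain ⟨e', -, he'⟩ := (Nat.dvd_prime_pow hBp).1 hdvd
    exact ⟨_, e', he', by rw [QuotientGroup.mk_pow, QuotientGroup.mk_pow, hx, ht]⟩
  have hBgen : zpowers (a : U ⧸ center U) = B := by
    rw [hay]
    refine Subgroup.eq_of_le_of_card_ge (zpowers_le.2 a₁.2) (le_of_eq ?_)
    rw [Nat.card_zpowers, hya]
  have hanc : a ∉ center U := fun h => hBp.ne_one (by
    rw [← hya, ← hay, (QuotientGroup.eq_one_iff a).2 h, orderOf_one])
  have hconj : ∀ u : U, ∃ (z : U) (j : ℕ), u * a * u⁻¹ = z * a ^ j ∧ z ∈ center U ∧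
      ∃ e, orderOf z = r ^ e := by
    intro u
    have : ((u * a * u⁻¹ : U) : U ⧸ center U) ∈ zpowers (a : U ⧸ center U) := by
      rw [QuotientGroup.mk_mul, QuotientGroup.mk_mul, QuotientGroup.mk_inv]
      have hmem : (a : U ⧸ center U) ∈ B := hBgen ▸ mem_zpowers _
      exact hBgen.symm ▸ hBn.conj_mem _ hmem _
    rw [mem_zpowers_iff_mem_range_orderOf, Finset.mem_image] at this
    obtain ⟨j, -, hj⟩ := this
    have hz : u * a * u⁻¹ * (a ^ j)⁻¹ ∈ center U := by
      rw [← QuotientGroup.eq_one_iff, QuotientGroup.mk_mul, QuotientGroup.mk_inv,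
        QuotientGroup.mk_pow, hj, mul_inv_cancel]
    refine ⟨_, j, by group, hz, ?_⟩
    set z := u * a * u⁻¹ * (a ^ j)⁻¹ with hzdef
    have hcomm' : Commute z (a ^ j) := ((mem_center_iff.1 hz) (a ^ j)).symm
    have hab : (u * a * u⁻¹) ^ (r ^ e₀) = 1 := by
      rw [← hae, conj_pow, pow_orderOf_eq_one, mul_one, mul_inv_cancel]
    have hz1 : z ^ (r ^ e₀) = 1 := by
      rw [show u * a * u⁻¹ = z * a ^ j by rw [hzdef]; group, hcomm'.mul_pow, ← pow_mul,
        mul_comm j, pow_mul, ← hae, pow_orderOf_eq_one, one_pow, mul_one] at hab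
      rwa [hae] at hab
    obtain ⟨e, -, he⟩ := (Nat.dvd_prime_pow hBp).1 (orderOf_dvd_of_pow_eq_one hz1)
    exact ⟨e, he⟩
  have hcen : ∀ z : U, z ∈ center U → ∀ u, ∃ i : ℤ, u * z * u⁻¹ = z ^ i := fun z hz u =>
    ⟨1, by rw [zpow_one, mem_center_iff.1 hz u, mul_inv_cancel_right]⟩
  have hrq : r ≠ q := by
    intro hrq
    refine hanc ((hqel a e₀ (by rw [hae, hrq]) fun u => ?_) ▸ one_mem _)
    obtain ⟨z, j, hzj, hz, e, he⟩ := hconj u
    exact ⟨j, by rw [hzj, hqel z e (by rw [he, hrq]) (hcen z hz), one_mul, zpow_natCast]⟩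
  set C := fixedSub (φ a)
  set S := (disp (φ a)).range
  obtain ⟨k, hk⟩ := exists_scalar hexp (φ a).toMonoidHom S (by
    rintro _ ⟨n, rfl⟩
    exact hline r a hBp hrq ⟨e₀, hae⟩ n)
  change ∀ c ∈ S, φ a c = c ^ k at hk
  -- the fixed points are nontrivial
  obtain ⟨c₀, hc₀, hc₀1⟩ : ∃ c ∈ C, c ≠ 1 := by
    by_contra hcon
    push Not at hcon
    refine hanc (mem_center_iff.2 fun u => hφ (MulEquiv.ext fun n => ?_))
    have hall : ∀ n, φ a n = n ^ k := by
      have hinj : Function.Injective (disp (φ a)) := by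
        rw [injective_iff_map_eq_one]
        intro n hn
        rw [disp_apply, div_eq_one] at hn
        exact hcon n hn
      exact fun n => hk n (Finite.injective_iff_surjective.1 hinj n)
    rw [hap, hap, hall, hall, map_zpow]
  obtain ⟨t₀, ht₀, ht₀1⟩ : ∃ t ∈ S, t ≠ 1 := by
    by_contra hcon
    push Not at hcon
    refine hanc ((hfaith a fun n => ?_) ▸ one_mem _)
    exact div_eq_one.1 (hcon _ ⟨n, rfl⟩)
  have hk1 : (k : ZMod q) ≠ 1 := by
    intro hk1
    have hd1 : ∀ c ∈ S, φ a c = c := fun c hc => by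
      rw [hk c hc, zpow_congr' hexp c (j := 1) (by simpa using hk1), zpow_one]
    have hpw : ∀ (i : ℕ) (n : N), φ (a ^ i) n = n * (φ a n / n) ^ i := by
      intro i n
      induction i with
      | zero => simp
      | succ i ih =>
        rw [pow_succ', hap, ih, map_mul, map_pow, hd1 (φ a n / n) ⟨n, rfl⟩, pow_succ']
        rw [← mul_assoc n, mul_div_cancel]
    have haq : a ^ q = 1 := hfaith _ fun n => by rw [hpw, hexp, mul_one]
    refine hanc ((orderOf_eq_one_iff.1 ?_ : a = 1) ▸ one_mem _)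
    have h1 : orderOf a ∣ q := orderOf_dvd_of_pow_eq_one haq
    rw [hae] at h1 ⊢
    rcases Nat.eq_zero_or_pos e₀ with h | h
    · rw [h, pow_zero]
    · exact absurd ((Nat.prime_dvd_prime_iff_eq hBp hq.out).1 ((dvd_pow_self r h.ne').trans h1)) hrq
  have hCS : ∀ n, n ∈ C → n ∈ S → n = 1 := by
    intro n hC hS
    by_contra hn
    refine hk1 ?_
    have := hk n hS
    rw [mem_fixedSub.1 hC] at this
    exact_mod_cast ((zpow_eq_iff hexp hn 1 k).1 (by rw [zpow_one]; exact this)).symm
  have hdec : ∀ n : N, ∃ c ∈ C, ∃ t ∈ S, n = c * t := by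
    intro n
    obtain ⟨i, hi⟩ := ZMod.intCast_surjective (((k : ZMod q) - 1)⁻¹)
    have hd : φ a n / n ∈ S := ⟨n, rfl⟩
    refine ⟨(n ^ (k - 1) / (φ a n / n)) ^ i, zpow_mem ?_ i, (φ a n / n) ^ i, zpow_mem hd i, ?_⟩
    · rw [mem_fixedSub, map_div, map_zpow, hk _ hd]
      nth_rw 1 [show φ a n = n * (φ a n / n) from (mul_div_cancel n _).symm]
      rw [mul_zpow, mul_div_assoc, div_eq_mul_inv ((φ a n / n) ^ (k - 1)), ← zpow_neg, ← zpow_add,
        show k - 1 + -k = (-1 : ℤ) by ring, zpow_neg_one, ← div_eq_mul_inv]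
    · rw [← mul_zpow, div_mul_cancel, ← zpow_mul, zpow_congr' hexp n (j := 1), zpow_one]
      push_cast
      rw [hi, mul_inv_cancel₀ (sub_ne_zero.2 hk1)]
  have hk0 : (k : ZMod q) ≠ 0 := by
    intro hk0
    refine ht₀1 ((φ a).injective ?_)
    rw [hk t₀ ht₀, zpow_congr' hexp t₀ (j := 0) (by simpa using hk0), zpow_zero, map_one]
  have hpowC : ∀ (j : ℕ), ∀ c ∈ C, φ (a ^ j) c = c := by
    intro j c hc
    have := hfixz a c hc j
    rwa [zpow_natCast] at this
  have hpowS : ∀ (j : ℕ), ∀ t ∈ S, φ (a ^ j) t = t ^ (k ^ j) := by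
    intro j t ht
    induction j with
    | zero => simp
    | succ j ih => rw [pow_succ', hap, ih, map_zpow, hk t ht, ← zpow_mul, ← pow_succ']
  have hsplit : ∀ {c t c' t' : N}, c ∈ C → t ∈ S → c' ∈ C → t' ∈ S → c * t = c' * t' →
      c = c' ∧ t = t' := by
    intro c t c' t' hc ht hc' ht' h
    have h1 : c / c' = t' / t := by rw [div_eq_div_iff_mul_eq_mul, h, mul_comm]
    have h2 := hCS (c / c') (div_mem hc hc') (h1 ▸ div_mem ht' ht)
    exact ⟨div_eq_one.1 h2, (div_eq_one.1 (h1 ▸ h2)).symm⟩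
  -- conjugates of `a`
  have hswap : ∀ u : U, u * a ≠ a * u →
      (∀ c ∈ C, φ (u * a * u⁻¹) c = c ^ k ∧ φ u c ∈ S) ∧
      ∀ t ∈ S, φ (u * a * u⁻¹) t = t ∧ φ u t ∈ C := by
    intro u hu
    obtain ⟨z, j, hzj, hz, hze⟩ := hconj u
    obtain ⟨s, hs⟩ := hscal r z hBp hze (hcen z hz)
    have hbC : ∀ c ∈ C, φ (u * a * u⁻¹) c = c ^ s := fun c hc => by
      rw [hzj, hap, hpowC j c hc, hs]
    have hbS : ∀ t ∈ S, φ (u * a * u⁻¹) t = t ^ (k ^ j * s) := fun t ht => by
      rw [hzj, hap, hpowS j t ht, hs, ← zpow_mul]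
    have hbu : ∀ n, φ (u * a * u⁻¹) (φ u n) = φ u (φ a n) := fun n => by
      rw [← hap, inv_mul_cancel_right, hap]
    have heig : ∀ (w : N) (l : ℤ), φ (u * a * u⁻¹) w = w ^ l → ∀ c ∈ C, ∀ t ∈ S, w = c * t →
        (c = 1 ∨ (s : ZMod q) = l) ∧ (t = 1 ∨ ((k ^ j * s : ℤ) : ZMod q) = l) := by
      intro w l hw c hc t ht hct
      rw [hct, map_mul, hbC c hc, hbS t ht, mul_zpow] at hw
      obtain ⟨h1, h2⟩ := hsplit (zpow_mem hc _) (zpow_mem ht _) (zpow_mem hc _) (zpow_mem ht _) hw
      exact ⟨(em (c = 1)).imp_right fun h => (zpow_eq_iff hexp h _ _).1 h1,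
        (em (t = 1)).imp_right fun h => (zpow_eq_iff hexp h _ _).1 h2⟩
    have hfixu : ∀ c ∈ C, φ (u * a * u⁻¹) (φ u c) = φ u c ^ (1 : ℤ) := fun c hc => by
      rw [hbu, mem_fixedSub.1 hc, zpow_one]
    have heigu : ∀ t ∈ S, φ (u * a * u⁻¹) (φ u t) = φ u t ^ k := fun t ht => by
      rw [hbu, hk t ht, map_zpow]
    have hs1 : (s : ZMod q) ≠ 1 := by
      intro hs1
      obtain ⟨c, hc, t, ht, hct⟩ := hdec (φ u t₀)
      obtain ⟨h1, h2⟩ := heig _ k (heigu t₀ ht₀) c hc t ht hct
      have hne : φ u t₀ ≠ 1 := fun h => ht₀1 ((map_eq_one_iff _ (φ u).injective).1 h)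
      have hc1 : c = 1 := h1.resolve_right fun h => hk1 (h.symm.trans hs1)
      have ht1 : t ≠ 1 := fun ht1 => hne (by rw [hct, hc1, ht1, one_mul])
      have hkj := h2.resolve_left ht1
      apply hu
      have hbn : u * a * u⁻¹ = a := hφ (MulEquiv.ext fun n => by
        obtain ⟨c', hc', t', ht', rfl⟩ := hdec n
        rw [map_mul (φ (u * a * u⁻¹)), map_mul (φ a), hbC c' hc', hbS t' ht', hk t' ht',
          mem_fixedSub.1 hc',
          zpow_congr' hexp c' (j := 1) (by simpa using hs1), zpow_one,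
          zpow_congr' hexp t' hkj])
      calc u * a = u * a * u⁻¹ * u := by group
        _ = a * u := by rw [hbn]
    obtain ⟨c, hc, t, ht, hct⟩ := hdec (φ u c₀)
    obtain ⟨h1, h2⟩ := heig _ 1 (hfixu c₀ hc₀) c hc t ht hct
    have hne : φ u c₀ ≠ 1 := fun h => hc₀1 ((map_eq_one_iff _ (φ u).injective).1 h)
    have hc1 : c = 1 := h1.resolve_right (by simpa using hs1)
    have ht1 : t ≠ 1 := fun ht1 => hne (by rw [hct, hc1, ht1, one_mul])
    have hkj : ((k ^ j * s : ℤ) : ZMod q) = 1 := by simpa using h2.resolve_left ht1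
    have hsk : (s : ZMod q) = k := by
      obtain ⟨c, hc, t, ht, hct⟩ := hdec (φ u t₀)
      obtain ⟨h1, h2⟩ := heig _ k (heigu t₀ ht₀) c hc t ht hct
      have hne : φ u t₀ ≠ 1 := fun h => ht₀1 ((map_eq_one_iff _ (φ u).injective).1 h)
      have ht1 : t = 1 := h2.resolve_right fun h => hk1 (h.symm.trans hkj)
      exact h1.resolve_left fun hc1 => hne (by rw [hct, hc1, ht1, one_mul])
    refine ⟨fun c hc => ⟨by rw [hbC c hc, zpow_congr' hexp c hsk], ?_⟩, fun t ht => ⟨?_, ?_⟩⟩
    · obtain ⟨c', hc', t', ht', hct⟩ := hdec (φ u c)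
      have := (heig _ 1 (hfixu c hc) c' hc' t' ht' hct).1.resolve_right (by simpa using hs1)
      rw [hct, this, one_mul]; exact ht'
    · rw [hbS t ht, zpow_congr' hexp t (j := 1) (by simpa using hkj), zpow_one]
    · obtain ⟨c', hc', t', ht', hct⟩ := hdec (φ u t)
      have := (heig _ k (heigu t ht) c' hc' t' ht' hct).2.resolve_right fun h =>
        hk1 (h.symm.trans hkj)
      rw [hct, this, mul_one]; exact hc'
  obtain ⟨u₀, hu₀⟩ : ∃ u : U, u * a ≠ a * u := by
    by_contra hcon
    push Not at hcon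
    exact hanc (mem_center_iff.2 hcon)
  -- the eigenvalue is `-1` and `a` is an involution
  have hkneg : (k : ZMod q) = -1 := by
    obtain ⟨hC', hS'⟩ := hswap u₀ hu₀
    obtain ⟨l, hl⟩ := ZMod.intCast_surjective ((k : ZMod q)⁻¹)
    have hainv : ∀ t ∈ S, φ a⁻¹ t = t ^ l := fun t ht => by
      apply (φ a).injective
      rw [← hap, mul_inv_cancel, map_one, map_zpow, hk t ht, ← zpow_mul]
      show t = _
      nth_rw 1 [← zpow_one t]
      apply zpow_congr' hexp
      push_cast
      rw [hl, mul_inv_cancel₀ hk0]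
    have hainvC : ∀ c ∈ C, φ a⁻¹ c = c := fun c hc => by
      apply (φ a).injective
      rw [← hap, mul_inv_cancel, map_one]
      exact (mem_fixedSub.1 hc).symm
    have hl1 : (l : ZMod q) ≠ 1 := fun h => hk1 (by
      have := congrArg (· * (k : ZMod q)) (hl.symm.trans h)
      simpa [inv_mul_cancel₀ hk0] using this.symm)
    set ee := u₀ * a * u₀⁻¹ * a⁻¹ with hee
    have hcm : Commute (u₀ * a * u₀⁻¹) a := by
      obtain ⟨z, j, hzj, hz, -⟩ := hconj u₀
      rw [hzj]
      exact Commute.mul_left (mem_center_iff.1 hz a).symm (Commute.pow_self a j)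
    have heo : ∃ e, orderOf ee = r ^ e := by
      have h1 : ee ^ (r ^ e₀) = 1 := by
        rw [hee, hcm.inv_right.mul_pow, conj_pow, inv_pow, ← hae, pow_orderOf_eq_one]
        group
      obtain ⟨e, -, he⟩ := (Nat.dvd_prime_pow hBp).1 (orderOf_dvd_of_pow_eq_one h1)
      exact ⟨e, he⟩
    have heC : ∀ c ∈ C, φ ee c = c ^ k := fun c hc => by
      rw [hee, hap, hainvC c hc, (hC' c hc).1]
    have heS : ∀ t ∈ S, φ ee t = t ^ l := fun t ht => by
      rw [hee, hap, hainv t ht, map_zpow, (hS' t ht).1]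
    obtain ⟨m, hm⟩ := hline r ee hBp hrq heo (c₀ * t₀)
    have hd : φ ee (c₀ * t₀) / (c₀ * t₀) = c₀ ^ (k - 1) * t₀ ^ (l - 1) := by
      rw [map_mul, heC c₀ hc₀, heS t₀ ht₀, zpow_sub_one, zpow_sub_one, ← div_mul_div_comm,
        div_eq_mul_inv, div_eq_mul_inv]
    rw [hd, map_mul, map_zpow, map_zpow, heC c₀ hc₀, heS t₀ ht₀] at hm
    simp only [mul_zpow, ← zpow_mul] at hm
    obtain ⟨h1, h2⟩ := hsplit (zpow_mem hc₀ _) (zpow_mem ht₀ _) (zpow_mem hc₀ _)
      (zpow_mem ht₀ _) hm
    rw [zpow_eq_iff hexp hc₀1] at h1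
    rw [zpow_eq_iff hexp ht₀1] at h2
    push_cast at h1 h2
    have hmk : (m : ZMod q) = k := mul_left_cancel₀ (sub_ne_zero.2 hk1) (h1.trans (mul_comm _ _))
    have hml : (m : ZMod q) = l := mul_left_cancel₀ (sub_ne_zero.2 hl1) (h2.trans (mul_comm _ _))
    have hkl : (k : ZMod q) * k = 1 := by
      rw [show (k : ZMod q) * k = k * l by rw [← hml, hmk], hl, mul_inv_cancel₀ hk0]
    exact (mul_self_eq_one_iff.1 hkl).resolve_left hk1
  have hq2 : (-1 : ZMod q) ≠ 1 := hkneg ▸ hk1
  have hinvC : ∀ c : N, c ^ k = c⁻¹ := fun c => by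
    rw [zpow_congr' hexp c (j := -1) (by simpa using hkneg), zpow_neg_one]
  have hb : ∀ u : U, u * a ≠ a * u → ∀ n, φ (u * a * u⁻¹) n = (φ a n)⁻¹ := by
    intro u hu n
    obtain ⟨c, hc, t, ht, rfl⟩ := hdec n
    obtain ⟨hC', hS'⟩ := hswap u hu
    rw [map_mul (φ (u * a * u⁻¹)), map_mul (φ a), (hC' c hc).1, (hS' t ht).1, hinvC, mem_fixedSub.1 hc, hk t ht, hinvC,
      mul_inv, inv_inv]
  have hsq : ∀ u : U, (u * u) * a = a * (u * u) := by
    intro u
    by_cases hu : u * a = a * u
    · rw [mul_assoc, hu, ← mul_assoc, hu, mul_assoc]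
    have h1 : u * (u * a * u⁻¹) * u⁻¹ = a := hφ (MulEquiv.ext fun n => by
      obtain ⟨w, rfl⟩ : ∃ w, φ u w = n := (φ u).surjective n
      rw [← hap, inv_mul_cancel_right, hap, hb u hu, map_inv, ← hap u a w,
        show φ (u * a) w = φ (u * a * u⁻¹) (φ u w) by rw [← hap, inv_mul_cancel_right],
        hb u hu, inv_inv])
    calc u * u * a = u * (u * a * u⁻¹) * u⁻¹ * (u * u) := by group
      _ = a * (u * u) := by rw [h1]
  obtain ⟨v, hv, hv2⟩ : ∃ v : U, v * a ≠ a * v ∧ ∃ e, orderOf v = 2 ^ e := by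
    by_contra hcon
    push Not at hcon
    have hT : centralizer ({a} : Set U) = ⊤ := Transfer.eq_top_of_prime_pow_orderOf_mem
      fun p hp x hx => by
        rw [mem_centralizer_singleton_iff]
        rcases hp.eq_two_or_odd' with rfl | hodd
        · by_contra h
          exact (hx.elim fun e he => hcon x (fun h' => h h') e he)
        · obtain ⟨e, he⟩ := hx
          obtain ⟨t, ht⟩ := exists_pow_eq_self_of_coprime (n := 2) (x := x)
            (he ▸ (Nat.coprime_two_left.2 hodd.pow))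
          rw [← ht, pow_two]
          exact (Commute.pow_left (hsq x) t).eq
    exact hanc (mem_center_iff.2 fun g => mem_centralizer_singleton_iff.1 (hT ▸ mem_top g))
  -- a 2-element exchanging the eigenspaces is an involution
  have hinvol : ∀ v : U, v * a ≠ a * v → (∃ e, orderOf v = 2 ^ e) → v * v = 1 := by
    intro v hv hv2
    obtain ⟨hC', hS'⟩ := hswap v hv
    have hq2' : (2 : ℕ) ≠ q := by
      rintro rfl
      exact hq2 (ZMod.neg_eq_self_mod_two 1)
    have key : ∀ c w : N, φ v c = w → c ≠ 1 →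
        (∀ m : ℤ, φ v w * c ^ m = w ^ (m + 1) → φ v w * c ^ m = 1) → φ v w = c := by
      intro c w hcw hc1 hsep
      obtain ⟨l, hl⟩ := hline 2 v Nat.prime_two hq2' hv2 c
      simp only [hcw, map_div, div_zpow] at hl
      have h1 : φ v w * c ^ l = w ^ (l + 1) := by
        rw [zpow_add_one]
        exact ((div_eq_div_iff_mul_eq_mul).1 hl.symm)
      have h2 := hsep l h1
      rw [h2] at h1
      have hw1 : w ≠ 1 := fun h => hc1 ((map_eq_one_iff _ (φ v).injective).1 (hcw.trans h))
      have hl1 : ((l + 1 : ℤ) : ZMod q) = ((0 : ℤ) : ZMod q) :=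
        (zpow_eq_iff hexp hw1 _ _).1 (by rw [zpow_zero]; exact h1.symm)
      push_cast at hl1
      rw [zpow_congr' hexp c (j := -1) (by push_cast; linear_combination hl1), zpow_neg_one,
        mul_inv_eq_one] at h2
      exact h2
    have hone : ∀ c, c ∈ C → φ v (φ v c) = c := fun c hc => by
      rcases eq_or_ne c 1 with rfl | hc1
      · simp
      refine key c _ rfl hc1 fun m hm => hCS _ (mul_mem (hS' _ (hC' c hc).2).2 (zpow_mem hc m)) ?_
      rw [hm]; exact zpow_mem (hC' c hc).2 _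
    have hone' : ∀ t, t ∈ S → φ v (φ v t) = t := fun t ht => by
      rcases eq_or_ne t 1 with rfl | ht1
      · simp
      refine key t _ rfl ht1 fun m hm => hCS _ ?_ (mul_mem (hC' _ (hS' t ht).2).2 (zpow_mem ht m))
      rw [hm]; exact zpow_mem (hS' t ht).2 _
    exact hfaith _ fun n => by
      obtain ⟨c, hc, t, ht, rfl⟩ := hdec n
      rw [hap, map_mul, map_mul, hone c hc, hone' t ht]
  have hvv := hinvol v hv hv2
  have hvinv : v⁻¹ = v := inv_eq_of_mul_eq_one_right hvv
  have haa : ∀ n, φ a (φ a n) = n := fun n => by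
    obtain ⟨c, hc, t, ht, rfl⟩ := hdec n
    rw [map_mul, map_mul, mem_fixedSub.1 hc, mem_fixedSub.1 hc, hk t ht, hinvC, map_inv, hk t ht,
      hinvC, inv_inv]
  have hva : ∀ n, φ ((v * a) * (v * a)) n = n⁻¹ := fun n => by
    rw [show (v * a) * (v * a) = (v * a * v⁻¹) * a by rw [hvinv]; group, hap, hb v hv, haa]
  have hva4 : orderOf (v * a) ∣ 2 ^ 2 := orderOf_dvd_of_pow_eq_one (hfaith _ fun n => by
    rw [show (v * a) ^ (2 ^ 2) = ((v * a) * (v * a)) * ((v * a) * (v * a)) by
      simp [pow_succ, mul_assoc], hap, hva, hva, inv_inv])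
  obtain ⟨e, -, he⟩ := (Nat.dvd_prime_pow Nat.prime_two).1 hva4
  have hva' : v * a * a ≠ a * (v * a) := fun h => hv (by
    rw [← mul_assoc] at h
    exact mul_right_cancel h)
  have h1 := hinvol (v * a) hva' ⟨e, he⟩
  have h2 := hva c₀
  rw [h1, map_one] at h2
  refine hq2 ?_
  have h3 : c₀ ^ (-1 : ℤ) = c₀ ^ (1 : ℤ) := by rw [zpow_neg_one, zpow_one]; exact h2.symm
  simpa using (zpow_eq_iff hexp hc₀1 _ _).1 h3

end Irreducible

lemma hypothesis_quotient {G : Type u} [Group G] [Finite G] (K : Subgroup G) [K.Normal]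
    (h : ∀ (p q : ℕ), p.Prime → q.Prime → p ≠ q → ∀ (x g : G), (∃ a : ℕ, orderOf x = p ^ a) →
      (∃ b : ℕ, orderOf g = q ^ b) →
      ¬ q ^ 2 ∣ Nat.card ↥(zpowers x ⊔ zpowers (g * x * g⁻¹))) :
    ∀ (p q : ℕ), p.Prime → q.Prime → p ≠ q → ∀ (x g : G ⧸ K), (∃ a : ℕ, orderOf x = p ^ a) →
      (∃ b : ℕ, orderOf g = q ^ b) →
      ¬ q ^ 2 ∣ Nat.card ↥(zpowers x ⊔ zpowers (g * x * g⁻¹)) := by
  intro p q hp hq hpq x g hx hg
  have lift : ∀ {r : ℕ}, r.Prime → ∀ y : G ⧸ K, (∃ e, orderOf y = r ^ e) →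
      ∃ x : G, (x : G ⧸ K) = y ∧ ∃ e, orderOf x = r ^ e := by
    intro r hr y ⟨ey, hey⟩
    obtain ⟨x, hx⟩ := QuotientGroup.mk_surjective y
    obtain ⟨e, m, hm, hxm⟩ := Nat.exists_eq_pow_mul_and_not_dvd (orderOf_pos x).ne' r hr.ne_one
    obtain ⟨t, ht⟩ := exists_pow_eq_self_of_coprime (n := m) (x := y)
      (hey.symm ▸ (((hr.coprime_iff_not_dvd).2 hm).symm.pow_right ey))
    have hdvd : orderOf ((x ^ m) ^ t) ∣ r ^ e := by
      apply orderOf_dvd_of_pow_eq_one
      rw [← pow_mul, ← pow_mul, show m * (t * r ^ e) = r ^ e * m * t by ring, ← hxm, pow_mul,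
        pow_orderOf_eq_one, one_pow]
    obtain ⟨e', -, he'⟩ := (Nat.dvd_prime_pow hr).1 hdvd
    exact ⟨_, by rw [QuotientGroup.mk_pow, QuotientGroup.mk_pow, hx, ht], e', he'⟩
  obtain ⟨x', rfl, hx'⟩ := lift hp x hx
  obtain ⟨g', rfl, hg'⟩ := lift hq g hg
  intro hdvd
  refine h p q hp hq hpq x' g' hx' hg' (hdvd.trans ?_)
  have : zpowers (x' : G ⧸ K) ⊔ zpowers ((g' : G ⧸ K) * x' * (g' : G ⧸ K)⁻¹) =
      (zpowers x' ⊔ zpowers (g' * x' * g'⁻¹)).map (QuotientGroup.mk' K) := by
    rw [Subgroup.map_sup, MonoidHom.map_zpowers, MonoidHom.map_zpowers]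
    rfl
  rw [this]
  exact card_map_dvd _ _

lemma hasNormalPComplement_of_isSupersolvable :
    ∀ (n : ℕ) (G : Type u) [Group G] [Finite G], Nat.card G ≤ n → Cfsg.IsSupersolvable G →
      ∀ p : ℕ, Fact p.Prime → (∀ r, r.Prime → r ∣ Nat.card G → p ≤ r) →
      Cfsg.HasNormalPComplement p G := by
  intro n
  induction n with
  | zero =>
    intro G _ _ hn
    exact absurd hn (by have := Nat.card_pos (α := G); omega)
  | succ n ih =>
    intro G _ _ hn hG p hp hmin
    by_cases hall : ∀ r, r.Prime → r ∣ Nat.card G → r = p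
    · have hPG : IsPGroup p G := IsPGroup.of_card
        (Nat.eq_prime_pow_of_unique_prime_dvd Nat.card_pos.ne' (fun {r} => hall r))
      have : (⊥ : Subgroup G).Normal := inferInstance
      exact Transfer.hasNormalPComplement_of_not_dvd_card (N := (⊥ : Subgroup G))
        (by simp [hp.out.ne_one]) (hPG.to_quotient ⊥)
    push Not at hall
    obtain ⟨r₀, hr₀, hr₀d, hr₀p⟩ := hall
    have hne : (Nat.card G).primeFactors.Nonempty :=
      ⟨r₀, Nat.mem_primeFactors.2 ⟨hr₀, hr₀d, Nat.card_pos.ne'⟩⟩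
    set q := (Nat.card G).primeFactors.max' hne with hqdef
    have hq := Nat.mem_primeFactors.1 ((Nat.card G).primeFactors.max'_mem hne)
    rw [← hqdef] at hq
    have hmax : ∀ r, r.Prime → r ∣ Nat.card G → r ≤ q := fun r hr hd =>
      Finset.le_max' _ r (Nat.mem_primeFactors.2 ⟨hr, hd, Nat.card_pos.ne'⟩)
    obtain ⟨K, hK, hKc⟩ := Cfsg.Agent.Solvable.exists_normal_card_eq_max_prime hG hq.1 hq.2.1 hmax
    have hqp : p < q := lt_of_lt_of_le
      (lt_of_le_of_ne (hmin r₀ hr₀ hr₀d) (Ne.symm hr₀p)) (hmax r₀ hr₀ hr₀d)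
    have hKb : K ≠ ⊥ := fun h => hq.1.ne_one (by rw [← hKc, h, card_bot])
    refine PComplement.hasNormalPComplement_of_quotient (N := K)
      (by rw [hKc]; exact (Nat.coprime_primes hq.1 hp.out).2 hqp.ne') ?_
    exact ih _ (by have := Cfsg.Agent.Solvable.card_quotient_lt K hKb; omega)
      (Cfsg.Agent.Solvable.isSupersolvable_quotient K hG) p hp
      (fun r hr hd => hmin r hr (hd.trans (card_quotient_dvd_card K)))

theorem main : ∀ (n : ℕ) (G : Type u) [Group G] [Finite G], Nat.card G ≤ n →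
    (∀ (p q : ℕ), p.Prime → q.Prime → p ≠ q → ∀ (x g : G), (∃ a : ℕ, orderOf x = p ^ a) →
      (∃ b : ℕ, orderOf g = q ^ b) →
      ¬ q ^ 2 ∣ Nat.card ↥(zpowers x ⊔ zpowers (g * x * g⁻¹))) →
    Cfsg.IsSupersolvable G := by
  intro n
  induction n with
  | zero =>
    intro G _ _ hn
    exact absurd hn (by have := Nat.card_pos (α := G); omega)
  | succ n ih =>
    intro G _ _ hn h
    rcases subsingleton_or_nontrivial G with hs | hs
    · exact Cfsg.Agent.Solvable.isSupersolvable_of_subsingleton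
    have hsub : ∀ H : Subgroup G, H ≠ ⊤ → Cfsg.IsSupersolvable H := by
      intro H hH
      refine ih _ ?_ ?_
      · have : Nat.card H < Nat.card G := by
          refine lt_of_le_of_ne (card_le_card_group H) fun he => hH (eq_top_of_card_eq H he)
        omega
      · intro p q hp hq hpq x g hx hg hdvd
        refine h p q hp hq hpq x g (by rwa [Subgroup.orderOf_coe]) (by rwa [Subgroup.orderOf_coe]) ?_
        have heq : zpowers (x : G) ⊔ zpowers ((g : G) * x * (g : G)⁻¹) =
            (zpowers x ⊔ zpowers (g * x * g⁻¹)).map H.subtype := by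
          rw [Subgroup.map_sup, MonoidHom.map_zpowers, MonoidHom.map_zpowers]
          rfl
        rw [heq, card_map_of_injective H.subtype_injective]
        exact hdvd
    have hquo : ∀ (K : Subgroup G) [K.Normal], K ≠ ⊥ → Cfsg.IsSupersolvable (G ⧸ K) :=
      fun K _ hK => ih _ (by have := Cfsg.Agent.Solvable.card_quotient_lt K hK; omega)
        (hypothesis_quotient K h)
    by_cases hnil : ∃ p : ℕ, p.Prime ∧ IsPGroup p G
    · obtain ⟨p, hp, hpG⟩ := hnil
      have := Fact.mk hp
      exact Cfsg.Agent.Solvable.isSupersolvable_of_isPGroup hpG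
    push Not at hnil
    -- a proper nontrivial normal subgroup exists
    obtain ⟨K₀, hK₀, hK₀b, hK₀t⟩ : ∃ K : Subgroup G, K.Normal ∧ K ≠ ⊥ ∧ K ≠ ⊤ := by
      by_contra hsimp
      push Not at hsimp
      have hp := Nat.minFac_prime (Finite.one_lt_card (α := G)).ne'
      set p := (Nat.card G).minFac
      have := Fact.mk hp
      have hcomp : Cfsg.HasNormalPComplement p G := by
        refine Transfer.hasNormalPComplement_of_normalizer_centralizer default
          fun Q hQP hQ g hg hgp => ?_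
        have hQpg : IsPGroup p Q := (default : Sylow p G).isPGroup'.to_le hQP
        have hNtop : normalizer (Q : Set G) ≠ ⊤ := by
          intro htop
          have hQn : Q.Normal := normalizer_eq_top_iff.1 htop
          exact hnil p hp (hQpg.of_equiv ((hsimp Q hQn hQ) ▸ Subgroup.topEquiv))
        have hcompN := hasNormalPComplement_of_isSupersolvable (Nat.card _) _ le_rfl
          (hsub _ hNtop) p inferInstance (fun r hr hd =>
            Nat.minFac_le_of_dvd hr.two_le (hd.trans (card_subgroup_dvd_card _)))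
        have hmem := Transfer.mem_centralizer_of_hasNormalPComplement hcompN
          (Q := Q.subgroupOf (normalizer (Q : Set G)))
          (hQpg.of_equiv (subgroupOfEquivOfLe (le_normalizer)).symm)
          (g := ⟨g, hg⟩) (by
            rw [normalizer_eq_top_iff.2 normal_in_normalizer]
            exact mem_top _)
          (by rwa [Subgroup.orderOf_mk])
        rw [mem_centralizer_iff] at hmem ⊢
        intro x hx
        exact congrArg Subtype.val (hmem ⟨x, le_normalizer hx⟩ hx)
      obtain ⟨P, K, hKn, hK⟩ := hcomp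
      rcases eq_or_ne K ⊥ with rfl | hKb
      · have : (P : Subgroup G) = ⊤ := isComplement'_bot_left.1 hK
        exact hnil p hp (P.isPGroup'.of_equiv (this ▸ Subgroup.topEquiv))
      · rw [hsimp K hKn hKb] at hK
        have hPb : (P : Subgroup G) = ⊥ := isComplement'_top_left.1 hK
        have := P.card_eq_multiplicity
        rw [hPb, card_bot] at this
        have hpos : 0 < (Nat.card G).factorization p :=
          hp.factorization_pos_of_dvd Nat.card_pos.ne' (Nat.minFac_dvd _)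
        exact absurd this.symm (Nat.one_lt_pow hpos.ne' hp.one_lt).ne'
    have : Group.IsSolvable G := by
      have h1 := Cfsg.Agent.Solvable.isSolvable_of_isSupersolvable (hsub K₀ hK₀t)
      have h2 := Cfsg.Agent.Solvable.isSolvable_of_isSupersolvable (hquo K₀ hK₀b)
      exact Group.isSolvable_of_ker_le_range K₀.subtype (QuotientGroup.mk' K₀)
        (by rw [QuotientGroup.ker_mk', range_subtype])
    refine Cfsg.Agent.Huppert.isSupersolvable_of_maximal_prime_index fun M hM => ?_
    by_cases hcore : M.normalCore = ⊥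
    · obtain ⟨N, hN⟩ := Cfsg.Agent.Fitting.exists_isMinNormal (G := G)
      have : N.Normal := hN.1
      have hcomm : IsMulCommutative N := Cfsg.Agent.Fitting.IsMinNormal.isMulCommutative hN
      obtain ⟨q, hq, -, -, hexp, -⟩ :=
        Cfsg.Agent.Solvable.exists_prime_of_minimal_normal N hN.2.1 hN.2.2
      have := Fact.mk hq
      have hcompl := Cfsg.Agent.Solvable.isComplement'_of_abelian_minimal hM hcore N hN.2.1
      rw [hcompl.index_eq_card]
      suffices hcard : Nat.card N = q by rwa [hcard]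
      have : Nontrivial N := (Subgroup.nontrivial_iff_ne_bot N).2 hN.2.1
      open scoped IsMulCommutative in
      refine card_eq_prime (fun m => ?_) (hsub M hM.1)
        ((MulAut.conjNormal (H := N)).comp M.subtype) ?_ ?_ ?_
      · exact Subtype.ext (by simpa using hexp m m.2)
      · rw [injective_iff_map_eq_one]
        intro x hx
        have hx' : (x : G) ∈ centralizer (N : Set G) ⊓ M := ⟨mem_centralizer_iff.2 fun m hm => by
          have := congrArg Subtype.val (MulEquiv.congr_fun hx ⟨m, hm⟩)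
          simp only [MonoidHom.coe_comp, coe_subtype, Function.comp_apply,
            MulAut.conjNormal_apply, MulAut.one_apply] at this
          nth_rw 1 [← this]
          group, x.2⟩
        rw [Cfsg.Agent.Solvable.centralizer_inf_eq_bot hM hcore N hN.2.1, mem_bot] at hx'
        exact Subtype.ext hx'
      · intro K hK
        have hKn : (K.map N.subtype).Normal := by
          rw [← normalizer_eq_top_iff, eq_top_iff, ← hcompl.sup_eq_top]
          refine sup_le ?_ ?_
          · intro m hm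
            rw [mem_normalizer_iff]
            intro y
            constructor
            · rintro ⟨y, hy, rfl⟩
              refine ⟨y, hy, ?_⟩
              show (y : G) = m * y * m⁻¹
              rw [setLike_mul_comm hm y.2, mul_inv_cancel_right]
            · rintro ⟨y', hy, he⟩
              refine ⟨y', hy, ?_⟩
              have he' : (y' : G) = m * y * m⁻¹ := he
              have : y = m⁻¹ * y' * m := by rw [he']; group
              rw [this, setLike_mul_comm (inv_mem hm) y'.2, inv_mul_cancel_right]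
              rfl
          · intro x hx
            rw [mem_normalizer_iff]
            intro y
            constructor
            · rintro ⟨y, hy, rfl⟩
              exact ⟨_, hK ⟨x, hx⟩ y hy, by simp [MulAut.conjNormal_apply]⟩
            · rintro ⟨y', hy, he⟩
              refine ⟨_, hK ⟨x, hx⟩⁻¹ y' hy, ?_⟩
              have he' : (y' : G) = x * y * x⁻¹ := he
              simp [MulAut.conjNormal_apply, he', mul_assoc]
        rcases hN.2.2 _ hKn (map_subtype_le K) with h0 | h0
        · exact .inl ((map_eq_bot_iff_of_injective _ N.subtype_injective).1 h0)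
        · refine .inr (map_injective N.subtype_injective (h0.trans ?_))
          rw [← MonoidHom.range_eq_map, range_subtype]
      · intro p x hp hpq hx m
        set ψ : M →* MulAut N := (MulAut.conjNormal (H := N)).comp M.subtype
        set c : N := ψ x m / m with hc
        by_contra hcon
        have hb : ∃ b, orderOf (m : G) = q ^ b := by
          rcases eq_or_ne (m : G) 1 with h1 | h1
          · exact ⟨0, by simp [h1]⟩
          · exact ⟨1, by rw [pow_one]; exact orderOf_eq_prime (hexp m m.2) h1⟩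
        refine h p q hp hq hpq (x : G) m (by rwa [Subgroup.orderOf_coe]) hb ?_
        set D := zpowers (x : G) ⊔ zpowers ((m : G) * x * (m : G)⁻¹)
        have hxD : (x : G) ∈ D := mem_sup_left (mem_zpowers _)
        have hcD : c ∈ D.subgroupOf N := by
          rw [mem_subgroupOf]
          have hcv : (c : G) = x * m * (x : G)⁻¹ * (m : G)⁻¹ := by
            simp [hc, ψ, MulAut.conjNormal_apply, div_eq_mul_inv]
          have he : (c : G) = x * ((m : G) * x * (m : G)⁻¹)⁻¹ := by rw [hcv]; group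
          rw [he]
          exact mul_mem hxD (inv_mem (mem_sup_right (mem_zpowers _)))
        have hxcD : ψ x c ∈ D.subgroupOf N := by
          rw [mem_subgroupOf]
          simp only [ψ, MonoidHom.coe_comp, coe_subtype, Function.comp_apply,
            MulAut.conjNormal_apply]
          exact mul_mem (mul_mem hxD (mem_subgroupOf.1 hcD)) (inv_mem hxD)
        have hc1 : c ≠ 1 := fun h1 => hcon (by rw [h1, map_one]; exact one_mem _)
        have hlt : Nat.card (zpowers c) < Nat.card (D.subgroupOf N) := by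
          refine lt_of_le_of_ne (card_le_of_le (zpowers_le.2 hcD)) fun he => hcon ?_
          rw [Subgroup.eq_of_le_of_card_ge (zpowers_le.2 hcD) he.ge]
          exact hxcD
        have hpD : IsPGroup q (D.subgroupOf N) := fun g =>
          ⟨1, Subtype.ext (Subtype.ext (by simpa using hexp _ g.1.2))⟩
        obtain ⟨b, hb⟩ := IsPGroup.iff_card.1 hpD
        rw [Nat.card_zpowers, orderOf_eq_prime (Subtype.ext (by simpa using hexp _ c.2)) hc1,
          hb] at hlt
        have hb2 : 2 ≤ b := by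
          by_contra hb2
          have : q ^ b ≤ q ^ 1 := Nat.pow_le_pow_right hq.pos (by omega)
          rw [pow_one] at this
          omega
        have hdd : Nat.card (D.subgroupOf N) ∣ Nat.card D := by
          rw [← card_map_of_injective (K := D.subgroupOf N) N.subtype_injective,
            subgroupOf_map_subtype]
          exact card_dvd_of_le inf_le_left
        exact (pow_dvd_pow q hb2).trans (hb ▸ hdd)
    · have := hquo M.normalCore hcore
      have hle : (QuotientGroup.mk' M.normalCore).ker ≤ M := by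
        rw [QuotientGroup.ker_mk']; exact normalCore_le M
      have hidx : (M.map (QuotientGroup.mk' M.normalCore)).index = M.index :=
        index_map_eq M (QuotientGroup.mk'_surjective _) hle
      rw [← hidx]
      refine Cfsg.Agent.Solvable.index_maximal_prime this ⟨fun htop => hM.1 ?_, fun K hK => ?_⟩
      · exact (comap_map_eq_self hle).symm.trans (by rw [htop, comap_top])
      · have hcm : M < K.comap (QuotientGroup.mk' M.normalCore) :=
          lt_of_eq_of_lt (comap_map_eq_self hle).symm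
            ((comap_lt_comap_of_surjective (QuotientGroup.mk'_surjective _)).2 hK)
        have := hM.2 _ hcm
        rw [← map_comap_eq_self_of_surjective (QuotientGroup.mk'_surjective _) K, this]
        exact map_top_of_surjective _ (QuotientGroup.mk'_surjective _)

end Cfsg.Agent.LocalEven61.ConjPair
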