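import Cfsg.Prelude.Def_LocalEven
import Cfsg.Agent.LocalEven61.Conj

/-!
A strongly closed abelian subgroup of a Sylow subgroup controls strong fusion.
-/

set_option autoImplicit false
set_option linter.style.haveILetI false

open scoped Pointwise

namespace Cfsg.Agent.LocalEven61

variable {G : Type*} [Group G] {p : ℕ}

theorem conj_mem_iff_of_normalizer {H : Subgroup G} {g : G}
    (hg : g ∈ Subgroup.normalizer (H : Set G)) (x : G) : g * x * g⁻¹ ∈ H ↔ x ∈ H :=
  ((Subgroup.mem_normalizer_iff.1 hg) x).symm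

/-- The elements of `N(D)` acting trivially on `A ⊓ D` and on `D` modulo `A`. -/
def chainStab (A D : Subgroup G) : Subgroup G where
  carrier := {x | x ∈ Subgroup.normalizer (D : Set G) ∧ (∀ d ∈ D, x * d * x⁻¹ * d⁻¹ ∈ A) ∧
    ∀ a ∈ A, a ∈ D → x * a = a * x}
  one_mem' := ⟨one_mem _, fun d _ => by simp, fun a _ _ => by simp⟩
  mul_mem' := by
    rintro x y ⟨hx, hx1, hx2⟩ ⟨hy, hy1, hy2⟩
    refine ⟨mul_mem hx hy, fun d hd => ?_, fun a ha had => by
      rw [mul_assoc, hy2 a ha had, ← mul_assoc, hx2 a ha had, mul_assoc]⟩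
    have hc := hy1 d hd
    have hcD : y * d * y⁻¹ * d⁻¹ ∈ D :=
      D.mul_mem ((conj_mem_iff_of_normalizer hy d).2 hd) (D.inv_mem hd)
    have h1 := hx2 _ hc hcD
    have : x * y * d * (x * y)⁻¹ * d⁻¹ = (y * d * y⁻¹ * d⁻¹) * (x * d * x⁻¹ * d⁻¹) := by
      rw [show x * y * d * (x * y)⁻¹ * d⁻¹ =
        (x * (y * d * y⁻¹ * d⁻¹)) * (d * x⁻¹ * d⁻¹) from by group, h1]
      group
    rw [this]
    exact A.mul_mem hc (hx1 d hd)
  inv_mem' := by
    rintro x ⟨hx, hx1, hx2⟩
    have hfix : ∀ a ∈ A, a ∈ D → x⁻¹ * a = a * x⁻¹ := fun a ha had => by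
      have := hx2 a ha had
      calc x⁻¹ * a = x⁻¹ * (a * x) * x⁻¹ := by group
        _ = x⁻¹ * (x * a) * x⁻¹ := by rw [this]
        _ = a * x⁻¹ := by group
    refine ⟨inv_mem hx, fun d hd => ?_, hfix⟩
    set e := x * d * x⁻¹ * d⁻¹ with he
    have heD : e ∈ D := D.mul_mem ((conj_mem_iff_of_normalizer hx d).2 hd) (D.inv_mem hd)
    have h1 := hfix e (hx1 d hd) heD
    have : x⁻¹ * d * x⁻¹⁻¹ * d⁻¹ = e⁻¹ := by
      rw [eq_inv_iff_mul_eq_one]
      calc x⁻¹ * d * x⁻¹⁻¹ * d⁻¹ * e = x⁻¹ * d * x * d⁻¹ * x⁻¹ * x * e := by group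
        _ = x⁻¹ * d * x * d⁻¹ * (x⁻¹ * e) * x * (x⁻¹ * e)⁻¹ * (x⁻¹ * e) := by
            rw [h1]; group
        _ = 1 := by rw [he]; group
    rw [this]
    exact A.inv_mem (hx1 d hd)

theorem pow_conj_eq {A D : Subgroup G} {x d : G} (hx : x ∈ chainStab A D) (hd : d ∈ D) (n : ℕ) :
    x ^ n * d * (x ^ n)⁻¹ = (x * d * x⁻¹ * d⁻¹) ^ n * d := by
  obtain ⟨hxN, hx1, hx2⟩ := hx
  set e := x * d * x⁻¹ * d⁻¹ with he
  have heD : e ∈ D := D.mul_mem ((conj_mem_iff_of_normalizer hxN d).2 hd) (D.inv_mem hd)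
  induction n with
  | zero => simp
  | succ k ih =>
    have hc : x * e ^ k = e ^ k * x := Commute.pow_right (hx2 e (hx1 d hd) heD) k
    calc x ^ (k + 1) * d * (x ^ (k + 1))⁻¹ = x * (x ^ k * d * (x ^ k)⁻¹) * x⁻¹ := by
          rw [pow_succ']; group
      _ = (x * e ^ k) * d * x⁻¹ := by rw [ih]; group
      _ = e ^ k * x * d * x⁻¹ := by rw [hc]
      _ = e ^ (k + 1) * d := by rw [pow_succ, he]; group

theorem exists_pow_centralizes [Finite G] [Fact p.Prime] {A D : Subgroup G} (hA : IsPGroup p ↥A)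
    {x : G} (hx : x ∈ chainStab A D) :
    ∃ k : ℕ, x ^ p ^ k ∈ Subgroup.centralizer (D : Set G) := by
  obtain ⟨k, hk⟩ := IsPGroup.iff_card.1 hA
  refine ⟨k, Subgroup.mem_centralizer_iff.2 fun d hd => ?_⟩
  have h1 := pow_conj_eq hx hd (p ^ k)
  have h2 : (⟨_, hx.2.1 d hd⟩ : ↥A) ^ p ^ k = 1 := by rw [← hk]; exact pow_card_eq_one'
  have h3 : (x * d * x⁻¹ * d⁻¹) ^ p ^ k = 1 := congrArg Subtype.val h2
  rw [h3, one_mul, mul_inv_eq_iff_eq_mul] at h1
  exact h1.symm

theorem chainStab_conj {A D : Subgroup G} (hAD : ∀ n ∈ Subgroup.normalizer (D : Set G),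
      ∀ a ∈ A, a ∈ D → n * a * n⁻¹ ∈ A)
    {n x : G} (hn : n ∈ Subgroup.normalizer (D : Set G)) (hx : x ∈ chainStab A D) :
    n * x * n⁻¹ ∈ chainStab A D := by
  obtain ⟨hxN, hx1, hx2⟩ := hx
  refine ⟨mul_mem (mul_mem hn hxN) (inv_mem hn), fun d hd => ?_, fun a ha had => ?_⟩
  · have hd' : n⁻¹ * d * n ∈ D := by
      simpa using (conj_mem_iff_of_normalizer (inv_mem hn) d).2 hd
    set e := x * (n⁻¹ * d * n) * x⁻¹ * (n⁻¹ * d * n)⁻¹ with he
    have heD : e ∈ D := D.mul_mem ((conj_mem_iff_of_normalizer hxN _).2 hd') (D.inv_mem hd')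
    have : n * x * n⁻¹ * d * (n * x * n⁻¹)⁻¹ * d⁻¹ = n * e * n⁻¹ := by rw [he]; group
    rw [this]
    exact hAD n hn e (hx1 _ hd') heD
  · have had' : n⁻¹ * a * n ∈ D := by
      simpa using (conj_mem_iff_of_normalizer (inv_mem hn) a).2 had
    have ha' : n⁻¹ * a * n ∈ A := by simpa using hAD n⁻¹ (inv_mem hn) a ha had
    calc n * x * n⁻¹ * a = n * (x * (n⁻¹ * a * n)) * n⁻¹ := by group
      _ = n * ((n⁻¹ * a * n) * x) * n⁻¹ := by rw [hx2 _ ha' had']
      _ = a * (n * x * n⁻¹) := by group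

theorem card_lt_normalizer_inf [Finite G] [Fact p.Prime] {S D : Subgroup G} (hS : IsPGroup p ↥S)
    (hlt : D < S) : ∃ x ∈ S, x ∈ Subgroup.normalizer (D : Set G) ∧ x ∉ D := by
  haveI := IsPGroup.isNilpotent hS
  have hlt' : D.subgroupOf S < ⊤ := lt_top_iff_ne_top.2 fun h =>
    hlt.not_ge (Subgroup.subgroupOf_eq_top.1 h)
  obtain ⟨x, hx, hxD⟩ := SetLike.exists_of_lt (normalizerCondition_of_isNilpotent _ hlt')
  rw [← Subgroup.subgroupOf_normalizer_eq hlt.le] at hx
  exact ⟨x, x.2, hx, hxD⟩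

theorem controlsStrongFusion_of_stronglyClosed [Finite G] [Fact p.Prime] (S : Sylow p G)
    (A : Subgroup G) (hA : IsMulCommutative ↥A)
    (hsc : Cfsg.IsStronglyClosed A (S : Subgroup G)) : Cfsg.ControlsStrongFusion p A := by
  obtain ⟨hAS, hcl⟩ := hsc
  have hAp : IsPGroup p ↥A := S.isPGroup'.to_le hAS
  have hAn : ∀ s ∈ (S : Subgroup G), ∀ a ∈ A, s * a * s⁻¹ ∈ A := fun s hs a ha =>
    hcl a ha s (mul_mem (mul_mem hs (hAS ha)) (inv_mem hs))
  have hAc : ∀ a ∈ A, ∀ b ∈ A, a * b = b * a := fun a ha b hb =>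
    congrArg Subtype.val (hA.is_comm.comm ⟨a, ha⟩ ⟨b, hb⟩)
  have main : ∀ (m : ℕ) (D : Subgroup G), D ≤ (S : Subgroup G) →
      Nat.card ↥(S : Subgroup G) - Nat.card ↥D = m →
      ∀ g : G, (∀ d ∈ D, g * d * g⁻¹ ∈ (S : Subgroup G)) →
        ∃ x ∈ Subgroup.normalizer (A : Set G), ∀ d ∈ D, g * d * g⁻¹ = x * d * x⁻¹ := by
    intro m
    induction m using Nat.strong_induction_on with
    | _ m ih =>
    intro D hDS hm g hg
    have IH : ∀ E : Subgroup G, E ≤ (S : Subgroup G) → D ≤ E → (∃ e ∈ E, e ∉ D) → ∀ g : G,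
        (∀ d ∈ E, g * d * g⁻¹ ∈ (S : Subgroup G)) →
        ∃ x ∈ Subgroup.normalizer (A : Set G), ∀ d ∈ E, g * d * g⁻¹ = x * d * x⁻¹ := by
      intro E hES hDE ⟨e, heE, heD⟩
      refine ih _ ?_ E hES rfl
      have h1 : Nat.card ↥D < Nat.card ↥E := by
        refine lt_of_le_of_ne (Subgroup.card_le_of_le hDE) fun h0 => heD ?_
        rw [Subgroup.eq_of_le_of_card_ge hDE h0.ge]; exact heE
      have h2 := Subgroup.card_le_of_le hES
      omega
    -- the top case
    rcases eq_or_lt_of_le hDS with rfl | hlt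
    · refine ⟨g, ?_, fun _ _ => rfl⟩
      refine mem_normalizer_of_map_eq (Subgroup.eq_of_le_of_card_ge ?_
        (le_of_eq (Subgroup.card_map_of_injective (MulAut.conj g).injective).symm))
      rintro _ ⟨a, ha, rfl⟩
      exact hcl a ha g (hg a (hAS ha))
    -- a fully normalized conjugate
    set N := Subgroup.normalizer (D : Set G) with hN
    have hNSp : IsPGroup p ↥((S : Subgroup G) ⊓ N) := S.isPGroup'.to_le inf_le_left
    obtain ⟨P, hP⟩ := (hNSp.comap_of_injective N.subtype N.subtype_injective).exists_le_sylow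
    obtain ⟨R, hR⟩ := (P.isPGroup'.map N.subtype).exists_le_sylow
    obtain ⟨h, hh⟩ := MulAction.exists_smul_eq G R S
    set Ds := D.map (MulAut.conj h).toMonoidHom with hDs
    have hNS : (S : Subgroup G) ⊓ N ≤ (P : Subgroup ↥N).map N.subtype := fun x hx =>
      ⟨⟨x, hx.2⟩, hP hx, rfl⟩
    have hinto : ∀ x ∈ (P : Subgroup ↥N).map N.subtype, h * x * h⁻¹ ∈ (S : Subgroup G) := by
      intro x hx
      rw [← hh, sylow_smul_coe]
      exact Subgroup.mem_map_of_mem _ (hR hx)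
    have hDNS : D ≤ (S : Subgroup G) ⊓ N := le_inf hDS Subgroup.le_normalizer
    have hDsS : Ds ≤ (S : Subgroup G) := by
      rintro _ ⟨d, hd, rfl⟩
      exact hinto d (hNS (hDNS hd))
    set Ns := Subgroup.normalizer (Ds : Set G) with hNs
    -- every `p`-subgroup of `N(D*)` moves into `S`
    have hsyl : ∀ U : Subgroup G, IsPGroup p ↥U → U ≤ Ns →
        ∃ n ∈ Ns, ∀ u ∈ U, n * u * n⁻¹ ∈ (S : Subgroup G) := by
      intro U hU hUN
      have hU' : U.map (MulAut.conj h⁻¹).toMonoidHom ≤ N := by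
        rintro _ ⟨u, hu, rfl⟩
        have := hUN hu
        rw [hNs, hDs, normalizer_map_conj, mem_map_conj] at this
        simpa using this
      obtain ⟨n, hn, hle⟩ := exists_conj_le_sylow_map P (hU.map _) hU'
      refine ⟨h * n * h⁻¹, ?_, fun u hu => ?_⟩
      · rw [hNs, hDs, normalizer_map_conj]; exact ⟨n, hn, rfl⟩
      · have := hinto _ (hle ⟨_, ⟨u, hu, rfl⟩, rfl⟩)
        simpa [mul_assoc] using this
    -- automorphisms of the fully normalized subgroup
    have autom : ∀ n ∈ Ns,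
        ∃ x ∈ Subgroup.normalizer (A : Set G), ∀ d ∈ Ds, n * d * n⁻¹ = x * d * x⁻¹ := by
      intro n hn
      by_cases hADs : A ≤ Ds
      · refine ⟨n, ?_, fun _ _ => rfl⟩
        refine mem_normalizer_of_map_eq (Subgroup.eq_of_le_of_card_ge ?_
          (le_of_eq (Subgroup.card_map_of_injective (MulAut.conj n).injective).symm))
        rintro _ ⟨a, ha, rfl⟩
        exact hcl a ha n (hDsS ((conj_mem_iff_of_normalizer hn a).2 (hADs ha)))
      have hAD : ∀ n ∈ Ns, ∀ a ∈ A, a ∈ Ds → n * a * n⁻¹ ∈ A := fun n hn a ha had =>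
        hcl a ha n (hDsS ((conj_mem_iff_of_normalizer hn a).2 had))
      set L := chainStab A Ds with hL
      set Q := (S : Subgroup G) ⊓ L with hQ
      have hLN : L ≤ Ns := fun x hx => hx.1
      -- `A ⊓ N(D*)` is not contained in `D*`
      obtain ⟨a, haA, haN, haD⟩ : ∃ a ∈ A, a ∈ Ns ∧ a ∉ Ds := by
        set U := A ⊔ Ds
        have hUS : U ≤ (S : Subgroup G) := sup_le hAS hDsS
        have hUlt : Ds < U := lt_of_le_of_ne le_sup_right fun h0 => hADs (h0 ▸ le_sup_left)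
        obtain ⟨u, hu, huN, huD⟩ := card_lt_normalizer_inf (S.isPGroup'.to_le hUS) hUlt
        have hu' : u ∈ A ⊔ Ds := hu
        rw [Subgroup.sup_eq_closure] at hu'
        have hnorm : Ds ≤ Subgroup.normalizer (A : Set G) := by
          intro d hd
          rw [Subgroup.mem_normalizer_iff]
          intro x
          refine ⟨hAn d (hDsS hd) x, fun hx => ?_⟩
          simpa [mul_assoc] using hAn d⁻¹ (inv_mem (hDsS hd)) _ hx
        have hu2 : u ∈ ((A : Set G) * (Ds : Set G)) := by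
          rw [← Subgroup.coe_mul_of_right_le_normalizer_left A Ds hnorm]; exact hu
        obtain ⟨a, ha, d, hd, rfl⟩ := Set.mem_mul.1 hu2
        refine ⟨a, ha, ?_, fun h0 => huD (mul_mem h0 hd)⟩
        simpa using mul_mem huN (inv_mem (Subgroup.le_normalizer hd))
      have haQ : a ∈ Q := by
        refine ⟨hAS haA, haN, fun d hd => ?_, fun b hb _ => hAc a haA b hb⟩
        rw [mul_assoc, mul_assoc, ← mul_assoc d]
        exact mul_mem haA (hAn d (hDsS hd) a⁻¹ (inv_mem haA))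
      -- `Q` is a largest `p`-subgroup of `L`
      have hQmax : ∀ U : Subgroup G, IsPGroup p ↥U → U ≤ L → Nat.card ↥U ≤ Nat.card ↥Q := by
        intro U hU hUL
        obtain ⟨k, hk, hkS⟩ := hsyl U hU (hUL.trans hLN)
        have hcU : Nat.card ↥(U.map (MulAut.conj k).toMonoidHom) = Nat.card ↥U :=
          Subgroup.card_map_of_injective (MulAut.conj k).injective
        refine le_trans hcU.symm.le
          (Subgroup.card_le_of_le (K := Q) ?_)
        rintro _ ⟨u, hu, rfl⟩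
        exact ⟨hkS u hu, chainStab_conj hAD hk (hUL hu)⟩
      have hQp : IsPGroup p ↥Q := S.isPGroup'.to_le inf_le_left
      obtain ⟨QL, hQL⟩ : ∃ QL : Sylow p ↥L, (QL : Subgroup ↥L).map L.subtype = Q := by
        obtain ⟨QL, hle⟩ := (hQp.comap_of_injective L.subtype L.subtype_injective).exists_le_sylow
        refine ⟨QL, (Subgroup.eq_of_le_of_card_ge
          (fun x (hx : x ∈ Q) => Subgroup.mem_map.2 ⟨⟨x, hx.2⟩, hle hx, rfl⟩)
          (hQmax _ (QL.isPGroup'.map _) (Subgroup.map_subtype_le _))).symm⟩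
      -- `L = C(D*) Q`
      set C := (Subgroup.centralizer (Ds : Set G)).subgroupOf L with hC
      haveI hCn : C.Normal := by
        refine ⟨fun c hc l => ?_⟩
        rw [hC, Subgroup.mem_subgroupOf, Subgroup.mem_centralizer_iff] at hc ⊢
        intro d hd
        have h1 : (l : G)⁻¹ * d * l ∈ Ds := by
          simpa using (conj_mem_iff_of_normalizer (inv_mem (hLN l.2)) d).2 hd
        calc d * ((l : G) * c * (l : G)⁻¹)
            = (l : G) * (((l : G)⁻¹ * d * l) * c) * (l : G)⁻¹ := by group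
          _ = (l : G) * ((c : G) * ((l : G)⁻¹ * d * l)) * (l : G)⁻¹ := by rw [hc _ h1]
          _ = (l : G) * c * (l : G)⁻¹ * d := by group
      have hLC : IsPGroup p (↥L ⧸ C) := by
        intro q
        induction q using QuotientGroup.induction_on with | H l => ?_
        obtain ⟨k, hk⟩ := exists_pow_centralizes hAp l.2
        exact ⟨k, (QuotientGroup.eq_one_iff _).2 hk⟩
      have htop : C ⊔ (QL : Subgroup ↥L) = ⊤ := by
        rw [← Subgroup.index_eq_one]
        obtain ⟨k, hk⟩ := IsPGroup.iff_card.1 hLC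
        refine Nat.eq_one_of_dvd_coprimes (Nat.Coprime.pow_left k
          ((Nat.Prime.coprime_iff_not_dvd Fact.out).2 QL.not_dvd_index))
          (hk ▸ Subgroup.index_dvd_of_le le_sup_left) (Subgroup.index_dvd_of_le le_sup_right)
      -- Frattini
      obtain ⟨l, hl, hle⟩ := exists_conj_le_sylow_map QL (hQp.map (MulAut.conj n).toMonoidHom)
        (by rintro _ ⟨x, hx, rfl⟩; exact chainStab_conj hAD hn hx.2)
      rw [hQL, map_conj_map_conj] at hle
      have hy0 : l * n ∈ Subgroup.normalizer (Q : Set G) :=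
        mem_normalizer_of_map_eq (Subgroup.eq_of_le_of_card_ge hle
          (le_of_eq (Subgroup.card_map_of_injective (MulAut.conj (l * n)).injective).symm))
      obtain ⟨c, hc, q, hq, hcq⟩ : ∃ c ∈ C, ∃ q ∈ (QL : Subgroup ↥L), c * q = (⟨l, hl⟩ : ↥L)⁻¹ := by
        have : (⟨l, hl⟩ : ↥L)⁻¹ ∈ C ⊔ (QL : Subgroup ↥L) := by rw [htop]; exact Subgroup.mem_top _
        exact Subgroup.mem_sup_of_normal_left.1 this
      have hqQ : (q : G) ∈ Q := hQL ▸ ⟨q, hq, rfl⟩
      set y := (q : G) * (l * n) with hy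
      have hyQ : y ∈ Subgroup.normalizer (Q : Set G) := mul_mem (Subgroup.le_normalizer hqQ) hy0
      have hyD : y ∈ Ns := mul_mem (hLN q.2) (mul_mem (hLN hl) hn)
      have hny : n = (c : G) * y := by
        have := congrArg Subtype.val hcq
        simp only [Subgroup.coe_mul, Subgroup.coe_inv] at this
        rw [hy, ← mul_assoc, this, inv_mul_cancel_left]
      -- apply induction to `D* Q`
      have hE : Ds ⊔ Q ≤ (S : Subgroup G) := sup_le hDsS inf_le_left
      have hyE : ∀ d ∈ Ds ⊔ Q, y * d * y⁻¹ ∈ (S : Subgroup G) := by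
        intro d hd
        have : (Ds ⊔ Q).map (MulAut.conj y).toMonoidHom = Ds ⊔ Q := by
          rw [Subgroup.map_sup, map_conj_of_mem_normalizer' hyD, map_conj_of_mem_normalizer' hyQ]
        exact hE (this ▸ Subgroup.mem_map_of_mem _ hd)
      obtain ⟨x, hx, hxy⟩ : ∃ x ∈ Subgroup.normalizer (A : Set G),
          ∀ d ∈ Ds ⊔ Q, y * d * y⁻¹ = x * d * x⁻¹ := by
        refine ih _ ?_ (Ds ⊔ Q) hE rfl y hyE
        have h1 : Nat.card ↥D < Nat.card ↥(Ds ⊔ Q) := by
          rw [← show Nat.card ↥Ds = Nat.card ↥D from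
            Subgroup.card_map_of_injective (MulAut.conj h).injective]
          refine lt_of_le_of_ne (Subgroup.card_le_of_le le_sup_left) fun h0 => haD ?_
          rw [Subgroup.eq_of_le_of_card_ge le_sup_left h0.ge]
          exact Subgroup.mem_sup_right haQ
        have h2 := Subgroup.card_le_of_le hE
        omega
      refine ⟨x, hx, fun d hd => ?_⟩
      rw [← hxy d (Subgroup.mem_sup_left hd), hny]
      have h1 : (c : G) * (y * d * y⁻¹) = (y * d * y⁻¹) * c :=
        (Subgroup.mem_centralizer_iff.1 hc _ ((conj_mem_iff_of_normalizer hyD d).2 hd)).symm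
      calc (c : G) * y * d * ((c : G) * y)⁻¹ = (c : G) * (y * d * y⁻¹) * (c : G)⁻¹ := by group
        _ = _ := by rw [h1, mul_inv_cancel_right]
    -- the factorization
    obtain ⟨e, heS, heN, heD⟩ := card_lt_normalizer_inf S.isPGroup' hlt
    obtain ⟨x₁, hx₁, h₁⟩ := IH _ inf_le_left hDNS ⟨e, ⟨heS, heN⟩, heD⟩ h
      (fun x hx => hinto x (hNS hx))
    set D' := D.map (MulAut.conj g).toMonoidHom with hD'
    have hD'S : D' ≤ (S : Subgroup G) := by
      rintro _ ⟨d, hd, rfl⟩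
      exact hg d hd
    set k := h * g⁻¹ with hk
    have hkD : D'.map (MulAut.conj k).toMonoidHom = Ds := by
      rw [hD', map_conj_map_conj, hk, inv_mul_cancel_right]
    obtain ⟨n, hn, hnS⟩ := hsyl
      (((S : Subgroup G) ⊓ Subgroup.normalizer (D' : Set G)).map (MulAut.conj k).toMonoidHom)
      ((S.isPGroup'.to_le inf_le_left).map _)
      (by
        refine (Subgroup.map_mono inf_le_right).trans (le_of_eq ?_)
        rw [hNs, ← hkD, normalizer_map_conj D' k])
    have hcard : Nat.card ↥D' = Nat.card ↥D :=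
      Subgroup.card_map_of_injective (MulAut.conj g).injective
    obtain ⟨x₃, hx₃, h₃⟩ : ∃ x ∈ Subgroup.normalizer (A : Set G),
        ∀ d ∈ (S : Subgroup G) ⊓ Subgroup.normalizer (D' : Set G),
          (n * k) * d * (n * k)⁻¹ = x * d * x⁻¹ := by
      refine ih _ ?_ _ inf_le_left rfl (n * k) (fun d hd => ?_)
      · have h0 : D' < (S : Subgroup G) := lt_of_le_of_ne hD'S fun h0 => hlt.ne
          (Subgroup.eq_of_le_of_card_ge hDS (by rw [← hcard, h0]))
        obtain ⟨e, heS, heN, heD⟩ := card_lt_normalizer_inf S.isPGroup' h0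
        have h1 : Nat.card ↥D' < Nat.card ↥((S : Subgroup G) ⊓ Subgroup.normalizer (D' : Set G)) := by
          refine lt_of_le_of_ne (Subgroup.card_le_of_le (le_inf hD'S Subgroup.le_normalizer))
            fun h0 => heD ?_
          rw [Subgroup.eq_of_le_of_card_ge (le_inf hD'S Subgroup.le_normalizer) h0.ge]
          exact ⟨heS, heN⟩
        have h2 := Subgroup.card_le_of_le
          (inf_le_left : (S : Subgroup G) ⊓ Subgroup.normalizer (D' : Set G) ≤ S)
        omega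
      · have := hnS _ (Subgroup.mem_map_of_mem _ hd)
        simpa [mul_assoc] using this
    obtain ⟨x₂, hx₂, h₂⟩ := autom n hn
    refine ⟨x₃⁻¹ * x₂ * x₁, mul_mem (mul_mem (inv_mem hx₃) hx₂) hx₁, fun d hd => ?_⟩
    have e1 := h₁ d (hDNS hd)
    have e2 := h₂ _ (Subgroup.mem_map_of_mem (MulAut.conj h).toMonoidHom hd)
    have e3 := h₃ (g * d * g⁻¹)
      ⟨hg d hd, Subgroup.le_normalizer (Subgroup.mem_map_of_mem (MulAut.conj g).toMonoidHom hd)⟩
    have e2' : n * (h * d * h⁻¹) * n⁻¹ = x₂ * (h * d * h⁻¹) * x₂⁻¹ := e2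
    calc g * d * g⁻¹ = x₃⁻¹ * (x₃ * (g * d * g⁻¹) * x₃⁻¹) * x₃ := by group
      _ = x₃⁻¹ * (n * (h * d * h⁻¹) * n⁻¹) * x₃ := by rw [← e3, hk]; group
      _ = x₃⁻¹ * (x₂ * (x₁ * d * x₁⁻¹) * x₂⁻¹) * x₃ := by rw [e2', e1]
      _ = _ := by group
  refine ⟨S, hAS, fun B hB => ⟨hB, fun g hg => ?_⟩⟩
  obtain ⟨x, hx, hxd⟩ := main _ (Subgroup.closure B) ((Subgroup.closure_le _).2 hB) rfl g (by
    intro d hd
    have : Subgroup.closure B ≤ (S : Subgroup G).comap (MulAut.conj g).toMonoidHom :=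
      (Subgroup.closure_le _).2 fun b hb => hg ⟨b, hb, rfl⟩
    exact this hd)
  exact ⟨x, hx, fun a ha => hxd a (Subgroup.subset_closure ha)⟩

end Cfsg.Agent.LocalEven61
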