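import Cfsg.Agent.LocalEven61.ZJFunctor
import Cfsg.Agent.LocalEven61.QdStability
import Cfsg.Agent.S2763

/-!
In a group isomorphic to `Qd(p)` the subgroup `Z(J(S))` does not control strong fusion.
-/

set_option autoImplicit false
set_option linter.style.haveILetI false

namespace Cfsg.Agent.LocalEven61

variable {p : ℕ} [Fact p.Prime]

theorem not_controlsStrongFusion_of_iso {X : Type*} [Group X]
    (e : X ≃* ↥(Cfsg.qdOver (ZMod p))) :
    ∃ T : Sylow p X, ¬ Cfsg.ControlsStrongFusion p (Cfsg.centerThompsonAOf (T : Subgroup X)) := by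
  haveI : Finite X := Finite.of_injective e e.injective
  haveI : CharP (ZMod p) p := ZMod.charP p
  obtain ⟨T⟩ : Nonempty (Sylow p X) := inferInstance
  refine ⟨T, fun hc => ?_⟩
  set U := Cfsg.centerThompsonAOf (T : Subgroup X) with hU
  -- the normalizer of `U` is proper
  let S : Sylow p ↥(Cfsg.qdOver (ZMod p)) := T.mapSurjective (f := e.toMonoidHom) e.surjective
  let eS : ↥(T : Subgroup X) ≃* ↥(S : Subgroup ↥(Cfsg.qdOver (ZMod p))) :=
    (T : Subgroup X).equivMapOfInjective e.toMonoidHom e.injective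
  have hcardS : Nontrivial ↥(S : Subgroup ↥(Cfsg.qdOver (ZMod p))) := by
    rw [Subgroup.nontrivial_iff_ne_bot]
    refine S.ne_bot_of_dvd_card ?_
    rw [card_qdOver, Nat.card_zmod]
    exact dvd_mul_of_dvd_left (dvd_pow_self p (by norm_num)) _
  have hmain := S2763.main S (zjA ↥(S : Subgroup ↥(Cfsg.qdOver (ZMod p))))
    (zjA_ne_bot S.isPGroup') inferInstance
  have hUmap : U.map e.toMonoidHom =
      (zjA ↥(S : Subgroup ↥(Cfsg.qdOver (ZMod p)))).map
        (S : Subgroup ↥(Cfsg.qdOver (ZMod p))).subtype := by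
    rw [hU, ← map_subtype_zjA, ← map_zjA eS, Subgroup.map_map, Subgroup.map_map]
    rfl
  have hproper : Subgroup.normalizer (U : Set X) ≠ ⊤ := by
    intro htop
    apply hmain.2
    rw [← hmain.1, ← hUmap, ← Subgroup.map_equiv_normalizer_eq, htop,
      Subgroup.map_top_of_surjective _ e.surjective]
  apply hproper
  obtain ⟨T', hUT', hfus⟩ := hc
  set V := (qdLin (F := ZMod p)).ker.map e.symm.toMonoidHom with hV
  haveI : V.Normal := Subgroup.Normal.map inferInstance _ e.symm.surjective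
  have hVp : IsPGroup p ↥V := (isPGroup_ker_qdLin (F := ZMod p)).map _
  have hVT : V ≤ (T : Subgroup X) := hVp.le_sylow_of_normal T
  have hVT' : V ≤ (T' : Subgroup X) := hVp.le_sylow_of_normal T'
  have hTU : (T : Subgroup X) ≤ Subgroup.normalizer (U : Set X) := by
    rw [hU, PLocalB.centerThompsonAOf_eq_core]
    exact Subgroup.le_normalizer.trans ((PLocalB.abelianFamily X).normalizer_le_core _)
  rw [eq_top_iff]
  intro g _
  obtain ⟨x, hx, heq⟩ := (hfus (V : Set X) hVT').2 g (by
    rintro _ ⟨v, hv, rfl⟩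
    exact hVT' ((inferInstance : V.Normal).conj_mem v hv g))
  have hlin : qdLin (e (x⁻¹ * g)) = 1 := by
    refine qdTrans_eq_zero_of_centralizes (Subgroup.mem_centralizer_iff.2 fun w hw => ?_)
    have h := heq (e.symm w) ⟨w, hw, rfl⟩
    have h' : e.symm w * (x⁻¹ * g) = x⁻¹ * g * e.symm w := by
      calc e.symm w * (x⁻¹ * g) = x⁻¹ * (x * e.symm w * x⁻¹) * g := by group
        _ = x⁻¹ * (g * e.symm w * g⁻¹) * g := by rw [h]
        _ = x⁻¹ * g * e.symm w := by group
    simpa using congrArg e h'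
  have hmem : x⁻¹ * g ∈ V := ⟨e (x⁻¹ * g), hlin, e.symm_apply_apply _⟩
  simpa using mul_mem hx (hTU (hVT hmem))

end Cfsg.Agent.LocalEven61
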